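import Cfsg.Agent.HexEss.Basic

/-!
# Abelian subgroups of `Da` and of `JJ`

`card_sq_le_Da`: an abelian subgroup `A` of `Da` satisfies `|A|² ≤ |Da| |Z|`;
`card_sq_le_JJ`: an abelian subgroup `A` of `JJ` satisfies `|A|² ≤ |JJ| |E2|`.
Also: centralizers and commutator maps in `Da`, `JJ`, `Db`.
-/

set_option autoImplicit false

namespace Cfsg.Agent.HexEss.Abel

open Cfsg.Agent.HexRec Subgroup Cfsg.Agent.HexEss

/-! ### Linear algebra -/

theorem card_sq_le {F W : Type*} [Field F] [Finite F] [AddCommGroup W] [Module F W] [Finite W]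
    (B : LinearMap.BilinForm F W) (hB : B.Nondegenerate) (A : Set W) (hA : ∀ a ∈ A, ∀ b ∈ A, B a b = 0) :
    Nat.card A ^ 2 ≤ Nat.card W := by
  have hfin : Module.Finite F W := inferInstance
  set U := Submodule.span F A with hU
  have h1 : ∀ u ∈ U, ∀ u' ∈ U, B u u' = 0 := by
    intro u hu
    have h2 : A ⊆ (LinearMap.ker (B u) : Submodule F W) := by
      intro a ha
      have h3 : U ≤ LinearMap.ker (LinearMap.flip B a) := by
        rw [hU, Submodule.span_le]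
        intro b hb
        exact hA b hb a ha
      exact h3 hu
    intro u' hu'
    exact (Submodule.span_le.2 h2) hu'
  have h2 : U ≤ B.orthogonal U := fun u hu u' hu' => h1 u' hu' u hu
  have h3 := Submodule.finrank_mono h2
  rw [LinearMap.BilinForm.finrank_orthogonal hB] at h3
  have h4 : Module.finrank F U ≤ Module.finrank F W := Submodule.finrank_le U
  have h5 : 2 * Module.finrank F U ≤ Module.finrank F W := by omega
  have h6 : Nat.card A ≤ Nat.card U :=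
    Nat.card_le_card_of_injective (fun a : A => (⟨a, Submodule.subset_span a.2⟩ : U))
      (fun a b hab => Subtype.ext (congrArg (fun x : U => (x : W)) hab))
  have hF : 0 < Nat.card F := Nat.card_pos
  calc Nat.card A ^ 2 ≤ Nat.card U ^ 2 := Nat.pow_le_pow_left h6 2
    _ = (Nat.card F ^ Module.finrank F U) ^ 2 := by rw [← Module.natCard_eq_pow_finrank]
    _ = Nat.card F ^ (2 * Module.finrank F U) := by rw [← pow_mul, mul_comm]
    _ ≤ Nat.card F ^ Module.finrank F W := Nat.pow_le_pow_right hF h5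
    _ = Nat.card W := (Module.natCard_eq_pow_finrank).symm

variable {F K : Type*} [Field F] [Field K] [Algebra F K] {C : Cubic F K}

/-- the form on `Da / Z` -/
def formA (C : Cubic F K) : LinearMap.BilinForm F (F × K × K × F) :=
  LinearMap.mk₂ F (fun w w' => w.1 * w'.2.2.2 + w'.1 * w.2.2.2 + C.T w.2.1 w'.2.2.1 + C.T w.2.2.1 w'.2.1)
    (by intro a b c; simp only [Prod.fst_add, Prod.snd_add, C.T_add_left]; ring)
    (by intro f a b; simp only [Prod.smul_fst, Prod.smul_snd, C.T_smul_left, smul_eq_mul]; ring)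
    (by intro a b c; simp only [Prod.fst_add, Prod.snd_add, C.T_add_right]; ring)
    (by intro f a b; simp only [Prod.smul_fst, Prod.smul_snd, C.T_smul_right, smul_eq_mul]; ring)

theorem formA_apply (w w' : F × K × K × F) : formA C w w' =
    w.1 * w'.2.2.2 + w'.1 * w.2.2.2 + C.T w.2.1 w'.2.2.1 + C.T w.2.2.1 w'.2.1 := rfl

theorem formA_nondegenerate : (formA C).Nondegenerate := by
  have key : ∀ w : F × K × K × F, (∀ w', formA C w w' = 0) → w = 0 := by
    rintro ⟨u, s, k, v⟩ hw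
    have h1 : u = 0 := by
      have := hw (0, 0, 0, 1)
      simpa [formA_apply, C.T_zero_right] using this
    have h2 : v = 0 := by
      have := hw (1, 0, 0, 0)
      simpa [formA_apply, C.T_zero_right] using this
    have h3 : s = 0 := by
      apply C.T_nondeg
      intro b
      have := hw (0, 0, b, 0)
      simpa [formA_apply, C.T_zero_right] using this
    have h4 : k = 0 := by
      apply C.T_nondeg
      intro b
      have := hw (0, b, 0, 0)
      simpa [formA_apply, C.T_zero_right] using this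
    rw [h1, h2, h3, h4]; rfl
  have hsymm : ∀ w w', formA C w w' = formA C w' w := by
    intro w w'
    rw [formA_apply, formA_apply, C.T_comm w.2.1, C.T_comm w.2.2.1]; ring
  exact ⟨key, fun w hw => key w fun w' => by rw [hsymm]; exact hw w'⟩

/-- the form on `JJ / E2` -/
def formJ (C : Cubic F K) : LinearMap.BilinForm F (K × K) :=
  LinearMap.mk₂ F (fun w w' => C.T w.1 w'.2 + C.T w.2 w'.1)
    (by intro a b c; simp only [Prod.fst_add, Prod.snd_add, C.T_add_left]; ring)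
    (by intro f a b; simp only [Prod.smul_fst, Prod.smul_snd, C.T_smul_left, smul_eq_mul]; ring)
    (by intro a b c; simp only [Prod.fst_add, Prod.snd_add, C.T_add_right]; ring)
    (by intro f a b; simp only [Prod.smul_fst, Prod.smul_snd, C.T_smul_right, smul_eq_mul]; ring)

theorem formJ_apply (w w' : K × K) : formJ C w w' = C.T w.1 w'.2 + C.T w.2 w'.1 := rfl

theorem formJ_nondegenerate : (formJ C).Nondegenerate := by
  have key : ∀ w : K × K, (∀ w', formJ C w w' = 0) → w = 0 := by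
    rintro ⟨s, k⟩ hw
    have h3 : s = 0 := by
      apply C.T_nondeg
      intro b
      have := hw (0, b)
      simpa [formJ_apply, C.T_zero_right] using this
    have h4 : k = 0 := by
      apply C.T_nondeg
      intro b
      have := hw (b, 0)
      simpa [formJ_apply, C.T_zero_right] using this
    rw [h3, h4]; rfl
  have hsymm : ∀ w w', formJ C w w' = formJ C w' w := by
    intro w w'
    rw [formJ_apply, formJ_apply, C.T_comm w.1, C.T_comm w.2]; ring
  exact ⟨key, fun w hw => key w fun w' => by rw [hsymm]; exact hw w'⟩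

/-! ### Counting through a homomorphism -/

/-- `|A| ≤ |image| · |kernel|` -/
theorem card_le_image {G W : Type*} [Group G] [Finite G] {A Z : Subgroup G} (ω : G → W)
    (hω : ∀ g ∈ A, ∀ h ∈ A, ω g = ω h → g⁻¹ * h ∈ Z) [Finite W] : Nat.card A ≤ Nat.card (ω '' A) * Nat.card Z := by
  classical
  rw [← Nat.card_prod]
  have hch : ∀ w : ω '' (A : Set G), ∃ g ∈ A, ω g = w := by
    rintro ⟨w, g, hg, rfl⟩
    exact ⟨g, hg, rfl⟩
  choose f hf hf' using hch
  let w : A → ω '' (A : Set G) := fun g => ⟨ω g, g, g.2, rfl⟩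
  apply Nat.card_le_card_of_injective (fun g : A => (w g, (⟨(f (w g))⁻¹ * g, hω _ (hf _) _ g.2 (hf' _)⟩ : Z)))
  rintro g h hgh
  have h1 : w g = w h := (Prod.ext_iff.1 hgh).1
  have h2 : (f (w g))⁻¹ * (g : G) = (f (w h))⁻¹ * (h : G) := congrArg Subtype.val (Prod.ext_iff.1 hgh).2
  rw [h1] at h2
  exact Subtype.ext (mul_left_cancel h2)

/-- `|image| · |kernel| ≤ |B|` -/
theorem card_image_le {G W : Type*} [Group G] [Finite G] {B Z : Subgroup G} (hZB : Z ≤ B) (ω : G → W)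
    (hω : ∀ g ∈ B, ∀ z ∈ Z, ω (g * z) = ω g) (hsurj : ∀ w, ∃ g ∈ B, ω g = w) :
    Nat.card W * Nat.card Z ≤ Nat.card B := by
  classical
  rw [← Nat.card_prod]
  choose f hf hf' using hsurj
  apply Nat.card_le_card_of_injective (fun p : W × Z => (⟨f p.1 * p.2, mul_mem (hf _) (hZB p.2.2)⟩ : B))
  rintro ⟨w, z⟩ ⟨w', z'⟩ h
  have h1 : f w * (z : G) = f w' * (z' : G) := congrArg Subtype.val h
  have h2 : w = w' := by
    rw [← hf' w, ← hf' w', ← hω _ (hf w) z z.2, h1, hω _ (hf w') z' z'.2]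
  subst h2
  have h3 : z = z' := Subtype.ext (mul_left_cancel h1)
  rw [h3]

section grp

variable {G : Type*} [Group G] [Finite G] {P : Subgroup G} {co : Coord C P}

theorem finite_K (co : Coord C P) : Finite K := by
  have : Finite (Tup F K) := Finite.of_equiv P co.e
  exact Finite.of_injective (fun k : K => (⟨k, 0, 0, 0, 0, 0⟩ : Tup F K)) (fun a b h => congrArg Tup.a1 h)

theorem finite_F (co : Coord C P) : Finite F := by
  have : Finite (Tup F K) := Finite.of_equiv P co.e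
  exact Finite.of_injective (fun k : F => (⟨0, k, 0, 0, 0, 0⟩ : Tup F K)) (fun a b h => congrArg Tup.a2 h)

/-- the coordinates of `Da / Z` -/
noncomputable def wA (co : Coord C P) (g : G) : F × K × K × F := ((cx co g).a6, (cx co g).a5, (cx co g).a3, (cx co g).a2)

/-- the coordinates of `JJ / E2` -/
noncomputable def wJ (co : Coord C P) (g : G) : K × K := ((cx co g).a1, (cx co g).a3)

theorem wA_mul {g h : G} (hg : g ∈ Da co) (hh : h ∈ Da co) : wA co (g * h) = wA co g + wA co h := by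
  unfold wA
  rw [a6_mul hg.1 hh.1, a5_mul hg.1 hh.1, a3_mul hg.1 hh.1, a2_mul hg.1 hh.1, hh.2]
  simp [C.T_zero_left, C.sh_zero, C.N_zero, C.cr_zero_left]

theorem wA_eq_zero {g : G} (hg : g ∈ Da co) : wA co g = 0 ↔ g ∈ Z co := by
  rw [mem_Z]
  simp only [wA, Prod.mk_eq_zero]
  constructor
  · rintro ⟨h6, h5, h3, h2⟩
    exact ⟨hg.1, hg.2, h2, h3, h5, h6⟩
  · rintro ⟨-, -, h2, h3, h5, h6⟩
    exact ⟨h6, h5, h3, h2⟩

theorem wA_inv_mul {g h : G} (hg : g ∈ Da co) (hh : h ∈ Da co) (he : wA co g = wA co h) : g⁻¹ * h ∈ Z co := by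
  have h1 : g⁻¹ * h ∈ Da co := mul_mem (inv_mem hg) hh
  rw [← wA_eq_zero h1]
  have h2 := wA_mul hg h1
  rw [mul_inv_cancel_left, he] at h2
  exact (add_eq_left.1 h2.symm)

theorem cm_Da_eq {g h : G} (hg : g ∈ Da co) (hh : h ∈ Da co) : (cx co (cm g h)).a4 = formA C (wA co g) (wA co h) := by
  rw [a4_cm_Da_Da hg.1 hh.1 hg.2 hh.2]
  rfl

theorem cm_Da_eq_one {g h : G} (hg : g ∈ Da co) (hh : h ∈ Da co) : cm g h = 1 ↔ formA C (wA co g) (wA co h) = 0 := by
  rw [← cm_Da_eq hg hh]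
  constructor
  · intro h1
    rw [h1, cx_one]
  · intro h1
    have h2 := cm_mem_Z_of_Da hg hh
    exact eq_one_of_cx h2.1 h2.2.1 h2.2.2.1 h2.2.2.2.1 h1 h2.2.2.2.2.1 h2.2.2.2.2.2

theorem exists_wA (w : F × K × K × F) : ∃ g ∈ Da co, wA co g = w := by
  obtain ⟨g, hg, hgw⟩ := exists_cx (co := co) ⟨0, w.2.2.2, w.2.2.1, 0, w.2.1, w.1⟩
  refine ⟨g, ⟨hg, by rw [hgw]⟩, ?_⟩
  unfold wA
  rw [hgw]

/-- an abelian subgroup `A` of `Da` satisfies `|A|² ≤ |Da| |Z|` -/
theorem card_sq_le_Da {A : Subgroup G} (hA : A ≤ Da co) (hab : ∀ g ∈ A, ∀ h ∈ A, cm g h = 1) :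
    Nat.card A ^ 2 ≤ Nat.card (Da co) * Nat.card (Z co) := by
  have hF := finite_F co
  have hK := finite_K co
  have h1 := card_le_image (A := A) (Z := Z co) (wA co) (fun g hg h hh he => wA_inv_mul (hA hg) (hA hh) he)
  have h2 := card_sq_le (formA C) formA_nondegenerate (wA co '' (A : Set G)) (by
    rintro _ ⟨g, hg, rfl⟩ _ ⟨h, hh, rfl⟩
    exact (cm_Da_eq_one (hA hg) (hA hh)).1 (hab g hg h hh))
  have h3 := card_image_le (B := Da co) (Z := Z co) Z_le_Da (wA co) (fun g hg z hz => by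
    rw [wA_mul hg (Z_le_Da hz), (wA_eq_zero (Z_le_Da hz)).2 hz, add_zero]) exists_wA
  calc Nat.card A ^ 2 ≤ (Nat.card (wA co '' (A : Set G)) * Nat.card (Z co)) ^ 2 := Nat.pow_le_pow_left h1 2
    _ = Nat.card (wA co '' (A : Set G)) ^ 2 * Nat.card (Z co) * Nat.card (Z co) := by ring
    _ ≤ Nat.card (F × K × K × F) * Nat.card (Z co) * Nat.card (Z co) :=
        Nat.mul_le_mul_right _ (Nat.mul_le_mul_right _ h2)
    _ ≤ Nat.card (Da co) * Nat.card (Z co) := Nat.mul_le_mul_right _ h3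

/-! ### Commutators in `Da` -/

theorem mem_Z_of_Da {a : G} (ha : a ∈ Da co) (h : ∀ t ∈ Da co, cm t a = 1) : a ∈ Z co := by
  rw [← wA_eq_zero ha]
  apply (formA_nondegenerate (C := C)).2
  intro w
  obtain ⟨g, hg, rfl⟩ := exists_wA (co := co) w
  exact (cm_Da_eq_one hg ha).1 (h g hg)

theorem exists_cm_Da {a z : G} (ha : a ∈ Da co) (haZ : a ∉ Z co) (hz : z ∈ Z co) : ∃ t ∈ Da co, cm t a = z := by
  obtain ⟨t, ht, ht1⟩ : ∃ t ∈ Da co, cm t a ≠ 1 := by
    by_contra hcon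
    push Not at hcon
    exact haZ (mem_Z_of_Da ha hcon)
  have h1 : formA C (wA co t) (wA co a) ≠ 0 := fun h => ht1 ((cm_Da_eq_one ht ha).2 h)
  obtain ⟨t', ht', he⟩ := exists_wA (co := co) (((cx co z).a4 / formA C (wA co t) (wA co a)) • wA co t)
  refine ⟨t', ht', ?_⟩
  have h2 := cm_mem_Z_of_Da ht' ha
  have h3 : (cx co (cm t' a)).a4 = (cx co z).a4 := by
    rw [cm_Da_eq ht' ha, he]
    simp only [map_smul, LinearMap.smul_apply, smul_eq_mul]
    rw [div_mul_cancel₀ _ h1]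
  apply cx_inj (co := co) h2.1 hz.1
  exact Tup.ext (h2.2.1.trans hz.2.1.symm) (h2.2.2.1.trans hz.2.2.1.symm) (h2.2.2.2.1.trans hz.2.2.2.1.symm) h3
    (h2.2.2.2.2.1.trans hz.2.2.2.2.1.symm) (h2.2.2.2.2.2.trans hz.2.2.2.2.2.symm)

/-- the centralizer in `Da` of an element of `Da` is not abelian -/
theorem exists_nc_Da {a : G} (ha : a ∈ Da co) : ∃ g ∈ Da co, ∃ h ∈ Da co, cm g a = 1 ∧ cm h a = 1 ∧ cm g h ≠ 1 := by
  obtain ⟨k, hk⟩ := C.exists_T_eq (a := (1 : K)) one_ne_zero 1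
  rcases hw : wA co a with ⟨u, s, k', v⟩
  have key : ∀ w w' : F × K × K × F, formA C w (u, s, k', v) = 0 → formA C w' (u, s, k', v) = 0 →
      formA C w w' ≠ 0 → ∃ g ∈ Da co, ∃ h ∈ Da co, cm g a = 1 ∧ cm h a = 1 ∧ cm g h ≠ 1 := by
    intro w w' h1 h2 h3
    obtain ⟨g, hg, hgw⟩ := exists_wA (co := co) w
    obtain ⟨h, hh, hhw⟩ := exists_wA (co := co) w'
    refine ⟨g, hg, h, hh, ?_, ?_, ?_⟩
    · rw [cm_Da_eq_one hg ha, hgw, hw]; exact h1
    · rw [cm_Da_eq_one hh ha, hhw, hw]; exact h2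
    · rw [Ne, cm_Da_eq_one hg hh, hgw, hhw]; exact h3
  by_cases hu : u = 0
  · by_cases hv : v = 0
    · apply key (1, 0, 0, 0) (0, 0, 0, 1)
      · simp [formA_apply, hv, C.T_zero_left]
      · simp [formA_apply, hu, C.T_zero_left]
      · simp [formA_apply, C.T_zero_left]
    · apply key (C.T 1 k' / v, 1, 0, 0) (C.T k s / v, 0, k, 0)
      · simp only [formA_apply, C.T_zero_left, mul_zero, add_zero]
        rw [div_mul_cancel₀ _ hv, C.add_self]
      · simp only [formA_apply, C.T_zero_left, mul_zero, add_zero]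
        rw [div_mul_cancel₀ _ hv, C.add_self]
      · simp only [formA_apply, C.T_zero_left, mul_zero, add_zero, zero_add, hk]
        exact one_ne_zero
  · apply key (0, 1, 0, C.T 1 k' / u) (0, 0, k, C.T k s / u)
    · simp only [formA_apply, C.T_zero_left, zero_mul, zero_add, add_zero]
      rw [mul_div_cancel₀ _ hu, C.add_self]
    · simp only [formA_apply, C.T_zero_left, zero_mul, zero_add, add_zero]
      rw [mul_div_cancel₀ _ hu, C.add_self]
    · simp only [formA_apply, C.T_zero_left, zero_mul, add_zero, zero_add, hk]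
      exact one_ne_zero

/-! ### Commutators in `JJ` -/

/-- `U2` -/
noncomputable def Xe (co : Coord C P) : Subgroup G :=
  mkSub co (fun a => a.a1 = 0 ∧ a.a3 = 0 ∧ a.a4 = 0 ∧ a.a5 = 0 ∧ a.a6 = 0) ⟨rfl, rfl, rfl, rfl, rfl⟩ (by
    rintro a b ⟨a1, a3, a4, a5, a6⟩ ⟨b1, b3, b4, b5, b6⟩
    simp [Cubic.mul, a1, a3, a4, a5, a6, b1, b3, b4, b5, b6, C.cr_zero_left, C.T_zero_left])

theorem mem_Xe {g : G} : g ∈ Xe co ↔ g ∈ P ∧ (cx co g).a1 = 0 ∧ (cx co g).a3 = 0 ∧ (cx co g).a4 = 0 ∧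
    (cx co g).a5 = 0 ∧ (cx co g).a6 = 0 := Iff.rfl

theorem Xe_le_E2 : Xe co ≤ E2 co := fun _ h => ⟨h.1, h.2.1, h.2.2.1, h.2.2.2.2.1, h.2.2.2.2.2⟩

theorem cm_mem_Xe {g h : G} (hg : g ∈ JJ co) (hh : h ∈ JJ co) : cm g h ∈ Xe co := by
  have hmem := cm_mem hg.1 hh.1
  have h3 : (cx co (cm g h)).a3 = 0 := by
    rw [a3_cm_Db hg.1 hh.1 hg.2.2 hh.2.2, hg.2.1, hh.2.1, C.cr_zero_right, C.cr_zero_right, add_zero]
  have h5 : (cx co (cm g h)).a5 = 0 := a5_cm_Db hg.1 hh.1 hg.2.2 hh.2.2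
  refine ⟨hmem, a1_cm hg.1 hh.1, h3, ?_, h5, a6_cm hg.1 hh.1⟩
  have e1 : (cx co (cm g h * (h * g))).a4 = (cx co (g * h)).a4 := by rw [cm_mul]
  rw [a4_mul hmem (mul_mem hh.1 hg.1), a4_mul hh.1 hg.1, a4_mul hg.1 hh.1, a6_cm hg.1 hh.1, h5,
    hg.2.1, hg.2.2, hh.2.1, hh.2.2] at e1
  simp only [C.T_zero_left, C.T_zero_right, C.sh_zero, zero_mul, mul_zero, add_zero, ne_eq,
    OfNat.ofNat_ne_zero, not_false_eq_true, zero_pow] at e1
  linear_combination e1

theorem cm_JJ_eq {g h : G} (hg : g ∈ JJ co) (hh : h ∈ JJ co) : (cx co (cm g h)).a2 = formJ C (wJ co g) (wJ co h) := by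
  have := charPF C
  have hmem := cm_mem hg.1 hh.1
  have h' := cm_mem_Xe hg hh
  have e1 : (cx co (cm g h * (h * g))).a2 = (cx co (g * h)).a2 := by rw [cm_mul]
  rw [a2_mul hmem (mul_mem hh.1 hg.1), a2_mul hh.1 hg.1, a2_mul hg.1 hh.1, h'.2.2.1, h'.2.2.2.2.1, h'.2.2.2.2.2,
    hg.2.1, hg.2.2, hh.2.1, hh.2.2] at e1
  simp only [C.T_zero_right, zero_mul, add_zero] at e1
  rw [formJ_apply]
  simp only [wJ]
  rw [C.T_comm (cx co g).a3]
  grind

theorem wJ_mul {g h : G} (hg : g ∈ JJ co) (hh : h ∈ JJ co) : wJ co (g * h) = wJ co g + wJ co h := by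
  unfold wJ
  rw [a1_mul hg.1 hh.1, a3_mul hg.1 hh.1, hg.2.1, hg.2.2]
  simp [C.cr_zero_right]

theorem wJ_eq_zero {g : G} (hg : g ∈ JJ co) : wJ co g = 0 ↔ g ∈ E2 co := by
  rw [mem_E2]
  simp only [wJ, Prod.mk_eq_zero]
  constructor
  · rintro ⟨h1, h3⟩
    exact ⟨hg.1, h1, h3, hg.2.1, hg.2.2⟩
  · rintro ⟨-, h1, h3, -, -⟩
    exact ⟨h1, h3⟩

theorem E2_le_JJ : E2 co ≤ JJ co := E2_le_F0.trans F0_le_JJ

theorem wJ_inv_mul {g h : G} (hg : g ∈ JJ co) (hh : h ∈ JJ co) (he : wJ co g = wJ co h) : g⁻¹ * h ∈ E2 co := by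
  have h1 : g⁻¹ * h ∈ JJ co := mul_mem (inv_mem hg) hh
  rw [← wJ_eq_zero h1]
  have h2 := wJ_mul hg h1
  rw [mul_inv_cancel_left, he] at h2
  exact (add_eq_left.1 h2.symm)

theorem cm_JJ_eq_one {g h : G} (hg : g ∈ JJ co) (hh : h ∈ JJ co) : cm g h = 1 ↔ formJ C (wJ co g) (wJ co h) = 0 := by
  rw [← cm_JJ_eq hg hh]
  constructor
  · intro h1
    rw [h1, cx_one]
  · intro h1
    have h2 := cm_mem_Xe hg hh
    exact eq_one_of_cx h2.1 h2.2.1 h1 h2.2.2.1 h2.2.2.2.1 h2.2.2.2.2.1 h2.2.2.2.2.2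

theorem exists_wJ (w : K × K) : ∃ g ∈ JJ co, wJ co g = w := by
  obtain ⟨g, hg, hgw⟩ := exists_cx (co := co) ⟨w.1, 0, w.2, 0, 0, 0⟩
  refine ⟨g, ⟨hg, by rw [hgw], by rw [hgw]⟩, ?_⟩
  unfold wJ
  rw [hgw]

/-- an abelian subgroup `A` of `JJ` satisfies `|A|² ≤ |JJ| |E2|` -/
theorem card_sq_le_JJ {A : Subgroup G} (hA : A ≤ JJ co) (hab : ∀ g ∈ A, ∀ h ∈ A, cm g h = 1) :
    Nat.card A ^ 2 ≤ Nat.card (JJ co) * Nat.card (E2 co) := by
  have hF := finite_F co
  have hK := finite_K co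
  have h1 := card_le_image (A := A) (Z := E2 co) (wJ co) (fun g hg h hh he => wJ_inv_mul (hA hg) (hA hh) he)
  have h2 := card_sq_le (formJ C) formJ_nondegenerate (wJ co '' (A : Set G)) (by
    rintro _ ⟨g, hg, rfl⟩ _ ⟨h, hh, rfl⟩
    exact (cm_JJ_eq_one (hA hg) (hA hh)).1 (hab g hg h hh))
  have h3 := card_image_le (B := JJ co) (Z := E2 co) E2_le_JJ (wJ co) (fun g hg z hz => by
    rw [wJ_mul hg (E2_le_JJ hz), (wJ_eq_zero (E2_le_JJ hz)).2 hz, add_zero]) exists_wJ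
  calc Nat.card A ^ 2 ≤ (Nat.card (wJ co '' (A : Set G)) * Nat.card (E2 co)) ^ 2 := Nat.pow_le_pow_left h1 2
    _ = Nat.card (wJ co '' (A : Set G)) ^ 2 * Nat.card (E2 co) * Nat.card (E2 co) := by ring
    _ ≤ Nat.card (K × K) * Nat.card (E2 co) * Nat.card (E2 co) :=
        Nat.mul_le_mul_right _ (Nat.mul_le_mul_right _ h2)
    _ ≤ Nat.card (JJ co) * Nat.card (E2 co) := Nat.mul_le_mul_right _ h3

theorem mem_E2_of_JJ {a : G} (ha : a ∈ JJ co) (h : ∀ t ∈ JJ co, cm t a = 1) : a ∈ E2 co := by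
  rw [← wJ_eq_zero ha]
  apply (formJ_nondegenerate (C := C)).2
  intro w
  obtain ⟨g, hg, rfl⟩ := exists_wJ (co := co) w
  exact (cm_JJ_eq_one hg ha).1 (h g hg)

theorem exists_cm_JJ {a z : G} (ha : a ∈ JJ co) (haZ : a ∉ E2 co) (hz : z ∈ Xe co) : ∃ t ∈ JJ co, cm t a = z := by
  obtain ⟨t, ht, ht1⟩ : ∃ t ∈ JJ co, cm t a ≠ 1 := by
    by_contra hcon
    push Not at hcon
    exact haZ (mem_E2_of_JJ ha hcon)
  have h1 : formJ C (wJ co t) (wJ co a) ≠ 0 := fun h => ht1 ((cm_JJ_eq_one ht ha).2 h)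
  obtain ⟨t', ht', he⟩ := exists_wJ (co := co) (((cx co z).a2 / formJ C (wJ co t) (wJ co a)) • wJ co t)
  refine ⟨t', ht', ?_⟩
  have h2 := cm_mem_Xe ht' ha
  have h3 : (cx co (cm t' a)).a2 = (cx co z).a2 := by
    rw [cm_JJ_eq ht' ha, he]
    simp only [map_smul, LinearMap.smul_apply, smul_eq_mul]
    rw [div_mul_cancel₀ _ h1]
  apply cx_inj (co := co) h2.1 hz.1
  exact Tup.ext (h2.2.1.trans hz.2.1.symm) h3 (h2.2.2.1.trans hz.2.2.1.symm) (h2.2.2.2.1.trans hz.2.2.2.1.symm)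
    (h2.2.2.2.2.1.trans hz.2.2.2.2.1.symm) (h2.2.2.2.2.2.trans hz.2.2.2.2.2.symm)

end grp

end Cfsg.Agent.HexEss.Abel
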