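import Mathlib
import Cfsg.Agent.HexRec.Coord
import Cfsg.Agent.Lib.EssentialFusion

/-!
# Subgroups of a hexagonal 2-group in coordinates

`P ≤ G` with coordinates `co : Coord C P`.  Coordinate functions on `G` (`cx`), the subgroups
`Z = U4`, `E2 = U2U4`, `F0 = U2U3U4`, `RR = U2U3U4U5`, `Da = U2..U6`, `Db = U1..U5`, `JJ = U1U2U3U4` of `G`
and their commutator relations.
-/

set_option autoImplicit false

namespace Cfsg.Agent.HexEss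

open Cfsg.Agent.HexRec Subgroup

variable {F K : Type*} [Field F] [Field K] [Algebra F K] {C : Cubic F K}

/-! ### More identities -/

theorem charPF (C : Cubic F K) : CharP F 2 :=
  CharTwo.of_one_ne_zero_of_two_eq_zero one_ne_zero C.two_F

theorem charPK (C : Cubic F K) : CharP K 2 :=
  CharTwo.of_one_ne_zero_of_two_eq_zero one_ne_zero C.two_K

theorem T_ext {a b : K} (h : ∀ c, C.T a c = C.T b c) : a = b := by
  apply C.eq_of_add_eq_zeroK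
  apply C.T_nondeg
  intro c
  rw [C.T_add_left, h c, C.add_self]

theorem cr_smul_left (f : F) (a b : K) : C.cr (f • a) b = f • C.cr a b := by
  apply T_ext (C := C)
  intro c
  rw [C.T_cr, C.T_smul_left, C.T_smul_left, C.T_cr]

theorem cr_smul_right (f : F) (a b : K) : C.cr a (f • b) = f • C.cr a b := by
  rw [C.cr_comm, cr_smul_left, C.cr_comm]

theorem T_cr_self_left (a b : K) : C.T a (C.cr a b) = 0 := by
  rw [C.T_comm, C.T_cr_self']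

theorem T_cr_self_right (a b : K) : C.T b (C.cr a b) = 0 := by
  rw [C.T_comm, C.T_cr_self]

variable {G : Type*} [Group G] {P : Subgroup G} (co : Coord C P)

open Classical in
/-- coordinates of an element of `G` (junk outside `P`) -/
noncomputable def cx (g : G) : Tup F K := if h : g ∈ P then co.e ⟨g, h⟩ else ⟨0, 0, 0, 0, 0, 0⟩

variable {co}

theorem cx_eq {g : G} (hg : g ∈ P) : cx co g = co.e ⟨g, hg⟩ := by rw [cx, dif_pos hg]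

theorem cx_mul {g h : G} (hg : g ∈ P) (hh : h ∈ P) : cx co (g * h) = C.mul (cx co g) (cx co h) := by
  rw [cx_eq hg, cx_eq hh, cx_eq (mul_mem hg hh), ← co.map_mul]
  rfl

theorem cx_one : cx co 1 = ⟨0, 0, 0, 0, 0, 0⟩ := by
  rw [cx_eq (one_mem P)]
  have : (⟨1, one_mem P⟩ : P) = 1 := rfl
  rw [this]
  exact Tup.ext co.one_a1 co.one_a2 co.one_a3 co.one_a4 co.one_a5 co.one_a6

theorem cx_inj {g h : G} (hg : g ∈ P) (hh : h ∈ P) (h' : cx co g = cx co h) : g = h := by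
  rw [cx_eq hg, cx_eq hh] at h'
  exact congrArg Subtype.val (co.e.injective h')

theorem exists_cx (a : Tup F K) : ∃ g ∈ P, cx co g = a := by
  refine ⟨(co.e.symm a : P), (co.e.symm a).2, ?_⟩
  rw [cx_eq (co.e.symm a).2]
  exact co.e.apply_symm_apply a

theorem eq_one_of_cx {g : G} (hg : g ∈ P) (h1 : (cx co g).a1 = 0) (h2 : (cx co g).a2 = 0)
    (h3 : (cx co g).a3 = 0) (h4 : (cx co g).a4 = 0) (h5 : (cx co g).a5 = 0) (h6 : (cx co g).a6 = 0) : g = 1 := by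
  apply cx_inj (co := co) hg (one_mem P)
  rw [cx_one]
  exact Tup.ext h1 h2 h3 h4 h5 h6

section mul

variable {g h : G} (hg : g ∈ P) (hh : h ∈ P)
include hg hh

theorem a1_mul : (cx co (g * h)).a1 = (cx co g).a1 + (cx co h).a1 := by rw [cx_mul hg hh]; rfl
theorem a6_mul : (cx co (g * h)).a6 = (cx co g).a6 + (cx co h).a6 := by rw [cx_mul hg hh]; rfl
theorem a5_mul : (cx co (g * h)).a5 = (cx co g).a5 + (cx co h).a5 + (cx co g).a6 • (cx co h).a1 := by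
  rw [cx_mul hg hh]; rfl
theorem a3_mul : (cx co (g * h)).a3 = (cx co g).a3 + (cx co h).a3 + (cx co g).a6 • C.sh (cx co h).a1 +
    C.cr (cx co h).a1 (cx co g).a5 := by rw [cx_mul hg hh]; rfl
theorem a2_mul : (cx co (g * h)).a2 = (cx co g).a2 + (cx co h).a2 + (cx co g).a6 * C.N (cx co h).a1 +
    C.T (cx co h).a1 (cx co g).a3 + C.T (C.sh (cx co h).a1) (cx co g).a5 := by rw [cx_mul hg hh]; rfl
theorem a4_mul : (cx co (g * h)).a4 = (cx co g).a4 + (cx co h).a4 + (cx co g).a6 ^ 2 * C.N (cx co h).a1 +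
    C.T (cx co h).a1 (C.sh (cx co g).a5) + (cx co g).a6 * (cx co h).a2 +
    (cx co g).a6 * C.T (C.sh (cx co h).a1) (cx co g).a5 + C.T (cx co h).a3 (cx co g).a5 +
    (cx co g).a6 * C.T (cx co h).a3 (cx co h).a1 := by rw [cx_mul hg hh]; rfl

end mul

/-! ### Commutators -/

/-- the commutator -/
def cm (g h : G) : G := g * h * g⁻¹ * h⁻¹

theorem cm_mul (g h : G) : cm g h * (h * g) = g * h := by unfold cm; group

theorem cm_mem {A : Subgroup G} {g h : G} (hg : g ∈ A) (hh : h ∈ A) : cm g h ∈ A :=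
  mul_mem (mul_mem (mul_mem hg hh) (inv_mem hg)) (inv_mem hh)

theorem cm_swap (g h : G) : cm h g = (cm g h)⁻¹ := by unfold cm; group

theorem cm_eq_one {g h : G} : cm g h = 1 ↔ g * h = h * g := by
  unfold cm
  rw [mul_inv_eq_one, mul_inv_eq_iff_eq_mul]

section comm

variable {g h : G} (hg : g ∈ P) (hh : h ∈ P)
include hg hh

theorem a1_cm : (cx co (cm g h)).a1 = 0 := by
  have h1 : (cx co (cm g h * (h * g))).a1 = (cx co (g * h)).a1 := by rw [cm_mul]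
  rw [a1_mul (cm_mem hg hh) (mul_mem hh hg), a1_mul hh hg, a1_mul hg hh] at h1
  linear_combination h1

theorem a6_cm : (cx co (cm g h)).a6 = 0 := by
  have h1 : (cx co (cm g h * (h * g))).a6 = (cx co (g * h)).a6 := by rw [cm_mul]
  rw [a6_mul (cm_mem hg hh) (mul_mem hh hg), a6_mul hh hg, a6_mul hg hh] at h1
  linear_combination h1

theorem a5_cm : (cx co (cm g h)).a5 =
    (cx co g).a6 • (cx co h).a1 + (cx co h).a6 • (cx co g).a1 := by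
  have h1 : (cx co (cm g h * (h * g))).a5 = (cx co (g * h)).a5 := by rw [cm_mul]
  rw [a5_mul (cm_mem hg hh) (mul_mem hh hg), a5_mul hh hg, a5_mul hg hh, a6_cm hg hh, zero_smul, add_zero] at h1
  linear_combination h1 - (cx co h).a6 • (cx co g).a1 * C.two_K

theorem a3_cm : (cx co (cm g h)).a3 =
    (cx co g).a6 • C.sh (cx co h).a1 + C.cr (cx co h).a1 (cx co g).a5 +
    (cx co h).a6 • C.sh (cx co g).a1 + C.cr (cx co g).a1 (cx co h).a5 +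
    C.cr ((cx co g).a1 + (cx co h).a1) ((cx co g).a6 • (cx co h).a1 + (cx co h).a6 • (cx co g).a1) := by
  have h1 : (cx co (cm g h * (h * g))).a3 = (cx co (g * h)).a3 := by rw [cm_mul]
  rw [a3_mul (cm_mem hg hh) (mul_mem hh hg), a3_mul hh hg, a3_mul hg hh, a6_cm hg hh, a5_cm hg hh, zero_smul,
    add_zero, a1_mul hh hg, add_comm (cx co h).a1 (cx co g).a1] at h1
  linear_combination h1 - ((cx co h).a6 • C.sh (cx co g).a1 + C.cr (cx co g).a1 (cx co h).a5 +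
    C.cr ((cx co g).a1 + (cx co h).a1) ((cx co g).a6 • (cx co h).a1 + (cx co h).a6 • (cx co g).a1)) * C.two_K

/-! #### `h ∈ Da` -/

theorem a5_cm_Da (h1 : (cx co h).a1 = 0) : (cx co (cm g h)).a5 = (cx co h).a6 • (cx co g).a1 := by
  rw [a5_cm hg hh, h1, smul_zero, zero_add]

theorem a3_cm_Da (h1 : (cx co h).a1 = 0) : (cx co (cm g h)).a3 =
    (cx co h).a6 • C.sh (cx co g).a1 + C.cr (cx co g).a1 (cx co h).a5 := by
  rw [a3_cm hg hh, h1]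
  simp only [C.sh_zero, smul_zero, C.cr_zero_left, add_zero, zero_add, cr_smul_right, C.cr_self]

theorem a2_cm_Da (h1 : (cx co h).a1 = 0) : (cx co (cm g h)).a2 =
    (cx co h).a6 * C.N (cx co g).a1 + C.T (cx co g).a1 (cx co h).a3 +
      C.T (C.sh (cx co g).a1) (cx co h).a5 := by
  have := charPF C
  have e1 : (cx co (cm g h * (h * g))).a2 = (cx co (g * h)).a2 := by rw [cm_mul]
  rw [a2_mul (cm_mem hg hh) (mul_mem hh hg), a2_mul hh hg, a2_mul hg hh, a1_mul hh hg, a6_cm hg hh, h1,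
    a5_cm_Da hg hh h1, a3_cm_Da hg hh h1, zero_add, C.N_zero, C.sh_zero, C.T_zero_left, C.T_zero_left,
    C.T_add_right, C.T_smul_right, C.T_smul_right, C.T_self_sh, C.T_sh_self, T_cr_self_left] at e1
  grind

/-! #### `h ∈ R` -/

theorem a5_cm_R (h1 : (cx co h).a1 = 0) (h6 : (cx co h).a6 = 0) : (cx co (cm g h)).a5 = 0 := by
  rw [a5_cm_Da hg hh h1, h6, zero_smul]

theorem a3_cm_R (h1 : (cx co h).a1 = 0) (h6 : (cx co h).a6 = 0) :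
    (cx co (cm g h)).a3 = C.cr (cx co g).a1 (cx co h).a5 := by
  rw [a3_cm_Da hg hh h1, h6, zero_smul, zero_add]

theorem a2_cm_R (h1 : (cx co h).a1 = 0) (h6 : (cx co h).a6 = 0) :
    (cx co (cm g h)).a2 = C.T (cx co g).a1 (cx co h).a3 + C.T (C.sh (cx co g).a1) (cx co h).a5 := by
  rw [a2_cm_Da hg hh h1, h6, zero_mul, zero_add]

theorem a4_cm_R (h1 : (cx co h).a1 = 0) (h6 : (cx co h).a6 = 0) :
    (cx co (cm g h)).a4 = (cx co g).a6 * (cx co h).a2 + C.T (cx co h).a3 (cx co g).a5 +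
      C.T (cx co g).a1 (C.sh (cx co h).a5) + C.T (cx co g).a3 (cx co h).a5 := by
  have := charPF C
  have e1 : (cx co (cm g h * (h * g))).a4 = (cx co (g * h)).a4 := by rw [cm_mul]
  rw [a4_mul (cm_mem hg hh) (mul_mem hh hg), a4_mul hh hg, a4_mul hg hh, a6_cm hg hh,
    a5_cm_R hg hh h1 h6, h1, h6] at e1
  simp only [C.T_zero_left, C.T_zero_right, C.sh_zero, C.N_zero, zero_mul, mul_zero, add_zero, zero_add] at e1
  grind

/-! #### `h ∈ F0` -/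

theorem a3_cm_F0 (h1 : (cx co h).a1 = 0) (h5 : (cx co h).a5 = 0) (h6 : (cx co h).a6 = 0) :
    (cx co (cm g h)).a3 = 0 := by
  rw [a3_cm_R hg hh h1 h6, h5, C.cr_zero_right]

theorem a2_cm_F0 (h1 : (cx co h).a1 = 0) (h5 : (cx co h).a5 = 0) (h6 : (cx co h).a6 = 0) :
    (cx co (cm g h)).a2 = C.T (cx co g).a1 (cx co h).a3 := by
  rw [a2_cm_R hg hh h1 h6, h5, C.T_zero_right, add_zero]

theorem a4_cm_F0 (h1 : (cx co h).a1 = 0) (h5 : (cx co h).a5 = 0) (h6 : (cx co h).a6 = 0) :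
    (cx co (cm g h)).a4 = (cx co g).a6 * (cx co h).a2 + C.T (cx co g).a5 (cx co h).a3 := by
  rw [a4_cm_R hg hh h1 h6, h5, C.sh_zero, C.T_zero_right, C.T_zero_right, add_zero, add_zero,
    C.T_comm (cx co h).a3]

/-! #### `g, h ∈ Da` -/

theorem a5_cm_Da_Da (g1 : (cx co g).a1 = 0) (h1 : (cx co h).a1 = 0) : (cx co (cm g h)).a5 = 0 := by
  rw [a5_cm_Da hg hh h1, g1, smul_zero]

theorem a3_cm_Da_Da (g1 : (cx co g).a1 = 0) (h1 : (cx co h).a1 = 0) : (cx co (cm g h)).a3 = 0 := by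
  rw [a3_cm_Da hg hh h1, g1, C.sh_zero, smul_zero, C.cr_zero_left, add_zero]

theorem a2_cm_Da_Da (g1 : (cx co g).a1 = 0) (h1 : (cx co h).a1 = 0) : (cx co (cm g h)).a2 = 0 := by
  rw [a2_cm_Da hg hh h1, g1, C.sh_zero, C.N_zero, mul_zero, C.T_zero_left, C.T_zero_left, add_zero, add_zero]

theorem a4_cm_Da_Da (g1 : (cx co g).a1 = 0) (h1 : (cx co h).a1 = 0) :
    (cx co (cm g h)).a4 = (cx co g).a6 * (cx co h).a2 + (cx co h).a6 * (cx co g).a2 +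
      C.T (cx co g).a5 (cx co h).a3 + C.T (cx co g).a3 (cx co h).a5 := by
  have := charPF C
  have e1 : (cx co (cm g h * (h * g))).a4 = (cx co (g * h)).a4 := by rw [cm_mul]
  rw [a4_mul (cm_mem hg hh) (mul_mem hh hg), a4_mul hh hg, a4_mul hg hh, a6_cm hg hh,
    a5_cm_Da_Da hg hh g1 h1, a1_mul hh hg, h1, g1] at e1
  simp only [C.T_zero_left, C.T_zero_right, C.sh_zero, C.N_zero, zero_mul, mul_zero, add_zero, zero_add] at e1
  rw [C.T_comm (cx co g).a5]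
  grind

/-! #### `g, h ∈ Db` -/

theorem a5_cm_Db (g6 : (cx co g).a6 = 0) (h6 : (cx co h).a6 = 0) : (cx co (cm g h)).a5 = 0 := by
  rw [a5_cm hg hh, g6, h6, zero_smul, zero_smul, add_zero]

theorem a3_cm_Db (g6 : (cx co g).a6 = 0) (h6 : (cx co h).a6 = 0) : (cx co (cm g h)).a3 =
    C.cr (cx co g).a1 (cx co h).a5 + C.cr (cx co h).a1 (cx co g).a5 := by
  rw [a3_cm hg hh, g6, h6]
  simp only [zero_smul, add_zero, zero_add, C.cr_zero_right]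
  ring

end comm

/-! ### Squares -/

section sq

variable {g : G} (hg : g ∈ P)
include hg

theorem a1_sq : (cx co (g * g)).a1 = 0 := by rw [a1_mul hg hg, C.add_selfK]
theorem a6_sq : (cx co (g * g)).a6 = 0 := by rw [a6_mul hg hg, C.add_self]
theorem a5_sq : (cx co (g * g)).a5 = (cx co g).a6 • (cx co g).a1 := by
  rw [a5_mul hg hg, C.add_selfK, zero_add]

theorem a3_sq_Db (g6 : (cx co g).a6 = 0) : (cx co (g * g)).a3 = C.cr (cx co g).a1 (cx co g).a5 := by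
  rw [a3_mul hg hg, C.add_selfK, g6, zero_smul, zero_add, zero_add]
theorem a2_sq_Db (g6 : (cx co g).a6 = 0) : (cx co (g * g)).a2 =
    C.T (cx co g).a1 (cx co g).a3 + C.T (C.sh (cx co g).a1) (cx co g).a5 := by
  rw [a2_mul hg hg, C.add_self, g6, zero_mul, zero_add, zero_add]
theorem a4_sq_Db (g6 : (cx co g).a6 = 0) : (cx co (g * g)).a4 =
    C.T (cx co g).a1 (C.sh (cx co g).a5) + C.T (cx co g).a3 (cx co g).a5 := by
  rw [a4_mul hg hg, C.add_self, g6]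
  simp only [zero_mul, zero_add, add_zero, ne_eq, OfNat.ofNat_ne_zero, not_false_eq_true, zero_pow]

theorem a3_sq_Da (g1 : (cx co g).a1 = 0) : (cx co (g * g)).a3 = 0 := by
  rw [a3_mul hg hg, C.add_selfK, g1, C.sh_zero, smul_zero, C.cr_zero_left, add_zero, add_zero]
theorem a2_sq_Da (g1 : (cx co g).a1 = 0) : (cx co (g * g)).a2 = 0 := by
  rw [a2_mul hg hg, C.add_self, g1, C.sh_zero, C.N_zero, mul_zero, C.T_zero_left, C.T_zero_left]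
  simp
theorem a4_sq_Da (g1 : (cx co g).a1 = 0) : (cx co (g * g)).a4 =
    (cx co g).a6 * (cx co g).a2 + C.T (cx co g).a3 (cx co g).a5 := by
  rw [a4_mul hg hg, C.add_self, g1]
  simp only [C.T_zero_left, C.T_zero_right, C.sh_zero, C.N_zero, mul_zero, zero_add, add_zero]

end sq

/-! ### The subgroups -/

section sub

variable [Finite G]

/-- the subgroup of `P` of the elements whose coordinates satisfy a multiplicatively closed condition -/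
noncomputable def mkSub (co : Coord C P) (p : Tup F K → Prop) (h1 : p ⟨0, 0, 0, 0, 0, 0⟩)
    (hm : ∀ a b, p a → p b → p (C.mul a b)) : Subgroup G where
  carrier := {g | g ∈ P ∧ p (cx co g)}
  one_mem' := ⟨one_mem P, by rw [cx_one]; exact h1⟩
  mul_mem' := by
    rintro a b ⟨ha, ha'⟩ ⟨hb, hb'⟩
    exact ⟨mul_mem ha hb, by rw [cx_mul ha hb]; exact hm _ _ ha' hb'⟩
  inv_mem' := by
    rintro x ⟨hx, hx'⟩
    have h2 : x⁻¹ = x ^ (orderOf x - 1) := by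
      rw [inv_eq_iff_mul_eq_one, ← pow_succ', Nat.sub_add_cancel (orderOf_pos x), pow_orderOf_eq_one]
    have key : ∀ n : ℕ, x ^ n ∈ P ∧ p (cx co (x ^ n)) := by
      intro n
      induction n with
      | zero => rw [pow_zero]; exact ⟨one_mem P, by rw [cx_one]; exact h1⟩
      | succ n ih =>
        rw [pow_succ]
        exact ⟨mul_mem ih.1 hx, by rw [cx_mul ih.1 hx]; exact hm _ _ ih.2 hx'⟩
    rw [h2]
    exact key _

theorem mem_mkSub {p : Tup F K → Prop} {h1 : p ⟨0, 0, 0, 0, 0, 0⟩}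
    {hm : ∀ a b, p a → p b → p (C.mul a b)} {g : G} : g ∈ mkSub co p h1 hm ↔ g ∈ P ∧ p (cx co g) := Iff.rfl

variable (co)

/-- `Z = U4 = Z(P)` -/
noncomputable def Z : Subgroup G :=
  mkSub co (fun a => a.a1 = 0 ∧ a.a2 = 0 ∧ a.a3 = 0 ∧ a.a5 = 0 ∧ a.a6 = 0) ⟨rfl, rfl, rfl, rfl, rfl⟩ (by
    rintro a b ⟨a1, a2, a3, a5, a6⟩ ⟨b1, b2, b3, b5, b6⟩
    simp [Cubic.mul, a1, a2, a3, a5, a6, b1, b2, b3, b5, b6, C.T_zero_left, C.T_zero_right, C.sh_zero,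
      C.cr_zero_left])

/-- `E2 = U2 U4 = Z_2(P)` -/
noncomputable def E2 : Subgroup G :=
  mkSub co (fun a => a.a1 = 0 ∧ a.a3 = 0 ∧ a.a5 = 0 ∧ a.a6 = 0) ⟨rfl, rfl, rfl, rfl⟩ (by
    rintro a b ⟨a1, a3, a5, a6⟩ ⟨b1, b3, b5, b6⟩
    simp [Cubic.mul, a1, a3, a5, a6, b1, b3, b5, b6, C.cr_zero_left])

/-- `F0 = U2 U3 U4` -/
noncomputable def F0 : Subgroup G :=
  mkSub co (fun a => a.a1 = 0 ∧ a.a5 = 0 ∧ a.a6 = 0) ⟨rfl, rfl, rfl⟩ (by
    rintro a b ⟨a1, a5, a6⟩ ⟨b1, b5, b6⟩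
    simp [Cubic.mul, a1, a5, a6, b1, b5, b6])

/-- `RR = U2 U3 U4 U5 = P'` -/
noncomputable def RR : Subgroup G :=
  mkSub co (fun a => a.a1 = 0 ∧ a.a6 = 0) ⟨rfl, rfl⟩ (by
    rintro a b ⟨a1, a6⟩ ⟨b1, b6⟩
    simp [Cubic.mul, a1, a6, b1, b6])

/-- `Da = U2 ⋯ U6 = O_2` of the parabolic with Levi factor of type `a` -/
noncomputable def Da : Subgroup G :=
  mkSub co (fun a => a.a1 = 0) rfl (by
    rintro a b a1 b1
    simp [Cubic.mul, a1, b1])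

/-- `Db = U1 ⋯ U5` -/
noncomputable def Db : Subgroup G :=
  mkSub co (fun a => a.a6 = 0) rfl (by
    rintro a b a6 b6
    simp [Cubic.mul, a6, b6])

/-- `JJ = U1 U2 U3 U4` -/
noncomputable def JJ : Subgroup G :=
  mkSub co (fun a => a.a5 = 0 ∧ a.a6 = 0) ⟨rfl, rfl⟩ (by
    rintro a b ⟨a5, a6⟩ ⟨b5, b6⟩
    simp [Cubic.mul, a5, a6, b5, b6])

variable {co}

theorem mem_Z {g : G} : g ∈ Z co ↔ g ∈ P ∧ (cx co g).a1 = 0 ∧ (cx co g).a2 = 0 ∧ (cx co g).a3 = 0 ∧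
    (cx co g).a5 = 0 ∧ (cx co g).a6 = 0 := Iff.rfl
theorem mem_E2 {g : G} : g ∈ E2 co ↔ g ∈ P ∧ (cx co g).a1 = 0 ∧ (cx co g).a3 = 0 ∧
    (cx co g).a5 = 0 ∧ (cx co g).a6 = 0 := Iff.rfl
theorem mem_F0 {g : G} : g ∈ F0 co ↔ g ∈ P ∧ (cx co g).a1 = 0 ∧ (cx co g).a5 = 0 ∧ (cx co g).a6 = 0 := Iff.rfl
theorem mem_RR {g : G} : g ∈ RR co ↔ g ∈ P ∧ (cx co g).a1 = 0 ∧ (cx co g).a6 = 0 := Iff.rfl
theorem mem_Da {g : G} : g ∈ Da co ↔ g ∈ P ∧ (cx co g).a1 = 0 := Iff.rfl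
theorem mem_Db {g : G} : g ∈ Db co ↔ g ∈ P ∧ (cx co g).a6 = 0 := Iff.rfl
theorem mem_JJ {g : G} : g ∈ JJ co ↔ g ∈ P ∧ (cx co g).a5 = 0 ∧ (cx co g).a6 = 0 := Iff.rfl

theorem Z_le_E2 : Z co ≤ E2 co := fun _ h => ⟨h.1, h.2.1, h.2.2.2.1, h.2.2.2.2.1, h.2.2.2.2.2⟩
theorem E2_le_F0 : E2 co ≤ F0 co := fun _ h => ⟨h.1, h.2.1, h.2.2.2.1, h.2.2.2.2⟩
theorem F0_le_RR : F0 co ≤ RR co := fun _ h => ⟨h.1, h.2.1, h.2.2.2⟩
theorem RR_le_Da : RR co ≤ Da co := fun _ h => ⟨h.1, h.2.1⟩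
theorem RR_le_Db : RR co ≤ Db co := fun _ h => ⟨h.1, h.2.2⟩
theorem F0_le_JJ : F0 co ≤ JJ co := fun _ h => ⟨h.1, h.2.2.1, h.2.2.2⟩
theorem JJ_le_Db : JJ co ≤ Db co := fun _ h => ⟨h.1, h.2.2⟩
theorem Da_le : Da co ≤ P := fun _ h => h.1
theorem Db_le : Db co ≤ P := fun _ h => h.1
theorem RR_le : RR co ≤ P := fun _ h => h.1
theorem F0_le : F0 co ≤ P := fun _ h => h.1
theorem E2_le : E2 co ≤ P := fun _ h => h.1
theorem Z_le : Z co ≤ P := fun _ h => h.1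
theorem JJ_le : JJ co ≤ P := fun _ h => h.1
theorem Z_le_F0 : Z co ≤ F0 co := Z_le_E2.trans E2_le_F0
theorem Z_le_RR : Z co ≤ RR co := Z_le_F0.trans F0_le_RR
theorem E2_le_RR : E2 co ≤ RR co := E2_le_F0.trans F0_le_RR
theorem F0_le_Da : F0 co ≤ Da co := F0_le_RR.trans RR_le_Da
theorem F0_le_Db : F0 co ≤ Db co := F0_le_RR.trans RR_le_Db
theorem E2_le_Da : E2 co ≤ Da co := E2_le_RR.trans RR_le_Da
theorem E2_le_Db : E2 co ≤ Db co := E2_le_RR.trans RR_le_Db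
theorem Z_le_Da : Z co ≤ Da co := Z_le_RR.trans RR_le_Da
theorem Z_le_Db : Z co ≤ Db co := Z_le_RR.trans RR_le_Db

/-! ### Commutators in subgroups -/

/-- `[P, P] ≤ RR` -/
theorem cm_mem_RR {g h : G} (hg : g ∈ P) (hh : h ∈ P) : cm g h ∈ RR co :=
  ⟨cm_mem hg hh, a1_cm hg hh, a6_cm hg hh⟩

/-- `[P, RR] ≤ F0` -/
theorem cm_mem_F0 {g h : G} (hg : g ∈ P) (hh : h ∈ RR co) : cm g h ∈ F0 co :=
  ⟨cm_mem hg hh.1, a1_cm hg hh.1, a5_cm_R hg hh.1 hh.2.1 hh.2.2, a6_cm hg hh.1⟩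

/-- `[P, F0] ≤ E2` -/
theorem cm_mem_E2 {g h : G} (hg : g ∈ P) (hh : h ∈ F0 co) : cm g h ∈ E2 co :=
  ⟨cm_mem hg hh.1, a1_cm hg hh.1, a3_cm_F0 hg hh.1 hh.2.1 hh.2.2.1 hh.2.2.2,
    a5_cm_R hg hh.1 hh.2.1 hh.2.2.2, a6_cm hg hh.1⟩

/-- `[P, E2] ≤ Z` -/
theorem cm_mem_Z {g h : G} (hg : g ∈ P) (hh : h ∈ E2 co) : cm g h ∈ Z co := by
  refine ⟨cm_mem hg hh.1, a1_cm hg hh.1, ?_, a3_cm_F0 hg hh.1 hh.2.1 hh.2.2.2.1 hh.2.2.2.2,
    a5_cm_R hg hh.1 hh.2.1 hh.2.2.2.2, a6_cm hg hh.1⟩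
  rw [a2_cm_F0 hg hh.1 hh.2.1 hh.2.2.2.1 hh.2.2.2.2, hh.2.2.1, C.T_zero_right]

/-- `[P, Z] = 1` -/
theorem cm_Z {g h : G} (hg : g ∈ P) (hh : h ∈ Z co) : cm g h = 1 := by
  have h' := cm_mem_Z (co := co) hg (Z_le_E2 hh)
  refine eq_one_of_cx (co := co) h'.1 h'.2.1 h'.2.2.1 h'.2.2.2.1 ?_ h'.2.2.2.2.1 h'.2.2.2.2.2
  rw [a4_cm_F0 hg hh.1 hh.2.1 hh.2.2.2.2.1 hh.2.2.2.2.2, hh.2.2.1, hh.2.2.2.1, C.T_zero_right, mul_zero,
    add_zero]

/-- `[Da, Da] ≤ Z` -/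
theorem cm_mem_Z_of_Da {g h : G} (hg : g ∈ Da co) (hh : h ∈ Da co) : cm g h ∈ Z co :=
  ⟨cm_mem hg.1 hh.1, a1_cm hg.1 hh.1, a2_cm_Da_Da hg.1 hh.1 hg.2 hh.2, a3_cm_Da_Da hg.1 hh.1 hg.2 hh.2,
    a5_cm_Da_Da hg.1 hh.1 hg.2 hh.2, a6_cm hg.1 hh.1⟩

/-- `[Db, Db] ≤ F0` -/
theorem cm_mem_F0_of_Db {g h : G} (hg : g ∈ Db co) (hh : h ∈ Db co) : cm g h ∈ F0 co :=
  ⟨cm_mem hg.1 hh.1, a1_cm hg.1 hh.1, a5_cm_Db hg.1 hh.1 hg.2 hh.2, a6_cm hg.1 hh.1⟩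

/-- `[Db, E2] = 1` -/
theorem cm_Db_E2 {g h : G} (hg : g ∈ Db co) (hh : h ∈ E2 co) : cm g h = 1 := by
  have h' := cm_mem_Z (co := co) hg.1 hh
  refine eq_one_of_cx (co := co) h'.1 h'.2.1 h'.2.2.1 h'.2.2.2.1 ?_ h'.2.2.2.2.1 h'.2.2.2.2.2
  rw [a4_cm_F0 hg.1 hh.1 hh.2.1 hh.2.2.2.1 hh.2.2.2.2, hg.2, hh.2.2.1, C.T_zero_right, zero_mul,
    add_zero]

/-- `F0` is abelian. -/
theorem cm_F0_F0 {g h : G} (hg : g ∈ F0 co) (hh : h ∈ F0 co) : cm g h = 1 := by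
  have h' := cm_mem_Z_of_Da (F0_le_Da hg) (F0_le_Da hh)
  refine eq_one_of_cx (co := co) h'.1 h'.2.1 h'.2.2.1 h'.2.2.2.1 ?_ h'.2.2.2.2.1 h'.2.2.2.2.2
  rw [a4_cm_F0 hg.1 hh.1 hh.2.1 hh.2.2.1 hh.2.2.2, hg.2.2.1, hg.2.2.2, zero_mul, C.T_zero_left, add_zero]

/-- `F0` has exponent two. -/
theorem sq_F0 {g : G} (hg : g ∈ F0 co) : g * g = 1 := by
  refine eq_one_of_cx (co := co) (mul_mem hg.1 hg.1) (a1_sq hg.1) (a2_sq_Da hg.1 hg.2.1)
    (a3_sq_Da hg.1 hg.2.1) ?_ ?_ (a6_sq hg.1)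
  · rw [a4_sq_Da hg.1 hg.2.1, hg.2.2.1, hg.2.2.2, C.T_zero_right, zero_mul, add_zero]
  · rw [a5_sq hg.1, hg.2.2.2, zero_smul]

/-- `C_P(F0) = F0` -/
theorem mem_F0_of_comm {g : G} (hg : g ∈ P) (h : ∀ x ∈ F0 co, cm g x ∈ Z co) :
    (cx co g).a1 = 0 := by
  apply C.T_nondeg
  intro k
  obtain ⟨x, hx, hxc⟩ := exists_cx (co := co) ⟨0, 0, k, 0, 0, 0⟩
  have hx' : x ∈ F0 co := ⟨hx, by rw [hxc], by rw [hxc], by rw [hxc]⟩
  have h1 := (h x hx').2.2.1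
  rwa [a2_cm_F0 hg hx hx'.2.1 hx'.2.2.1 hx'.2.2.2, hxc] at h1

theorem a6_eq_zero_of_comm {g : G} (hg : g ∈ P) (h : ∀ x ∈ E2 co, cm g x = 1) : (cx co g).a6 = 0 := by
  obtain ⟨x, hx, hxc⟩ := exists_cx (co := co) ⟨0, 1, 0, 0, 0, 0⟩
  have hx' : x ∈ E2 co := ⟨hx, by rw [hxc], by rw [hxc], by rw [hxc], by rw [hxc]⟩
  have h1 := congrArg (fun y => (cx co y).a4) (h x hx')
  simp only [cx_one] at h1
  rwa [a4_cm_F0 hg hx hx'.2.1 hx'.2.2.2.1 hx'.2.2.2.2, hxc, mul_one, C.T_zero_right, add_zero] at h1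

theorem a5_eq_zero_of_comm {g : G} (hg : g ∈ P) (h6 : (cx co g).a6 = 0) (h : ∀ x ∈ F0 co, cm g x ∈ E2 co ∧
    (cx co (cm g x)).a4 = 0) : (cx co g).a5 = 0 := by
  apply C.T_nondeg
  intro k
  obtain ⟨x, hx, hxc⟩ := exists_cx (co := co) ⟨0, 0, k, 0, 0, 0⟩
  have hx' : x ∈ F0 co := ⟨hx, by rw [hxc], by rw [hxc], by rw [hxc]⟩
  have h1 := (h x hx').2
  rwa [a4_cm_F0 hg hx hx'.2.1 hx'.2.2.1 hx'.2.2.2, hxc, h6, zero_mul, zero_add] at h1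

theorem mem_F0_of_cm_eq_one {g : G} (hg : g ∈ P) (h : ∀ x ∈ F0 co, cm g x = 1) : g ∈ F0 co := by
  have h1 : (cx co g).a1 = 0 := mem_F0_of_comm hg (fun x hx => by rw [h x hx]; exact one_mem _)
  have h6 : (cx co g).a6 = 0 := a6_eq_zero_of_comm hg (fun x hx => h x (E2_le_F0 hx))
  refine ⟨hg, h1, ?_, h6⟩
  refine a5_eq_zero_of_comm hg h6 (fun x hx => ?_)
  rw [h x hx]
  exact ⟨one_mem _, by rw [cx_one]⟩

end sub

end Cfsg.Agent.HexEss
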