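import Mathlib
import Cfsg.Agent.HexEss.Basic
import Cfsg.Agent.Lib.EssBridge

/-!
# Invariant subgroups; regular cubic data

`cenMod A D B = {g ∈ A | [g, D] ≤ B}` and its invariance; `Reg C`: the identity `1 × b = T(b) + b` of the cubic
data, and its consequences: kernel and image of `s ↦ t × s`.
-/

set_option autoImplicit false

namespace Cfsg.Agent.HexEss

open Cfsg.Agent.HexRec Subgroup

/-! ### Invariant subgroups -/

section inv

variable {G : Type*} [Group G]

theorem conj_cm (n g h : G) : n * cm g h * n⁻¹ = cm (n * g * n⁻¹) (n * h * n⁻¹) := by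
  unfold cm; group

/-- `N` normalizes `K`, element-wise. -/
theorem le_normalizer_of {N K : Subgroup G} (h : ∀ n ∈ N, ∀ x ∈ K, n * x * n⁻¹ ∈ K) :
    N ≤ normalizer (K : Set G) := le_normalizer_iff.2 h

theorem conj_mem_of_le {N K : Subgroup G} (h : N ≤ normalizer (K : Set G)) {n x : G} (hn : n ∈ N) (hx : x ∈ K) :
    n * x * n⁻¹ ∈ K := (mem_normalizer_iff.1 (h hn) x).1 hx

theorem le_normalizer_closure {N : Subgroup G} {S : Set G} (h : ∀ n ∈ N, ∀ x ∈ S, n * x * n⁻¹ ∈ S) :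
    N ≤ normalizer ((closure S : Subgroup G) : Set G) := by
  refine le_normalizer_of fun n hn x hx => ?_
  induction hx using closure_induction with
  | mem x hx => exact subset_closure (h n hn x hx)
  | one => simp [one_mem]
  | mul x y _ _ hx hy =>
    have : n * (x * y) * n⁻¹ = (n * x * n⁻¹) * (n * y * n⁻¹) := by group
    rw [this]; exact mul_mem hx hy
  | inv x _ hx =>
    have : n * x⁻¹ * n⁻¹ = (n * x * n⁻¹)⁻¹ := by group
    rw [this]; exact inv_mem hx

theorem le_normalizer_sup {N A B : Subgroup G} (hA : N ≤ normalizer (A : Set G))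
    (hB : N ≤ normalizer (B : Set G)) : N ≤ normalizer ((A ⊔ B : Subgroup G) : Set G) := by
  have h1 : Subgroup.closure ((A : Set G) ∪ (B : Set G)) = A ⊔ B := by
    rw [Subgroup.closure_union, Subgroup.closure_eq, Subgroup.closure_eq]
  rw [← h1]
  refine le_normalizer_closure fun n hn x hx => ?_
  rcases hx with hx | hx
  · exact Or.inl (conj_mem_of_le hA hn hx)
  · exact Or.inr (conj_mem_of_le hB hn hx)

theorem le_normalizer_inf {N A B : Subgroup G} (hA : N ≤ normalizer (A : Set G))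
    (hB : N ≤ normalizer (B : Set G)) : N ≤ normalizer ((A ⊓ B : Subgroup G) : Set G) :=
  le_normalizer_of fun _ hn _ hx => ⟨conj_mem_of_le hA hn hx.1, conj_mem_of_le hB hn hx.2⟩

/-- `{g ∈ A | [g, D] ≤ B}` -/
def cenMod (A D B : Subgroup G) (hAB : A ≤ normalizer (B : Set G)) : Subgroup G where
  carrier := {g | g ∈ A ∧ ∀ d ∈ D, cm g d ∈ B}
  one_mem' := ⟨one_mem _, fun d _ => by unfold cm; simp [one_mem]⟩
  mul_mem' := by
    rintro a b ⟨ha, ha'⟩ ⟨hb, hb'⟩
    refine ⟨mul_mem ha hb, fun d hd => ?_⟩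
    have e : cm (a * b) d = a * cm b d * a⁻¹ * cm a d := by unfold cm; group
    rw [e]
    exact mul_mem (conj_mem_of_le hAB ha (hb' d hd)) (ha' d hd)
  inv_mem' := by
    rintro a ⟨ha, ha'⟩
    refine ⟨inv_mem ha, fun d hd => ?_⟩
    have e : cm a⁻¹ d = a⁻¹ * (cm a d)⁻¹ * a⁻¹⁻¹ := by unfold cm; group
    rw [e]
    exact conj_mem_of_le hAB (inv_mem ha) (inv_mem (ha' d hd))

theorem mem_cenMod {A D B : Subgroup G} {hAB : A ≤ normalizer (B : Set G)} {g : G} :
    g ∈ cenMod A D B hAB ↔ g ∈ A ∧ ∀ d ∈ D, cm g d ∈ B := Iff.rfl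

theorem cenMod_le {A D B : Subgroup G} {hAB : A ≤ normalizer (B : Set G)} : cenMod A D B hAB ≤ A :=
  fun _ h => h.1

theorem le_normalizer_cenMod {N A D B : Subgroup G} {hAB : A ≤ normalizer (B : Set G)}
    (hA : N ≤ normalizer (A : Set G)) (hD : N ≤ normalizer (D : Set G)) (hB : N ≤ normalizer (B : Set G)) :
    N ≤ normalizer ((cenMod A D B hAB : Subgroup G) : Set G) := by
  refine le_normalizer_of fun n hn x hx => ⟨conj_mem_of_le hA hn hx.1, fun d hd => ?_⟩
  have h1 := conj_mem_of_le hB hn (hx.2 _ (conj_mem_of_le hD (inv_mem hn) hd))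
  rw [conj_cm] at h1
  have e : n * (n⁻¹ * d * n⁻¹⁻¹) * n⁻¹ = d := by group
  rwa [e] at h1

theorem cm_inv_swap_mem {B : Subgroup G} {g h : G} (hB : cm g h ∈ B) : cm h g ∈ B := by
  rw [cm_swap]; exact inv_mem hB

theorem conj_eq_cm_mul (g h : G) : g * h * g⁻¹ = cm g h * h := by unfold cm; group

/-- a subgroup containing all commutators with `x` is normalized -/
theorem mem_normalizer_of_cm [Finite G] {D : Subgroup G} {x : G} (h : ∀ d ∈ D, cm x d ∈ D) :
    x ∈ normalizer (D : Set G) := by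
  rw [Cfsg.Agent.Lib.GoldschmidtFusion.mem_normalizer_iff_map_conj]
  apply Cfsg.Agent.Lib.GoldschmidtFusion.map_conj_le_of_le_normalizer
  rintro _ ⟨d, hd, rfl⟩
  change x * d * x⁻¹ ∈ D
  rw [conj_eq_cm_mul]
  exact mul_mem (h d hd) hd

end inv

/-! ### Regular cubic data -/

section reg

variable {F K : Type*} [Field F] [Field K] [Algebra F K] (C : Cubic F K)

/-- The identity `1 × b = T(b) + b`. -/
def Reg : Prop := ∀ b : K, C.cr 1 b = algebraMap F K (C.tr b) + b

variable {C}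

theorem exists_smul_of_cr_eq_zero (hC : Reg C) {t s : K} (ht : t ≠ 0) (h : C.cr t s = 0) : ∃ f : F, s = f • t := by
  have h1 : C.cr (t * 1) (t * (t⁻¹ * s)) = 0 := by
    rw [mul_one, mul_inv_cancel_left₀ ht]; exact h
  rw [C.cr_mul, mul_eq_zero] at h1
  have h2 := h1.resolve_left (C.sh_ne_zero ht)
  rw [hC] at h2
  have h3 : t⁻¹ * s = algebraMap F K (C.tr (t⁻¹ * s)) := (C.eq_of_add_eq_zeroK h2).symm
  refine ⟨C.tr (t⁻¹ * s), ?_⟩
  rw [Algebra.smul_def, ← h3]
  field_simp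

theorem exists_cr_eq (hC : Reg C) {t u : K} (ht : t ≠ 0) (h : C.T t u = 0) : ∃ s, C.cr t s = u := by
  have hs := C.sh_ne_zero ht
  have h1 : C.tr (u * (C.sh t)⁻¹) = 0 := by
    have h2 : t * u = C.N t • (u * (C.sh t)⁻¹) := by
      rw [Algebra.smul_def, C.N_map]; field_simp
    have h3 : C.T t u = C.N t * C.tr (u * (C.sh t)⁻¹) := by
      unfold Cubic.T; rw [h2, map_smul, smul_eq_mul]
    rw [h] at h3
    exact (mul_eq_zero.1 h3.symm).resolve_left (C.N_ne_zero ht)
  refine ⟨t * (u * (C.sh t)⁻¹), ?_⟩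
  have h4 := C.cr_mul t 1 (u * (C.sh t)⁻¹)
  rw [mul_one] at h4
  rw [h4, hC, h1, map_zero, zero_add]
  field_simp

theorem smul_eq_zero_F {f : F} {k : K} (h : f • k = 0) : f = 0 ∨ k = 0 := smul_eq_zero.1 h

end reg

end Cfsg.Agent.HexEss
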