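import Mathlib
import Cfsg.Agent.HexEss.Tools
import Cfsg.Agent.HexRec.OfPair

/-!
# Counting in a hexagonal 2-group

Orders of `Z, E2, F0, Da, Db`; abelian subgroups of `Da` have order at most `|F|² |K|`.
-/

set_option autoImplicit false

namespace Cfsg.Agent.HexEss

open Cfsg.Agent.HexRec Subgroup

/-- `|U| |U^⊥| = |V|` -/
theorem card_mul_card_orthogonal {F V : Type*} [Field F] [Finite F] [AddCommGroup V] [Module F V] [Finite V]
    (B : LinearMap.BilinForm F V) (hB : B.Nondegenerate) (U : Submodule F V) :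
    Nat.card U * Nat.card (B.orthogonal U) = Nat.card V := by
  have : FiniteDimensional F V := inferInstance
  rw [Module.natCard_eq_pow_finrank (K := F) (V := U), Module.natCard_eq_pow_finrank (K := F) (V := B.orthogonal U),
    Module.natCard_eq_pow_finrank (K := F) (V := V), ← pow_add, LinearMap.BilinForm.finrank_orthogonal hB]
  congr 1
  have := Submodule.finrank_le U
  omega

variable {F K : Type*} [Field F] [Field K] [Algebra F K] (C : Cubic F K)

/-- the trace form as a bilinear form -/
noncomputable def TB : LinearMap.BilinForm F K :=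
  LinearMap.mk₂ F C.T C.T_add_left C.T_smul_left C.T_add_right C.T_smul_right

theorem TB_apply (a b : K) : TB C a b = C.T a b := rfl

theorem TB_nondegenerate : (TB C).Nondegenerate :=
  ⟨fun _ h => C.T_nondeg h, fun _ h => C.T_nondeg fun b => by rw [C.T_comm]; exact h b⟩

/-- the commutator form on `Da / Z` -/
noncomputable def BB : LinearMap.BilinForm F (F × K × K × F) :=
  LinearMap.mk₂ F (fun a b => a.1 * b.2.2.2 + a.2.2.2 * b.1 + C.T a.2.1 b.2.2.1 + C.T a.2.2.1 b.2.1)
    (fun a a' b => by simp only [Prod.fst_add, Prod.snd_add, C.T_add_left]; ring)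
    (fun f a b => by simp only [Prod.smul_fst, Prod.smul_snd, C.T_smul_left, smul_eq_mul]; ring)
    (fun a b b' => by simp only [Prod.fst_add, Prod.snd_add, C.T_add_right]; ring)
    (fun f a b => by simp only [Prod.smul_fst, Prod.smul_snd, C.T_smul_right, smul_eq_mul]; ring)

theorem BB_apply (a b : F × K × K × F) :
    BB C a b = a.1 * b.2.2.2 + a.2.2.2 * b.1 + C.T a.2.1 b.2.2.1 + C.T a.2.2.1 b.2.1 := rfl

theorem BB_comm (a b : F × K × K × F) : BB C a b = BB C b a := by
  rw [BB_apply, BB_apply, C.T_comm a.2.1, C.T_comm a.2.2.1]; ring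

theorem BB_nondegenerate : (BB C).Nondegenerate := by
  have key : ∀ a : F × K × K × F, (∀ b, BB C a b = 0) → a = 0 := by
    rintro ⟨u, s, k, v⟩ h
    have h1 := h (0, 0, 0, 1)
    have h2 := h (1, 0, 0, 0)
    have h3 : s = 0 := C.T_nondeg fun b => by
      have := h (0, 0, b, 0)
      simpa [BB_apply, C.T_zero_left, C.T_zero_right] using this
    have h4 : k = 0 := C.T_nondeg fun b => by
      have := h (0, b, 0, 0)
      simpa [BB_apply, C.T_zero_left, C.T_zero_right] using this
    simp only [BB_apply, C.T_zero_right, mul_one, mul_zero, add_zero, zero_add] at h1 h2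
    rw [h1, h2, h3, h4]; rfl
  exact ⟨key, fun a h => key a fun b => by rw [BB_comm]; exact h b⟩

variable {C}
variable {G : Type*} [Group G] [Finite G] {P : Subgroup G} {co : Coord C P}

/-- the elements of `mkSub` are in bijection with tuples -/
noncomputable def mkSubEquiv (co : Coord C P) (p : Tup F K → Prop) (h1 : p ⟨0, 0, 0, 0, 0, 0⟩)
    (hm : ∀ a b, p a → p b → p (C.mul a b)) : mkSub co p h1 hm ≃ {a : Tup F K // p a} where
  toFun g := ⟨cx co g.1, g.2.2⟩
  invFun a := ⟨(co.e.symm a.1 : P), (co.e.symm a.1).2, by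
    rw [cx_eq (co.e.symm a.1).2]
    have : co.e ⟨((co.e.symm a.1 : P) : G), (co.e.symm a.1).2⟩ = a.1 := co.e.apply_symm_apply a.1
    rw [this]
    exact a.2⟩
  left_inv g := by
    apply Subtype.ext
    apply cx_inj (co := co) (co.e.symm _).2 g.2.1
    rw [cx_eq (co.e.symm _).2]
    exact co.e.apply_symm_apply _
  right_inv a := by
    apply Subtype.ext
    change cx co _ = a.1
    rw [cx_eq (co.e.symm _).2]
    exact co.e.apply_symm_apply _

theorem card_Z : Nat.card (Z co) = Nat.card F := by
  refine Nat.card_congr ((mkSubEquiv co _ _ _).trans ?_)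
  exact
    { toFun := fun a => a.1.a4
      invFun := fun f => ⟨⟨0, 0, 0, f, 0, 0⟩, rfl, rfl, rfl, rfl, rfl⟩
      left_inv := by
        rintro ⟨⟨a1, a2, a3, a4, a5, a6⟩, h⟩
        simp only at h
        obtain ⟨rfl, rfl, rfl, rfl, rfl⟩ := h
        rfl
      right_inv := fun _ => rfl }

theorem card_E2 : Nat.card (E2 co) = Nat.card F ^ 2 := by
  rw [pow_two, ← Nat.card_prod]
  refine Nat.card_congr ((mkSubEquiv co _ _ _).trans ?_)
  exact
    { toFun := fun a => (a.1.a2, a.1.a4)
      invFun := fun f => ⟨⟨0, f.1, 0, f.2, 0, 0⟩, rfl, rfl, rfl, rfl⟩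
      left_inv := by
        rintro ⟨⟨a1, a2, a3, a4, a5, a6⟩, h⟩
        simp only at h
        obtain ⟨rfl, rfl, rfl, rfl⟩ := h
        rfl
      right_inv := fun _ => rfl }

theorem card_F0 : Nat.card (F0 co) = Nat.card F ^ 2 * Nat.card K := by
  rw [pow_two, ← Nat.card_prod, ← Nat.card_prod]
  refine Nat.card_congr ((mkSubEquiv co _ _ _).trans ?_)
  exact
    { toFun := fun a => ((a.1.a2, a.1.a4), a.1.a3)
      invFun := fun f => ⟨⟨0, f.1.1, f.2, f.1.2, 0, 0⟩, rfl, rfl, rfl⟩
      left_inv := by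
        rintro ⟨⟨a1, a2, a3, a4, a5, a6⟩, h⟩
        simp only at h
        obtain ⟨rfl, rfl, rfl⟩ := h
        rfl
      right_inv := fun _ => rfl }

theorem card_Da : Nat.card (Da co) = Nat.card F * (Nat.card F * Nat.card K * Nat.card K * Nat.card F) := by
  rw [← Nat.card_prod, ← Nat.card_prod, ← Nat.card_prod, ← Nat.card_prod]
  refine Nat.card_congr ((mkSubEquiv co _ _ _).trans ?_)
  exact
    { toFun := fun a => (a.1.a4, (((a.1.a6, a.1.a5), a.1.a3), a.1.a2))
      invFun := fun f => ⟨⟨0, f.2.2, f.2.1.2, f.1, f.2.1.1.2, f.2.1.1.1⟩, rfl⟩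
      left_inv := by
        rintro ⟨⟨a1, a2, a3, a4, a5, a6⟩, h⟩
        simp only at h
        obtain rfl := h
        rfl
      right_inv := fun _ => rfl }

theorem card_Db : Nat.card (Db co) = Nat.card K * Nat.card K * (Nat.card F ^ 2 * Nat.card K) := by
  rw [pow_two, ← Nat.card_prod, ← Nat.card_prod, ← Nat.card_prod, ← Nat.card_prod]
  refine Nat.card_congr ((mkSubEquiv co _ _ _).trans ?_)
  exact
    { toFun := fun a => ((a.1.a1, a.1.a5), ((a.1.a2, a.1.a4), a.1.a3))
      invFun := fun f => ⟨⟨f.1.1, f.2.1.1, f.2.2, f.2.1.2, f.1.2, 0⟩, rfl⟩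
      left_inv := by
        rintro ⟨⟨a1, a2, a3, a4, a5, a6⟩, h⟩
        simp only at h
        obtain rfl := h
        rfl
      right_inv := fun _ => rfl }

/-- the image of an element of `Da` in `Da / Z` -/
noncomputable def wv (co : Coord C P) (g : G) : F × K × K × F :=
  ((cx co g).a6, (cx co g).a5, (cx co g).a3, (cx co g).a2)

omit [Finite G] in
theorem a4_cm_eq_BB {g h : G} (hg : g ∈ P) (hh : h ∈ P) (g1 : (cx co g).a1 = 0) (h1 : (cx co h).a1 = 0) :
    (cx co (cm g h)).a4 = BB C (wv co g) (wv co h) := by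
  rw [a4_cm_Da_Da hg hh g1 h1, BB_apply]
  simp only [wv]
  ring

/-- An abelian subgroup of `Da` has order at most `|F|² |K|`. -/
theorem card_le_of_abelian [Finite F] [Finite K] {A : Subgroup G} (hA : A ≤ Da co)
    (hab : ∀ a ∈ A, ∀ b ∈ A, a * b = b * a) : Nat.card A ≤ Nat.card F ^ 2 * Nat.card K := by
  set U : Submodule F (F × K × K × F) := Submodule.span F ((wv co) '' (A : Set G)) with hU
  have hBB : ∀ x ∈ U, ∀ y ∈ U, BB C x y = 0 := by
    intro x hx y hy
    refine Submodule.span_induction₂ (p := fun x y _ _ => BB C x y = 0) ?_ ?_ ?_ ?_ ?_ ?_ ?_ hx hy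
    · rintro _ _ ⟨a, ha, rfl⟩ ⟨b, hb, rfl⟩
      rw [← a4_cm_eq_BB (hA ha).1 (hA hb).1 (hA ha).2 (hA hb).2, cm_eq_one.2 (hab a ha b hb), cx_one]
    · intro y _; simp
    · intro x _; simp
    · intro x y z _ _ _ h1 h2; rw [map_add, LinearMap.add_apply, h1, h2, add_zero]
    · intro x y z _ _ _ h1 h2; rw [map_add, h1, h2, add_zero]
    · intro r x y _ _ h; rw [map_smul, LinearMap.smul_apply, h, smul_zero]
    · intro r x y _ _ h; rw [map_smul, h, smul_zero]
  have h1 : U ≤ (BB C).orthogonal U := by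
    intro x hx
    rw [LinearMap.BilinForm.mem_orthogonal_iff]
    intro y hy
    exact hBB y hy x hx
  have h2 : Nat.card U * Nat.card U ≤ Nat.card F * (Nat.card K * (Nat.card K * Nat.card F)) := by
    have e : Nat.card F * (Nat.card K * (Nat.card K * Nat.card F)) = Nat.card (F × K × K × F) := by
      rw [Nat.card_prod, Nat.card_prod, Nat.card_prod]
    rw [e, ← card_mul_card_orthogonal (BB C) (BB_nondegenerate C) U]
    exact Nat.mul_le_mul_left _ (Nat.card_le_card_of_injective _ (Submodule.inclusion_injective h1))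
  have h3 : Nat.card A ≤ Nat.card F * Nat.card U := by
    rw [← Nat.card_prod]
    refine Nat.card_le_card_of_injective
      (fun a : A => ((cx co a.1).a4, (⟨wv co a.1, Submodule.subset_span ⟨a.1, a.2, rfl⟩⟩ : U))) ?_
    intro a b hab
    simp only [Prod.mk.injEq, Subtype.mk.injEq, wv] at hab
    obtain ⟨e4, e6, e5, e3, e2⟩ := hab
    apply Subtype.ext
    apply cx_inj (co := co) (hA a.2).1 (hA b.2).1
    exact Tup.ext (by rw [(hA a.2).2, (hA b.2).2]) e2 e3 e4 e5 e6
  have h4 : Nat.card U ≤ Nat.card F * Nat.card K := by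
    by_contra hcon
    push Not at hcon
    have : (Nat.card F * Nat.card K) * (Nat.card F * Nat.card K) < Nat.card U * Nat.card U :=
      Nat.mul_lt_mul'' hcon hcon
    have e : Nat.card F * (Nat.card K * (Nat.card K * Nat.card F)) =
      (Nat.card F * Nat.card K) * (Nat.card F * Nat.card K) := by ring
    omega
  calc Nat.card A ≤ Nat.card F * Nat.card U := h3
    _ ≤ Nat.card F * (Nat.card F * Nat.card K) := Nat.mul_le_mul_left _ h4
    _ = Nat.card F ^ 2 * Nat.card K := by ring

/-! ### Existence of elements of `K` -/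

section K

variable [Finite F] [Finite K]

theorem exists_T_eq_zero (h : Nat.card F < Nat.card K) (k : K) : ∃ κ : K, κ ≠ 0 ∧ C.T κ k = 0 := by
  by_contra hcon
  push Not at hcon
  have hinj : Function.Injective (fun κ : K => C.T κ k) := by
    intro a b hab
    by_contra hne
    have h1 : C.T (a + b) k = 0 := by
      rw [C.T_add_left]
      have : C.T a k = C.T b k := hab
      rw [this, C.add_self]
    refine hcon (a + b) (fun h0 => hne (C.eq_of_add_eq_zeroK h0)) h1
  have := Nat.card_le_card_of_injective _ hinj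
  omega

theorem exists_T_eq_zero₂ (h : Nat.card F ^ 2 < Nat.card K) (k k' : K) :
    ∃ κ : K, κ ≠ 0 ∧ C.T κ k = 0 ∧ C.T κ k' = 0 := by
  by_contra hcon
  push Not at hcon
  have hinj : Function.Injective (fun κ : K => (C.T κ k, C.T κ k')) := by
    intro a b hab
    by_contra hne
    simp only [Prod.mk.injEq] at hab
    have h1 : C.T (a + b) k = 0 := by rw [C.T_add_left, hab.1, C.add_self]
    have h2 : C.T (a + b) k' = 0 := by rw [C.T_add_left, hab.2, C.add_self]
    exact hcon (a + b) (fun h0 => hne (C.eq_of_add_eq_zeroK h0)) h1 h2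
  have := Nat.card_le_card_of_injective _ hinj
  rw [Nat.card_prod, ← pow_two] at this
  omega

theorem exists_cr_ne_zero (hC : Reg C) (h : Nat.card F < Nat.card K) {k : K} (hk : k ≠ 0) :
    ∃ w, C.cr k w ≠ 0 := by
  by_contra hcon
  push Not at hcon
  have hsurj : Function.Surjective (fun f : F => f • k) := by
    intro w
    obtain ⟨f, hf⟩ := exists_smul_of_cr_eq_zero hC hk (hcon w)
    exact ⟨f, hf.symm⟩
  have := Nat.card_le_card_of_surjective _ hsurj
  omega

/-- `|k^⊥| |F| = |K|` -/
theorem card_T_ker {k : K} (hk : k ≠ 0) : Nat.card {κ : K // C.T k κ = 0} * Nat.card F = Nat.card K := by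
  let f : K →+ F := AddMonoidHom.mk' (fun κ => C.T k κ) (fun a b => C.T_add_right k a b)
  have hf : Function.Surjective f := fun y => C.exists_T_eq hk y
  have h1 := AddSubgroup.card_mul_index f.ker
  have h2 : f.ker.index = Nat.card F := by
    rw [AddSubgroup.index_ker, AddMonoidHom.range_eq_top.2 hf, AddSubgroup.card_top]
  rw [h2] at h1
  exact h1

end K

end Cfsg.Agent.HexEss
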