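import Cfsg.Agent.HexEss.Abel
import Cfsg.Agent.Hex.SE

/-!
# Essential subgroups of a hexagonal 2-group: common lemmas

Short chains for the lemmas (CH) and (RED), `Z ≤ Ω₁(Z(X))`.
-/

set_option autoImplicit false

namespace Cfsg.Agent.HexEss.Common

open Cfsg.Agent.HexRec Subgroup Cfsg.Agent.HexEss Cfsg.Agent.Hex.SE Cfsg.Agent.Lib.EssDefs

universe u

section General

variable {G : Type u} [Group G] [Finite G] {P X H : Subgroup G}

omit [Finite G] in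
theorem cm_conj (n g k : G) : n * cm g k * n⁻¹ = cm (n * g * n⁻¹) (n * k * n⁻¹) := by unfold cm; group

theorem mem_normalizer_of_cm {t : G} (h : ∀ x ∈ X, cm t x ∈ X) : t ∈ normalizer (X : Set G) := by
  have h1 : X.map (MulAut.conj t).toMonoidHom ≤ X := by
    rintro _ ⟨x, hx, rfl⟩
    have := mul_mem (h x hx) hx
    unfold cm at this
    simpa using this
  rw [mem_normalizer_iff_map_conj_eq]
  apply Subgroup.eq_of_le_of_card_ge h1
  rw [Nat.card_congr (X.equivMapOfInjective (MulAut.conj t).toMonoidHom (MulAut.conj t).injective).toEquiv]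

omit [Finite G] in
theorem le_normalizer_of_conj {t : G} (ht : t ∈ normalizer (X : Set G)) {x : G} (hx : x ∈ X) : cm t x ∈ X :=
  mul_mem ((mem_normalizer_iff.1 ht x).1 hx) (inv_mem hx)

/-- (CH) for a chain `X ≥ V ≥ 1` -/
theorem mem_of_chain2 (hP : IsPGroup 2 P) (h : IsEss 2 P X H) {V : Subgroup G} (hVX : V ≤ X)
    (hV : ∀ n ∈ normalizer (X : Set G), ∀ v ∈ V, n * v * n⁻¹ ∈ V) {t : G} (htP : t ∈ P) (htX : ∀ x ∈ X, cm t x ∈ V)
    (htV : ∀ v ∈ V, cm t v = 1) : t ∈ X := by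
  have htN : t ∈ normalizer (X : Set G) := mem_normalizer_of_cm fun x hx => hVX (htX x hx)
  let D : ℕ → Subgroup G := fun i => match i with
    | 0 => X
    | 1 => V
    | _ => ⊥
  refine mem_of_chain hP h D (k := 2) rfl rfl ?_ ?_ htP htN ?_
  · rintro (_ | _ | i)
    · exact hVX
    · exact bot_le
    · exact le_rfl
  · rintro n hn (_ | _ | i) d hd
    · exact (mem_normalizer_iff.1 hn d).1 hd
    · exact hV n hn d hd
    · rw [show d = 1 from hd]; group; exact one_mem _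
  · rintro (_ | _ | i) d hd
    · exact htX d hd
    · exact htV d hd
    · rw [show d = 1 from hd]; group; exact one_mem _

/-- (CH) for a chain `X ≥ Y ≥ V ≥ 1` -/
theorem mem_of_chain3 (hP : IsPGroup 2 P) (h : IsEss 2 P X H) {Y V : Subgroup G} (hYX : Y ≤ X) (hVY : V ≤ Y)
    (hY : ∀ n ∈ normalizer (X : Set G), ∀ v ∈ Y, n * v * n⁻¹ ∈ Y)
    (hV : ∀ n ∈ normalizer (X : Set G), ∀ v ∈ V, n * v * n⁻¹ ∈ V) {t : G} (htP : t ∈ P) (htX : ∀ x ∈ X, cm t x ∈ Y)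
    (htY : ∀ y ∈ Y, cm t y ∈ V) (htV : ∀ v ∈ V, cm t v = 1) : t ∈ X := by
  have htN : t ∈ normalizer (X : Set G) := mem_normalizer_of_cm fun x hx => hYX (htX x hx)
  let D : ℕ → Subgroup G := fun i => match i with
    | 0 => X
    | 1 => Y
    | 2 => V
    | _ => ⊥
  refine mem_of_chain hP h D (k := 3) rfl rfl ?_ ?_ htP htN ?_
  · rintro (_ | _ | _ | i)
    · exact hYX
    · exact hVY
    · exact bot_le
    · exact le_rfl
  · rintro n hn (_ | _ | _ | i) d hd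
    · exact (mem_normalizer_iff.1 hn d).1 hd
    · exact hY n hn d hd
    · exact hV n hn d hd
    · rw [show d = 1 from hd]; group; exact one_mem _
  · rintro (_ | _ | _ | i) d hd
    · exact htX d hd
    · exact htY d hd
    · exact htV d hd
    · rw [show d = 1 from hd]; group; exact one_mem _

omit [Finite G] in
theorem notMem_Cs {b v : G} (hv : v ∈ omegaZ X) (hbv : cm b v ≠ 1) : b ∉ Cs (sec_omegaZ X) := by
  intro hb
  have := hb.2 v hv
  rw [mem_bot] at this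
  exact hbv this

omit [Finite G] in
theorem mem_K0_of_mem {g : G} (hg : g ∈ X) : g ∈ K0 X := mem_sup_left hg

/-- (RED) for `V = Ω₁(Z(X))` and the chain `X ≥ V ≥ 1` -/
theorem relSE2 (hP : IsPGroup 2 P) (h : IsEss 2 P X H) {b v : G} (hbP : b ∈ P)
    (hbb : b * b ∈ X) (hv : v ∈ omegaZ X) (hbv : cm b v ≠ 1) (hbX : ∀ x ∈ X, cm b x ∈ omegaZ X) :
    RelSE H (Cs (sec_omegaZ X)) X := by
  have hbN : b ∈ normalizer (X : Set G) := mem_normalizer_of_cm fun x hx => (hbX x hx).1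
  let D : ℕ → Subgroup G := fun i => match i with
    | 0 => X
    | 1 => omegaZ X
    | _ => ⊥
  refine relSE hP h (sec_omegaZ X) hbP hbN (mem_K0_of_mem hbb) (notMem_Cs hv hbv) D (k := 2) rfl rfl ?_ ?_ ?_
  · rintro (_ | _ | i)
    · exact fun _ h => h.1
    · exact bot_le
    · exact le_rfl
  · rintro n hn (_ | _ | i) d hd
    · exact (mem_normalizer_iff.1 hn.1 d).1 hd
    · exact omegaZ_conj hn.1 hd
    · rw [show d = 1 from hd]; group; exact one_mem _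
  · rintro (_ | _ | i)
    · exact Or.inl hbX
    · exact Or.inr fun n hn d hd => hn.2 d hd
    · refine Or.inr fun n _ d hd => ?_
      rw [show d = 1 from hd]; group; exact one_mem _

/-- (RED) for a section `A / A0` and a chain `X ≥ Y ≥ V ≥ 1` of `C_N(A / A0)`-invariant subgroups -/
theorem relSE3 (hP : IsPGroup 2 P) (h : IsEss 2 P X H) {A A0 : Subgroup G} (hs : Sec X A A0) {b : G} (hbP : b ∈ P)
    (hbN : b ∈ normalizer (X : Set G)) (hbb : b * b ∈ X) (hb : b ∉ Cs hs) {Y V : Subgroup G} (hYX : Y ≤ X) (hVY : V ≤ Y)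
    (hY : ∀ n ∈ Cs hs, ∀ v ∈ Y, n * v * n⁻¹ ∈ Y) (hV : ∀ n ∈ Cs hs, ∀ v ∈ V, n * v * n⁻¹ ∈ V)
    (h1 : (∀ x ∈ X, cm b x ∈ Y) ∨ ∀ n ∈ Cs hs, ∀ x ∈ X, cm n x ∈ Y)
    (h2 : (∀ y ∈ Y, cm b y ∈ V) ∨ ∀ n ∈ Cs hs, ∀ x ∈ Y, cm n x ∈ V)
    (h3 : (∀ v ∈ V, cm b v = 1) ∨ ∀ n ∈ Cs hs, ∀ x ∈ V, cm n x = 1) : RelSE H (Cs hs) X := by
  let D : ℕ → Subgroup G := fun i => match i with
    | 0 => X
    | 1 => Y
    | 2 => V
    | _ => ⊥
  refine relSE hP h hs hbP hbN (mem_K0_of_mem hbb) hb D (k := 3) rfl rfl ?_ ?_ ?_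
  · rintro (_ | _ | _ | i)
    · exact hYX
    · exact hVY
    · exact bot_le
    · exact le_rfl
  · rintro n hn (_ | _ | _ | i) d hd
    · exact (mem_normalizer_iff.1 hn.1 d).1 hd
    · exact hY n hn d hd
    · exact hV n hn d hd
    · rw [show d = 1 from hd]; group; exact one_mem _
  · rintro (_ | _ | _ | i)
    · exact h1
    · exact h2
    · exact h3
    · refine Or.inr fun n _ d hd => ?_
      rw [show d = 1 from hd]; group; exact one_mem _

/-- (SE) for `V = Ω₁(Z(X))` -/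
theorem omegaZ_se (h : IsEss 2 P X H) (hrel : RelSE H (Cs (sec_omegaZ X)) X)
    {T : Subgroup G} (hTP : T ≤ P) (hTN : T ≤ normalizer (X : Set G)) {Z1 C1 : Subgroup G}
    (hC1 : ∀ a, a ∈ C1 ↔ a ∈ omegaZ X ∧ ∀ t ∈ T, cm t a = 1) (hZC : Z1 ≤ C1)
    (hq : ∀ t ∈ T, ∀ a ∈ omegaZ X, cm t a ∈ Z1)
    (hsurj : ∀ a ∈ omegaZ X, a ∉ C1 → ∀ z ∈ Z1, ∃ t ∈ T, cm t a = z) (hne : ∃ a ∈ omegaZ X, a ∉ C1)
    {x : G} (hx : x ∈ normalizer (X : Set G)) (hxH : x ∉ H ⊔ Cs (sec_omegaZ X)) :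
    (∀ z ∈ Z1, (∀ t ∈ T, cm (x * t * x⁻¹) z = 1) → z = 1) ∧
    (∀ z ∈ Z1, x * z * x⁻¹ ∈ C1 → z = 1) ∧
    (∀ z ∈ Z1, z ≠ 1 → ∀ t ∈ T, cm t (x * z * x⁻¹) = 1 → ∀ v ∈ omegaZ X, cm t v = 1) ∧
    Nat.card Z1 * Nat.card C1 ≤ Nat.card (omegaZ X) := by
  obtain ⟨h1, h2, h3, -, h5⟩ := sec_se h (sec_omegaZ X) hrel hTP hTN (Z1 := Z1) (C1 := C1) bot_le
    (fun a => by rw [hC1]; exact Iff.rfl) hZC hq (fun a ha haC z hz => by
      obtain ⟨t, ht, he⟩ := hsurj a ha haC z hz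
      refine ⟨t, ht, ?_⟩
      change cm t a * z⁻¹ ∈ _
      rw [he, mul_inv_cancel]; exact one_mem _) hne hx hxH
  refine ⟨h1, h2, fun z hz hz1 t ht htz v hv => ?_, ?_⟩
  · exact (h3 z hz (by rwa [mem_bot]) t ht (by rw [mem_bot]; exact htz)).2 v hv
  · simpa [relIndex_bot_left] using h5

end General

section Hex

variable {F K : Type*} [Field F] [Field K] [Algebra F K] {C : Cubic F K}
variable {G : Type u} [Group G] [Finite G] {P X H : Subgroup G} {co : Coord C P}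

theorem Z_le_X (h : IsEss 2 P X H) : Z co ≤ X := by
  intro z hz
  apply h.cent
  refine ⟨mem_centralizer_iff.2 fun x hx => ?_, hz.1⟩
  exact cm_eq_one.1 (cm_Z (h.lt.le hx) hz)

theorem Z_le_omegaZ (h : IsEss 2 P X H) : Z co ≤ omegaZ X := by
  intro z hz
  refine ⟨Z_le_X h hz, mem_centralizer_iff.2 fun x hx => ?_, sq_F0 (Z_le_F0 hz)⟩
  exact cm_eq_one.1 (cm_Z (h.lt.le hx) hz)

omit [Finite G] in
theorem cm_omegaZ {v x : G} (hv : v ∈ omegaZ X) (hx : x ∈ X) : cm x v = 1 :=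
  cm_eq_one.2 (mem_centralizer_iff.1 hv.2.1 x hx)

omit [Finite G] in
theorem cm_omegaZ' {v x : G} (hv : v ∈ omegaZ X) (hx : x ∈ X) : cm v x = 1 :=
  cm_eq_one.2 (mem_centralizer_iff.1 hv.2.1 x hx).symm

end Hex

end Cfsg.Agent.HexEss.Common
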