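import Cfsg.Agent.HexEss.Step1

/-!
# Essential subgroups of a hexagonal 2-group contain `F0 = U2 U3 U4`
-/

set_option autoImplicit false

namespace Cfsg.Agent.HexEss.Step2

open Cfsg.Agent.HexRec Subgroup Cfsg.Agent.HexEss Cfsg.Agent.Hex.SE Cfsg.Agent.Lib.EssDefs
open Cfsg.Agent.HexEss.Common Cfsg.Agent.HexEss.Abel Cfsg.Agent.HexEss.Step1

universe u

section Yc

variable {G : Type u} [Group G] {X V : Subgroup G}

/-- the elements of order two of `Z(X/V)`, for `V` central in `X` -/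
def Yc (X V : Subgroup G) (hVc : ∀ v ∈ V, ∀ x ∈ X, x * v = v * x) : Subgroup G where
  carrier := {g | g ∈ X ∧ (∀ x ∈ X, cm g x ∈ V) ∧ g * g ∈ V}
  one_mem' := ⟨one_mem _, fun x _ => by unfold cm; simp [one_mem], by simp [one_mem]⟩
  mul_mem' := by
    rintro a b ⟨ha, ha', ha2⟩ ⟨hb, hb', hb2⟩
    refine ⟨mul_mem ha hb, fun x hx => ?_, ?_⟩
    · have h1 : cm (a * b) x = a * cm b x * a⁻¹ * cm a x := by unfold cm; group
      rw [h1, hVc _ (hb' x hx) a ha, mul_inv_cancel_right]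
      exact mul_mem (hb' x hx) (ha' x hx)
    · have h1 : a * b * (a * b) = a * cm b a * a * (b * b) := by unfold cm; group
      rw [h1, hVc _ (hb' a ha) a ha, mul_assoc (cm b a)]
      exact mul_mem (mul_mem (hb' a ha) ha2) hb2
  inv_mem' := by
    rintro a ⟨ha, ha', ha2⟩
    refine ⟨inv_mem ha, fun x hx => ?_, ?_⟩
    · have h1 : cm a⁻¹ x = a⁻¹ * (cm a x)⁻¹ * a⁻¹⁻¹ := by unfold cm; group
      rw [h1, hVc _ (inv_mem (ha' x hx)) a⁻¹ (inv_mem ha), mul_inv_cancel_right]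
      exact inv_mem (ha' x hx)
    · rw [← mul_inv_rev]
      exact inv_mem ha2

theorem mem_Yc {hVc : ∀ v ∈ V, ∀ x ∈ X, x * v = v * x} {g : G} :
    g ∈ Yc X V hVc ↔ g ∈ X ∧ (∀ x ∈ X, cm g x ∈ V) ∧ g * g ∈ V := Iff.rfl

theorem Yc_conj {hVc : ∀ v ∈ V, ∀ x ∈ X, x * v = v * x} {n : G} (hn : n ∈ normalizer (X : Set G))
    (hnV : ∀ v ∈ V, n * v * n⁻¹ ∈ V) {g : G} (hg : g ∈ Yc X V hVc) : n * g * n⁻¹ ∈ Yc X V hVc := by
  obtain ⟨h1, h2, h3⟩ := hg
  refine ⟨(mem_normalizer_iff.1 hn g).1 h1, fun x hx => ?_, ?_⟩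
  · have h4 : n⁻¹ * x * n ∈ X := by
      have := (mem_normalizer_iff.1 (inv_mem hn) x).1 hx
      simpa using this
    have h5 : cm (n * g * n⁻¹) x = n * cm g (n⁻¹ * x * n) * n⁻¹ := by unfold cm; group
    rw [h5]
    exact hnV _ (h2 _ h4)
  · have h5 : n * g * n⁻¹ * (n * g * n⁻¹) = n * (g * g) * n⁻¹ := by group
    rw [h5]
    exact hnV _ h3

theorem le_Yc {hVc : ∀ v ∈ V, ∀ x ∈ X, x * v = v * x} (hVX : V ≤ X) : V ≤ Yc X V hVc := by
  intro v hv
  refine ⟨hVX hv, fun x hx => ?_, mul_mem hv hv⟩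
  rw [cm_eq_one.2 (hVc v hv x hx).symm]
  exact one_mem _

end Yc

variable {F K : Type*} [Field F] [Field K] [Algebra F K] {C : Cubic F K}
variable {G : Type u} [Group G] [Finite G] {P X H : Subgroup G} {co : Coord C P}

theorem cm_mem_E2' {g k : G} (hg : g ∈ F0 co) (hk : k ∈ P) : cm g k ∈ E2 co := by
  rw [cm_swap]
  exact inv_mem (cm_mem_E2 hk hg)

theorem cm_mem_Z' {g k : G} (hg : g ∈ E2 co) (hk : k ∈ P) : cm g k ∈ Z co := by
  rw [cm_swap]
  exact inv_mem (cm_mem_Z hk hg)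

theorem omegaZ_le_Db (h : IsEss 2 P X H) (co : Coord C P) (hE : E2 co ≤ X) : omegaZ X ≤ Db co := by
  intro v hv
  refine ⟨h.lt.le hv.1, a6_eq_zero_of_comm (h.lt.le hv.1) fun x hx => cm_omegaZ' hv (hE hx)⟩

theorem E2_le_omegaZ (hE : E2 co ≤ X) (hX : X ≤ Db co) : E2 co ≤ omegaZ X := by
  intro e he
  refine ⟨hE he, mem_centralizer_iff.2 fun x hx => ?_, sq_F0 (E2_le_F0 he)⟩
  exact cm_eq_one.1 (cm_Db_E2 (hX hx) he)

theorem F0_le_normalizer (h : IsEss 2 P X H) (hE : E2 co ≤ X) : F0 co ≤ normalizer (X : Set G) := by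
  intro g hg
  exact mem_normalizer_of_cm fun x hx => hE (cm_mem_E2' hg (h.lt.le hx))

omit [Finite G] in
theorem omegaZ_comm {X : Subgroup G} : ∀ v ∈ omegaZ X, ∀ x ∈ X, x * v = v * x := fun _ hv x hx =>
  mem_centralizer_iff.1 hv.2.1 x hx

theorem sq_mem_Z {b : G} (hb : b ∈ Da co) : b * b ∈ Z co := by
  refine ⟨mul_mem hb.1 hb.1, a1_sq hb.1, a2_sq_Da hb.1 hb.2, a3_sq_Da hb.1 hb.2, ?_, a6_sq hb.1⟩
  rw [a5_sq hb.1, hb.2, smul_zero]

/-- Step 2a: `Ω₁(Z(X)) ≤ F0` -/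
theorem step2a (hP : IsPGroup 2 P) (h : IsEss 2 P X H) (hE : E2 co ≤ X) {f0 : G}
    (hf0 : f0 ∈ F0 co) (hf0X : f0 ∉ X) (hV : omegaZ X ≤ F0 co) : False := by
  have hXP : X ≤ P := h.lt.le
  have hVX : omegaZ X ≤ X := fun _ hv => hv.1
  have hVn : ∀ n ∈ normalizer (X : Set G), ∀ v ∈ omegaZ X, n * v * n⁻¹ ∈ omegaZ X :=
    fun n hn v hv => omegaZ_conj hn hv
  by_cases hX : X ≤ Db co
  · -- `X ≤ Db`
    have hEV := E2_le_omegaZ hE hX
    apply hf0X
    exact mem_of_chain2 hP h hVX hVn hf0.1 (fun x hx => hEV (cm_mem_E2' hf0 (hXP hx)))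
      (fun v hv => cm_F0_F0 hf0 (hV hv))
  · obtain ⟨g0, hg0, hg0D⟩ := SetLike.not_le_iff_exists.1 hX
    have hg0P := hXP hg0
    have h6 : (cx co g0).a6 ≠ 0 := fun h6 => hg0D ⟨hg0P, h6⟩
    by_cases hY : ∃ g ∈ Yc X (omegaZ X) omegaZ_comm, (cx co g).a6 ≠ 0
    · obtain ⟨g, ⟨hgX, hg, hgg⟩, hg6⟩ := hY
      have hgP := hXP hgX
      have hg1 : (cx co g).a1 = 0 := by
        have h2 := a5_sq (co := co) hgP
        rw [(hV hgg).2.2.1] at h2
        exact (smul_eq_zero.1 h2.symm).resolve_left hg6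
      have hXDa : X ≤ Da co := by
        intro x hx
        refine ⟨hXP hx, ?_⟩
        have h2 := a5_cm_Da (co := co) (hXP hx) hgP hg1
        have h3 : cm x g ∈ F0 co := by
          rw [cm_swap]
          exact inv_mem (hV (hg x hx))
        rw [h3.2.2.1] at h2
        exact (smul_eq_zero.1 h2.symm).resolve_left hg6
      have hDaN : Da co ≤ normalizer (X : Set G) := fun t ht =>
        mem_normalizer_of_cm fun x hx => Z_le_X h (cm_mem_Z_of_Da ht (hXDa hx))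
      have hDaV : ∀ t ∈ Da co, ∀ v ∈ omegaZ X, cm t v = 1 := by
        by_contra hcon
        push Not at hcon
        obtain ⟨b, hb, v, hv, hbv⟩ := hcon
        apply hf0X
        refine mem_of_mem_Cs hP h (sec_omegaZ X) hb.1 (hDaN hb) ?_ (notMem_Cs hv hbv) hf0.1
          ⟨F0_le_normalizer h hE hf0, fun a ha => ?_⟩
        · apply mem_K0_of_mem
          exact Z_le_X h (sq_mem_Z hb)
        · rw [mem_bot]
          exact cm_F0_F0 hf0 (hV ha)
      have hVZ : omegaZ X ≤ Z co := fun v hv =>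
        mem_Z_of_Da (hXDa hv.1) (fun t ht => hDaV t ht v hv)
      apply hf0X
      exact mem_of_chain2 hP h hVX hVn hf0.1
        (fun x hx => Z_le_omegaZ h (cm_mem_Z_of_Da (F0_le_Da hf0) (hXDa hx)))
        (fun v hv => cm_F0_F0 hf0 (hV hv))
    · push Not at hY
      have hYR : Yc X (omegaZ X) omegaZ_comm ≤ RR co := by
        intro g hg
        have hg6 := hY g hg
        obtain ⟨hgX, hg, hgg⟩ := hg
        refine ⟨hXP hgX, ?_, hg6⟩
        have h2 := a5_cm (co := co) (hXP hgX) hg0P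
        rw [(hV (hg g0 hg0)).2.2.1, hg6, zero_smul, zero_add] at h2
        exact (smul_eq_zero.1 h2.symm).resolve_left h6
      have hEY : E2 co ≤ Yc X (omegaZ X) omegaZ_comm := by
        intro e he
        refine ⟨hE he, fun x hx => Z_le_omegaZ h (cm_mem_Z' he (hXP hx)), ?_⟩
        rw [sq_F0 (E2_le_F0 he)]
        exact one_mem _
      apply hf0X
      refine mem_of_chain3 hP h (Y := Yc X (omegaZ X) omegaZ_comm) (V := omegaZ X) (fun g hg => hg.1)
        (le_Yc hVX) (fun n hn v hv => Yc_conj hn (hVn n hn) hv) hVn hf0.1 (fun x hx => hEY (cm_mem_E2' hf0 (hXP hx)))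
        (fun y hy => Z_le_omegaZ h (cm_mem_Z_of_Da (F0_le_Da hf0) (RR_le_Da (hYR hy))))
        (fun v hv => cm_F0_F0 hf0 (hV hv))

/-- Step 2b: the `a`- and `a+b`-coordinates of an elementary abelian subgroup of `Db` are proportional -/
theorem exists_slope (hline : ∀ t s : K, t ≠ 0 → C.cr t s = 0 → ∃ f : F, s = f • t) {V : Subgroup G}
    (hVD : V ≤ Db co) (hsq : ∀ v ∈ V, v * v = 1) :
    (∀ v ∈ V, (cx co v).a1 = 0) ∨ ∃ β : F, ∀ v ∈ V, (cx co v).a5 = β • (cx co v).a1 := by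
  by_cases hall : ∀ v ∈ V, (cx co v).a1 = 0
  · exact Or.inl hall
  refine Or.inr ?_
  push Not at hall
  obtain ⟨v1, hv1, ht1⟩ := hall
  -- the relations
  have q3 : ∀ v ∈ V, C.cr (cx co v).a1 (cx co v).a5 = 0 := by
    intro v hv
    rw [← a3_sq_Db (hVD hv).1 (hVD hv).2, hsq v hv, cx_one]
  have q2 : ∀ v ∈ V, C.T (cx co v).a1 (cx co v).a3 + C.T (C.sh (cx co v).a1) (cx co v).a5 = 0 := by
    intro v hv
    rw [← a2_sq_Db (hVD hv).1 (hVD hv).2, hsq v hv, cx_one]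
  have q4 : ∀ v ∈ V, C.T (cx co v).a1 (C.sh (cx co v).a5) + C.T (cx co v).a3 (cx co v).a5 = 0 := by
    intro v hv
    rw [← a4_sq_Db (hVD hv).1 (hVD hv).2, hsq v hv, cx_one]
  have m1 : ∀ v ∈ V, (cx co (v1 * v)).a1 = (cx co v1).a1 + (cx co v).a1 := fun v hv =>
    a1_mul (hVD hv1).1 (hVD hv).1
  have m5 : ∀ v ∈ V, (cx co (v1 * v)).a5 = (cx co v1).a5 + (cx co v).a5 := by
    intro v hv
    rw [a5_mul (hVD hv1).1 (hVD hv).1, (hVD hv1).2, zero_smul, add_zero]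
  have m3 : ∀ v ∈ V, (cx co (v1 * v)).a3 = (cx co v1).a3 + (cx co v).a3 + C.cr (cx co v).a1 (cx co v1).a5 := by
    intro v hv
    rw [a3_mul (hVD hv1).1 (hVD hv).1, (hVD hv1).2, zero_smul, add_zero]
  have hN := C.N_ne_zero ht1
  obtain ⟨β, hβ⟩ := hline _ _ ht1 (q3 v1 hv1)
  refine ⟨β, ?_⟩
  -- the case `t = 0`
  have case0 : ∀ v ∈ V, (cx co v).a1 = 0 → (cx co v).a5 = 0 := by
    intro v hv h1
    have e3 := q3 _ (mul_mem hv1 hv)
    rw [m1 v hv, m5 v hv, h1, add_zero, C.cr_add_right, q3 v1 hv1, zero_add] at e3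
    obtain ⟨f, hf⟩ := hline _ _ ht1 e3
    have e4 := q4 v hv
    rw [h1, C.T_zero_left, zero_add, hf, C.T_smul_right] at e4
    have e2 := q2 _ (mul_mem hv1 hv)
    rw [m1 v hv, m5 v hv, m3 v hv, h1, C.cr_zero_left, add_zero, add_zero, C.T_add_right, C.T_add_right, hf,
      C.T_smul_right, C.T_sh_self] at e2
    have e2' := q2 v1 hv1
    rw [C.T_comm] at e4
    have e5 : C.T (cx co v1).a1 (cx co v).a3 = f * C.N (cx co v1).a1 := by
      apply C.eq_of_add_eq_zero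
      linear_combination e2 - e2'
    rw [e5] at e4
    have hf0 : f = 0 := by
      by_contra hf0
      exact mul_ne_zero hf0 (mul_ne_zero hf0 hN) e4
    rw [hf, hf0, zero_smul]
  intro v hv
  by_cases h1 : (cx co v).a1 = 0
  · rw [case0 v hv h1, h1, smul_zero]
  obtain ⟨f, hf⟩ := hline _ _ h1 (q3 v hv)
  by_cases hfβ : f = β
  · rw [hf, hfβ]
  exfalso
  have hfβ' : β + f ≠ 0 := fun h => hfβ (C.eq_of_add_eq_zero h).symm
  have e3 := q3 _ (mul_mem hv1 hv)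
  rw [m1 v hv, m5 v hv, C.cr_add_left, C.cr_add_right, C.cr_add_right, q3 v1 hv1, q3 v hv, hf, hβ, cr_smul_right,
    cr_smul_right, C.cr_comm (cx co v).a1, zero_add, add_zero, ← add_smul] at e3
  have e3' : C.cr (cx co v1).a1 (cx co v).a1 = 0 :=
    (smul_eq_zero.1 e3).resolve_left (fun h => hfβ' (by rw [add_comm]; exact h))
  obtain ⟨g, hg⟩ := hline _ _ ht1 e3'
  by_cases hg1 : g = 1
  · have h2 := case0 _ (mul_mem hv1 hv) (by rw [m1 v hv, hg, hg1, one_smul, C.add_selfK])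
    rw [m5 v hv, hf, hβ, hg, hg1, one_smul, ← add_smul] at h2
    exact hfβ' ((smul_eq_zero.1 h2).resolve_right ht1)
  · have hg1' : 1 + g ≠ 0 := fun h => hg1 (C.eq_of_add_eq_zero h).symm
    have hg0 : g ≠ 0 := by
      rintro rfl
      rw [zero_smul] at hg
      exact h1 hg
    have e2 := q2 _ (mul_mem hv1 hv)
    have e2' := q2 v1 hv1
    have e2'' := q2 v hv
    have hs : (cx co v1).a1 + (cx co v).a1 = (1 + g) • (cx co v1).a1 := by rw [hg, add_smul, one_smul]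
    have hs5 : (cx co v1).a5 + (cx co v).a5 = (β + f * g) • (cx co v1).a1 := by
      rw [hf, hβ, hg, add_smul, mul_smul]
    have hcr : C.cr (cx co v).a1 (cx co v1).a5 = 0 := by
      rw [hβ, cr_smul_right, C.cr_comm, e3', smul_zero]
    rw [m1 v hv, m5 v hv, m3 v hv, hcr, add_zero, hs, hs5, C.sh_smul, C.T_smul_left, C.T_smul_left,
      C.T_smul_right, C.T_sh_self, C.T_add_right] at e2
    rw [hβ, C.T_smul_right, C.T_sh_self] at e2'
    rw [hf, hg, C.sh_smul, C.T_smul_left, C.T_smul_left, C.T_smul_right, C.T_smul_right, C.T_sh_self] at e2''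
    have key : (1 + g) * g * ((β + f) * (g * C.N (cx co v1).a1)) = 0 := by
      have := charPF C
      grind
    exact mul_ne_zero (mul_ne_zero hg1' hg0) (mul_ne_zero hfβ' (mul_ne_zero hg0 hN)) key

theorem card_Z_le (co : Coord C P) : Nat.card (Z co) ≤ Nat.card F := by
  have := finite_F co
  apply Nat.card_le_card_of_injective (fun z : Z co => (cx co (z : G)).a4)
  rintro ⟨z, hz⟩ ⟨w, hw⟩ h
  apply Subtype.ext
  apply cx_inj (co := co) hz.1 hw.1
  exact Tup.ext (hz.2.1.trans hw.2.1.symm) (hz.2.2.1.trans hw.2.2.1.symm) (hz.2.2.2.1.trans hw.2.2.2.1.symm) h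
    (hz.2.2.2.2.1.trans hw.2.2.2.2.1.symm) (hz.2.2.2.2.2.trans hw.2.2.2.2.2.symm)

theorem card_Xe_le (co : Coord C P) : Nat.card (Xe co) ≤ Nat.card F := by
  have := finite_F co
  apply Nat.card_le_card_of_injective (fun z : Xe co => (cx co (z : G)).a2)
  rintro ⟨z, hz⟩ ⟨w, hw⟩ h
  apply Subtype.ext
  apply cx_inj (co := co) hz.1 hw.1
  exact Tup.ext (hz.2.1.trans hw.2.1.symm) h (hz.2.2.1.trans hw.2.2.1.symm) (hz.2.2.2.1.trans hw.2.2.2.1.symm)
    (hz.2.2.2.2.1.trans hw.2.2.2.2.1.symm) (hz.2.2.2.2.2.trans hw.2.2.2.2.2.symm)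

theorem card_Da_ge (co : Coord C P) : Nat.card (F × K × K × F) * Nat.card (Z co) ≤ Nat.card (Da co) :=
  card_image_le (B := Da co) (Z := Z co) Z_le_Da (wA co) (fun g hg z hz => by
    rw [wA_mul hg (Z_le_Da hz), (wA_eq_zero (Z_le_Da hz)).2 hz, add_zero]) exists_wA

theorem card_JJ_ge (co : Coord C P) : Nat.card (K × K) * Nat.card (E2 co) ≤ Nat.card (JJ co) :=
  card_image_le (B := JJ co) (Z := E2 co) E2_le_JJ (wJ co) (fun g hg z hz => by
    rw [wJ_mul hg (E2_le_JJ hz), (wJ_eq_zero (E2_le_JJ hz)).2 hz, add_zero]) exists_wJ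

omit [Finite G] in
theorem inv_mul_comm_of_cm {t t' v : G} (h : cm t v = cm t' v) : cm (t⁻¹ * t') v = 1 := by
  rw [cm_eq_one]
  unfold cm at h
  have h1 : t * v * t⁻¹ = t' * v * t'⁻¹ := mul_right_cancel h
  calc t⁻¹ * t' * v = t⁻¹ * (t' * v * t'⁻¹) * t' := by group
    _ = t⁻¹ * (t * v * t⁻¹) * t' := by rw [h1]
    _ = v * (t⁻¹ * t') := by group

/-- an element of `F0` not commuting with `v` -/
theorem exists_F0_cm {v : G} (hv : v ∈ P) (hvF : v ∉ F0 co) : ∃ b ∈ F0 co, cm b v ≠ 1 := by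
  by_contra hcon
  push Not at hcon
  apply hvF
  apply mem_F0_of_cm_eq_one hv
  intro x hx
  rw [cm_swap, hcon x hx, inv_one]

/-- Step 2c -/
theorem step2c (hP : IsPGroup 2 P) (h : IsEss 2 P X H) (hE : E2 co ≤ X)
    (hline : ∀ t s : K, t ≠ 0 → C.cr t s = 0 → ∃ f : F, s = f • t) (hK : 2 < Nat.card K)
    {v0 : G} (hv0 : v0 ∈ omegaZ X) (hv0F : v0 ∉ F0 co) (hV1 : ∀ v ∈ omegaZ X, (cx co v).a1 = 0) : False := by
  have hXP : X ≤ P := h.lt.le
  have hVX : omegaZ X ≤ X := fun _ hv => hv.1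
  have hVD := omegaZ_le_Db h co hE
  have hVR : omegaZ X ≤ RR co := fun v hv => ⟨hXP hv.1, hV1 v hv, (hVD hv).2⟩
  have hVDa : omegaZ X ≤ Da co := hVR.trans RR_le_Da
  obtain ⟨b, hb, hbv⟩ := exists_F0_cm (hXP hv0.1) hv0F
  have hbN := F0_le_normalizer h hE hb
  have hbb : b * b = 1 := sq_F0 hb
  have hCX := centralizer_omegaZ hP h hb.1 hbN (by rw [hbb]; exact one_mem _) hv0 (fun hh => hbv (cm_eq_one.2 hh))
  -- `Da` normalizes `X`
  have hDaN : Da co ≤ normalizer (X : Set G) := by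
    intro t ht
    apply mem_normalizer_of_cm
    intro x hx
    have h1 : t * x * t⁻¹ ∈ P ⊓ centralizer (omegaZ X : Set G) := by
      refine Subgroup.mem_inf.2 ⟨mul_mem (mul_mem ht.1 (hXP hx)) (inv_mem ht.1), mem_centralizer_iff.2 fun v hv => ?_⟩
      have h2 : t⁻¹ * v * t ∈ omegaZ X := by
        have h3 := mul_mem (Z_le_omegaZ h (cm_mem_Z_of_Da (inv_mem ht) (hVDa hv))) hv
        unfold cm at h3
        simpa using h3
      have h3 := mem_centralizer_iff.1 h2.2.1 x hx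
      calc v * (t * x * t⁻¹) = t * (t⁻¹ * v * t * x) * t⁻¹ := by group
        _ = t * (x * (t⁻¹ * v * t)) * t⁻¹ := by rw [h3]
        _ = t * x * t⁻¹ * v := by group
    rw [hCX] at h1
    exact mul_mem h1 (inv_mem hx)
  -- the `a`-coordinates of `X`
  set s0 := (cx co v0).a5 with hs0
  have hs00 : s0 ≠ 0 := fun h0 => hv0F ⟨hXP hv0.1, hV1 v0 hv0, h0, (hVD hv0).2⟩
  have hX1 : ∀ g ∈ X, (cx co g).a1 = 0 ∨ (cx co g).a1 = (C.T s0 (cx co v0).a3 / C.N s0) • s0 := by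
    intro g hg
    have h3 := a3_cm_R (co := co) (hXP hg) (hXP hv0.1) (hV1 v0 hv0) (hVD hv0).2
    have h2 := a2_cm_R (co := co) (hXP hg) (hXP hv0.1) (hV1 v0 hv0) (hVD hv0).2
    rw [cm_omegaZ hv0 hg, cx_one] at h3 h2
    obtain ⟨f, hf⟩ := hline _ _ hs00 (by rw [C.cr_comm]; exact h3.symm)
    rw [← hs0, hf, C.sh_smul, C.T_smul_left, C.T_smul_left, C.T_sh_self] at h2
    by_cases hf0 : f = 0
    · exact Or.inl (by rw [hf, hf0, zero_smul])
    · refine Or.inr ?_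
      have hN := C.N_ne_zero hs00
      have h4 : f * (C.T s0 (cx co v0).a3 + f * C.N s0) = 0 := by
        linear_combination -h2
      have h5 := C.eq_of_add_eq_zero ((mul_eq_zero.1 h4).resolve_left hf0)
      rw [h5, mul_div_cancel_right₀ _ hN, hf]
  -- (RED)
  have hrel : RelSE H (Cs (sec_omegaZ X)) X := by
    by_cases hX : X ≤ Db co
    · have hEV := E2_le_omegaZ hE hX
      exact relSE2 hP h hb.1 (by rw [hbb]; exact one_mem X) hv0 hbv (fun x hx => hEV (cm_mem_E2' hb (hXP hx)))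
    · obtain ⟨g0, hg0, hg0D⟩ := SetLike.not_le_iff_exists.1 hX
      have hg0P := hXP hg0
      have h6 : (cx co g0).a6 ≠ 0 := fun h6 => hg0D ⟨hg0P, h6⟩
      have hZc : ∀ v ∈ Z co, ∀ x ∈ X, x * v = v * x := fun v hv x hx => omegaZ_comm v (Z_le_omegaZ h hv) x hx
      have hYDa : Yc X (Z co) hZc ≤ Da co := by
        rintro y ⟨hy, hy', hyy⟩
        refine ⟨hXP hy, ?_⟩
        have h2 := a5_cm (co := co) (hXP hy) hg0P
        have h3 := a5_sq (co := co) (hXP hy)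
        rw [(hy' g0 hg0).2.2.2.2.1] at h2
        rw [hyy.2.2.2.2.1] at h3
        by_cases hy6 : (cx co y).a6 = 0
        · rw [hy6, zero_smul, zero_add] at h2
          exact (smul_eq_zero.1 h2.symm).resolve_left h6
        · exact (smul_eq_zero.1 h3.symm).resolve_left hy6
      have hnZ : ∀ n ∈ Cs (sec_omegaZ X), ∀ v ∈ Z co, n * v * n⁻¹ ∈ Z co := by
        intro n hn v hv
        have h1 := hn.2 v (Z_le_omegaZ h hv)
        rw [mem_bot] at h1
        rw [mul_inv_eq_one.1 h1]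
        exact hv
      refine relSE3 hP h (sec_omegaZ X) hb.1 hbN (by rw [hbb]; exact one_mem X) (notMem_Cs hv0 hbv)
        (Y := Yc X (Z co) hZc) (V := Z co) (fun g hg => hg.1) (le_Yc (Z_le_X h))
        (fun n hn v hv => Yc_conj hn.1 (hnZ n hn) hv) hnZ (Or.inl fun x hx => ?_)
        (Or.inl fun y hy => cm_mem_Z_of_Da (F0_le_Da hb) (hYDa hy)) (Or.inl fun v hv => cm_Z hb.1 hv)
      have h1 := cm_mem_E2' hb (hXP hx)
      refine ⟨hE h1, fun y hy => cm_mem_Z' h1 (hXP hy), ?_⟩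
      rw [sq_F0 (E2_le_F0 h1)]
      exact one_mem _
  obtain ⟨x, hx, hxH⟩ := hrel.1
  obtain ⟨-, s2, s3, -⟩ := omegaZ_se h hrel Da_le hDaN (Z1 := Z co) (C1 := Z co)
    (fun a => ⟨fun ha => ⟨Z_le_omegaZ h ha, fun t ht => cm_Z ht.1 ha⟩,
      fun ha => mem_Z_of_Da (hVDa ha.1) ha.2⟩) le_rfl
    (fun t ht a ha => cm_mem_Z_of_Da ht (hVDa ha)) (fun a ha haZ z hz => exists_cm_Da (hVDa ha) haZ hz)
    ⟨v0, hv0, fun hz => hv0F (Z_le_F0 hz)⟩ hx hxH
  -- the centralizer of `v1`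
  obtain ⟨z, hz, hz1⟩ := exists_Z_ne_one co
  have hv1 : x * z * x⁻¹ ∈ omegaZ X := omegaZ_conj hx (Z_le_omegaZ h hz)
  have key : ∀ t ∈ Da co, cm t (x * z * x⁻¹) = 1 → t ∈ X ⊓ Da co := by
    intro t ht ht1
    have h1 := s3 z hz hz1 t ht ht1
    have h2 : t ∈ P ⊓ centralizer (omegaZ X : Set G) :=
      ⟨ht.1, mem_centralizer_iff.2 fun v hv => (cm_eq_one.1 (h1 v hv)).symm⟩
    rw [hCX] at h2
    exact ⟨h2, ht⟩
  have hc1 : Nat.card (Da co) ≤ Nat.card (Z co) * Nat.card (X ⊓ Da co : Subgroup G) := by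
    have h1 := card_le_image (A := Da co) (Z := X ⊓ Da co) (fun t => cm t (x * z * x⁻¹))
      (fun g hg k hk he => key _ (mul_mem (inv_mem hg) hk) (inv_mul_comm_of_cm he))
    refine h1.trans (Nat.mul_le_mul_right _ ?_)
    apply Nat.card_mono (Set.toFinite _)
    rintro _ ⟨t, ht, rfl⟩
    exact cm_mem_Z_of_Da ht (hVDa hv1)
  -- an abelian subgroup
  let A : Subgroup G := (X ⊓ Da co) ⊓ (X ⊓ Da co).comap (MulAut.conj x).toMonoidHom
  have hA : ∀ g ∈ A, g ∈ X ⊓ Da co ∧ x * g * x⁻¹ ∈ X ⊓ Da co := fun g hg => ⟨hg.1, hg.2⟩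
  have hab : ∀ g ∈ A, ∀ k ∈ A, cm g k = 1 := by
    intro g hg k hk
    obtain ⟨hg1, hg2⟩ := hA g hg
    obtain ⟨hk1, hk2⟩ := hA k hk
    apply s2 _ (cm_mem_Z_of_Da hg1.2 hk1.2)
    rw [cm_conj]
    exact cm_mem_Z_of_Da hg2.2 hk2.2
  have hc2 := card_sq_le_Da (A := A) (co := co) (fun g hg => (hA g hg).1.2) hab
  have hc3 : Nat.card (X ⊓ Da co : Subgroup G) ≤ 2 * Nat.card A := by
    classical
    have h1 := card_le_image (A := X ⊓ Da co) (Z := A)
      (fun g => decide ((cx co (x * g * x⁻¹)).a1 = 0)) (by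
      rintro g ⟨hgX, hgD⟩ k ⟨hkX, hkD⟩ he
      have hgX' := (mem_normalizer_iff.1 hx g).1 hgX
      have hkX' := (mem_normalizer_iff.1 hx k).1 hkX
      have he' : (cx co (x * g * x⁻¹)).a1 = (cx co (x * k * x⁻¹)).a1 := by
        rcases hX1 _ hgX' with hg1 | hg1 <;> rcases hX1 _ hkX' with hk1 | hk1
        · rw [hg1, hk1]
        · simp only [hg1, decide_eq_decide, true_iff] at he
          rw [hg1, he]
        · simp only [hk1, decide_eq_decide, iff_true] at he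
          rw [hk1, he]
        · rw [hg1, hk1]
      refine Subgroup.mem_inf.2 ⟨Subgroup.mem_inf.2 ⟨mul_mem (inv_mem hgX) hkX, mul_mem (inv_mem hgD) hkD⟩, ?_⟩
      have h2 : x * (g⁻¹ * k) * x⁻¹ = (x * g * x⁻¹)⁻¹ * (x * k * x⁻¹) := by group
      have h3 : x * (g⁻¹ * k) * x⁻¹ ∈ X := by
        rw [h2]
        exact mul_mem (inv_mem hgX') hkX'
      refine ⟨h3, hXP h3, ?_⟩
      change (cx co (x * (g⁻¹ * k) * x⁻¹)).a1 = 0
      have h4 := a1_mul (co := co) (hXP hgX') (hXP h3)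
      have h5 : x * g * x⁻¹ * (x * (g⁻¹ * k) * x⁻¹) = x * k * x⁻¹ := by group
      rw [h5, ← he'] at h4
      exact (left_eq_add.1 h4))
    refine h1.trans (Nat.mul_le_mul_right _ ?_)
    calc _ ≤ Nat.card (Set.univ : Set Bool) := Nat.card_mono (Set.toFinite _) (Set.subset_univ _)
      _ = 2 := by rw [Nat.card_univ]; simp
  have hc4 := card_Da_ge co
  have hc5 := card_Z_le co
  have hF := finite_F co
  have hKf := finite_K co
  rw [Nat.card_prod, Nat.card_prod, Nat.card_prod] at hc4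
  have hDpos : 0 < Nat.card (Da co) := Nat.card_pos
  have hZpos : 0 < Nat.card (Z co) := Nat.card_pos
  have hFpos : 0 < Nat.card F := Nat.card_pos
  generalize Nat.card (Da co) = d at *
  generalize Nat.card (Z co) = z at *
  generalize Nat.card (X ⊓ Da co : Subgroup G) = m at *
  generalize Nat.card A = a at *
  generalize Nat.card F = q at *
  generalize Nat.card K = k at *
  have e1 : d ≤ 2 * z * a := by
    calc d ≤ z * m := hc1
      _ ≤ z * (2 * a) := Nat.mul_le_mul_left _ hc3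
      _ = 2 * z * a := by ring
  have e2 : d * d ≤ d * (4 * z ^ 3) := by
    calc d * d ≤ (2 * z * a) * (2 * z * a) := Nat.mul_le_mul e1 e1
      _ = 4 * z ^ 2 * a ^ 2 := by ring
      _ ≤ 4 * z ^ 2 * (d * z) := Nat.mul_le_mul_left _ hc2
      _ = d * (4 * z ^ 3) := by ring
  have e3 : d ≤ 4 * z ^ 3 := Nat.le_of_mul_le_mul_left e2 hDpos
  have e4 : z * (q ^ 2 * k ^ 2) ≤ z * (4 * q ^ 2) := by
    calc z * (q ^ 2 * k ^ 2) = q * (k * (k * q)) * z := by ring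
      _ ≤ d := hc4
      _ ≤ 4 * z ^ 3 := e3
      _ = z * (4 * z ^ 2) := by ring
      _ ≤ z * (4 * q ^ 2) := Nat.mul_le_mul_left _ (Nat.mul_le_mul_left _ (Nat.pow_le_pow_left hc5 2))
  have e5 : q ^ 2 * k ^ 2 ≤ q ^ 2 * 4 := by
    have := Nat.le_of_mul_le_mul_left e4 hZpos
    linarith
  have e6 : k ^ 2 ≤ 4 := Nat.le_of_mul_le_mul_left e5 (pow_pos hFpos 2)
  nlinarith

omit [Finite G] in
theorem a2_cm_JJ {g k : G} (hg : g ∈ P) (hk : k ∈ P) (hg6 : (cx co g).a6 = 0) (hk6 : (cx co k).a6 = 0)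
    (hk5 : (cx co k).a5 = 0) (h3 : (cx co (cm g k)).a3 = 0) : (cx co (cm g k)).a2 =
    C.T (cx co k).a1 (cx co g).a3 + C.T (C.sh (cx co k).a1) (cx co g).a5 + C.T (cx co g).a1 (cx co k).a3 := by
  have := charPF C
  have e1 : (cx co (cm g k * (k * g))).a2 = (cx co (g * k)).a2 := by rw [cm_mul]
  rw [a2_mul (cm_mem hg hk) (mul_mem hk hg), a2_mul hk hg, a2_mul hg hk, h3, a5_cm_Db hg hk hg6 hk6,
    a6_cm hg hk, hg6, hk6, hk5] at e1
  simp only [C.T_zero_right, zero_mul, add_zero] at e1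
  grind

omit [Finite G] in
theorem a4_cm_JJ {g k : G} (hg : g ∈ P) (hk : k ∈ P) (hg6 : (cx co g).a6 = 0) (hk6 : (cx co k).a6 = 0)
    (hk5 : (cx co k).a5 = 0) : (cx co (cm g k)).a4 =
    C.T (cx co k).a1 (C.sh (cx co g).a5) + C.T (cx co k).a3 (cx co g).a5 := by
  have := charPF C
  have e1 : (cx co (cm g k * (k * g))).a4 = (cx co (g * k)).a4 := by rw [cm_mul]
  rw [a4_mul (cm_mem hg hk) (mul_mem hk hg), a4_mul hk hg, a4_mul hg hk, a5_cm_Db hg hk hg6 hk6,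
    a6_cm hg hk, hg6, hk6, hk5] at e1
  simp only [C.T_zero_right, C.sh_zero, zero_mul, add_zero, ne_eq, OfNat.ofNat_ne_zero, not_false_eq_true,
    zero_pow] at e1
  grind

/-- Step 2d -/
theorem step2d (hP : IsPGroup 2 P) (h : IsEss 2 P X H) (hE : E2 co ≤ X)
    (hline : ∀ t s : K, t ≠ 0 → C.cr t s = 0 → ∃ f : F, s = f • t)
    {v0 : G} (hv0 : v0 ∈ omegaZ X) (hv01 : (cx co v0).a1 ≠ 0) (hV5 : ∀ v ∈ omegaZ X, (cx co v).a5 = 0) : False := by
  have hXP : X ≤ P := h.lt.le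
  have hVX : omegaZ X ≤ X := fun _ hv => hv.1
  have hVD := omegaZ_le_Db h co hE
  have hVJ : omegaZ X ≤ JJ co := fun v hv => ⟨hXP hv.1, hV5 v hv, (hVD hv).2⟩
  have hv0F : v0 ∉ F0 co := fun hh => hv01 hh.2.1
  have hv0P := hXP hv0.1
  obtain ⟨b, hb, hbv⟩ := exists_F0_cm hv0P hv0F
  have hbN := F0_le_normalizer h hE hb
  have hbb : b * b = 1 := sq_F0 hb
  have hCX := centralizer_omegaZ hP h hb.1 hbN (by rw [hbb]; exact one_mem _) hv0 (fun hh => hbv (cm_eq_one.2 hh))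
  -- squares in `V`
  have hq2 : ∀ v ∈ omegaZ X, C.T (cx co v).a1 (cx co v).a3 = 0 := by
    intro v hv
    have h1 := a2_sq_Db (co := co) (hXP hv.1) (hVD hv).2
    rw [hv.2.2, cx_one, hV5 v hv, C.T_zero_right, add_zero] at h1
    exact h1.symm
  -- `X ≤ Db`
  have hXD : X ≤ Db co := by
    intro g hg
    refine ⟨hXP hg, ?_⟩
    have h1 := a5_cm (co := co) (hXP hg) hv0P
    rw [cm_omegaZ hv0 hg, cx_one, (hVD hv0).2, zero_smul, add_zero] at h1
    exact (smul_eq_zero.1 h1.symm).resolve_right hv01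
  have hEV := E2_le_omegaZ hE hXD
  -- `X ≤ JJ`
  have hXJ : X ≤ JJ co := by
    intro g hg
    refine ⟨hXP hg, ?_, (hXD hg).2⟩
    have h3 := a3_cm_Db (co := co) (hXP hg) hv0P (hXD hg).2 (hVD hv0).2
    rw [cm_omegaZ hv0 hg, cx_one, hV5 v0 hv0, C.cr_zero_right, zero_add] at h3
    obtain ⟨σ, hσ⟩ := hline _ _ hv01 h3.symm
    have h4 := a4_cm_JJ (co := co) (hXP hg) hv0P (hXD hg).2 (hVD hv0).2 (hV5 v0 hv0)
    rw [cm_omegaZ hv0 hg, cx_one, hσ, C.sh_smul, C.T_smul_right, C.T_smul_right, C.T_self_sh,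
      C.T_comm (cx co v0).a3, hq2 v0 hv0, mul_zero, add_zero] at h4
    have h5 : σ = 0 := by
      by_contra hσ0
      exact mul_ne_zero (pow_ne_zero 2 hσ0) (C.N_ne_zero hv01) h4.symm
    rw [hσ, h5, zero_smul]
  have hJN : JJ co ≤ normalizer (X : Set G) := fun t ht =>
    mem_normalizer_of_cm fun x hx => hE (Xe_le_E2 (cm_mem_Xe ht (hXJ hx)))
  have hrel := relSE2 hP h hb.1 (by rw [hbb]; exact one_mem X) hv0 hbv (fun x hx => hEV (cm_mem_E2' hb (hXP hx)))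
  obtain ⟨x, hx, hxH⟩ := hrel.1
  obtain ⟨-, s2, s3, -⟩ := omegaZ_se h hrel JJ_le hJN (Z1 := Xe co) (C1 := E2 co)
    (fun a => ⟨fun ha => ⟨hEV ha, fun t ht => cm_Db_E2 (JJ_le_Db ht) ha⟩,
      fun ha => mem_E2_of_JJ (hVJ ha.1) ha.2⟩) Xe_le_E2
    (fun t ht a ha => cm_mem_Xe ht (hVJ ha)) (fun a ha haZ z hz => exists_cm_JJ (hVJ ha) haZ hz)
    ⟨v0, hv0, fun hz => hv0F (E2_le_F0 hz)⟩ hx hxH
  have hab : ∀ g ∈ X, ∀ k ∈ X, cm g k = 1 := by
    intro g hg k hk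
    apply s2 _ (cm_mem_Xe (hXJ hg) (hXJ hk))
    rw [cm_conj]
    exact Xe_le_E2 (cm_mem_Xe (hXJ ((mem_normalizer_iff.1 hx g).1 hg)) (hXJ ((mem_normalizer_iff.1 hx k).1 hk)))
  -- `|K| ≤ |F|`
  have hF := finite_F co
  have hKf := finite_K co
  have hKF : Nat.card K ≤ Nat.card F := by
    obtain ⟨z, hzP, hzc⟩ := exists_cx (co := co) ⟨0, 1, 0, 0, 0, 0⟩
    have hz : z ∈ Xe co := ⟨hzP, by rw [hzc], by rw [hzc], by rw [hzc], by rw [hzc], by rw [hzc]⟩
    have hz1 : z ≠ 1 := by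
      rintro rfl
      rw [cx_one] at hzc
      exact zero_ne_one (congrArg Tup.a2 hzc)
    have hv1 : x * z * x⁻¹ ∈ omegaZ X := omegaZ_conj hx (hEV (Xe_le_E2 hz))
    have key : ∀ t ∈ JJ co, cm t (x * z * x⁻¹) = 1 → t ∈ X := by
      intro t ht ht1
      have h1 := s3 z hz hz1 t ht ht1
      have h2 : t ∈ P ⊓ centralizer (omegaZ X : Set G) :=
        ⟨ht.1, mem_centralizer_iff.2 fun v hv => (cm_eq_one.1 (h1 v hv)).symm⟩
      rwa [hCX] at h2
    have hc1 : Nat.card (JJ co) ≤ Nat.card (Xe co) * Nat.card X := by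
      have h1 := card_le_image (A := JJ co) (Z := X) (fun t => cm t (x * z * x⁻¹))
        (fun g hg k hk he => key _ (mul_mem (inv_mem hg) hk) (inv_mul_comm_of_cm he))
      refine h1.trans (Nat.mul_le_mul_right _ ?_)
      apply Nat.card_mono (Set.toFinite _)
      rintro _ ⟨t, ht, rfl⟩
      exact cm_mem_Xe ht (hVJ hv1)
    have hc2 := card_sq_le_JJ (A := X) hXJ hab
    have hc3 := card_JJ_ge co
    have hc4 := card_Xe_le co
    rw [Nat.card_prod] at hc3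
    have hJpos : 0 < Nat.card (JJ co) := Nat.card_pos
    have hEpos : 0 < Nat.card (E2 co) := Nat.card_pos
    generalize Nat.card (JJ co) = j at *
    generalize Nat.card (Xe co) = e at *
    generalize Nat.card (E2 co) = z at *
    generalize Nat.card X = a at *
    generalize Nat.card F = q at *
    generalize Nat.card K = k at *
    have e1 : j * j ≤ j * (e ^ 2 * z) := by
      calc j * j ≤ (e * a) * (e * a) := Nat.mul_le_mul hc1 hc1
        _ = e ^ 2 * a ^ 2 := by ring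
        _ ≤ e ^ 2 * (j * z) := Nat.mul_le_mul_left _ hc2
        _ = j * (e ^ 2 * z) := by ring
    have e2 : j ≤ e ^ 2 * z := Nat.le_of_mul_le_mul_left e1 hJpos
    have e3 : z * (k * k) ≤ z * (q * q) := by
      calc z * (k * k) = k * k * z := by ring
        _ ≤ j := hc3
        _ ≤ e ^ 2 * z := e2
        _ ≤ q ^ 2 * z := Nat.mul_le_mul_right _ (Nat.pow_le_pow_left hc4 2)
        _ = z * (q * q) := by ring
    have e4 := Nat.le_of_mul_le_mul_left e3 hEpos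
    exact Nat.mul_self_le_mul_self_iff.1 e4
  -- so `K = F`
  have hsurj : Function.Surjective (algebraMap F K) := by
    have h1 : Nat.card F ≤ Nat.card K := Nat.card_le_card_of_injective _ (algebraMap F K).injective
    exact ((Nat.bijective_iff_injective_and_card _).2 ⟨(algebraMap F K).injective, le_antisymm h1 hKF⟩).2
  have hone : ∀ k : K, ∃ f : F, k = f • (1 : K) := by
    intro k
    obtain ⟨f, rfl⟩ := hsurj k
    exact ⟨f, by rw [Algebra.smul_def, mul_one]⟩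
  have hcr : ∀ a b : K, C.cr a b = 0 := by
    intro a b
    obtain ⟨f, rfl⟩ := hone a
    obtain ⟨g, rfl⟩ := hone b
    rw [cr_smul_left, cr_smul_right, C.cr_self, smul_zero, smul_zero]
  have hT : ∀ a b : K, a ≠ 0 → b ≠ 0 → C.T a b ≠ 0 := by
    intro a b ha hb h0
    obtain ⟨c, hc⟩ := C.exists_T_eq ha 1
    obtain ⟨f, hf⟩ := hone (c / b)
    have h1 : c = f • b := by
      rw [div_eq_iff hb, smul_mul_assoc, one_mul] at hf
      exact hf
    rw [h1, C.T_smul_right, h0, mul_zero] at hc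
    exact zero_ne_one hc
  -- `Db` normalizes `X`
  have hDE : ∀ t ∈ Db co, ∀ a ∈ Db co, cm t a ∈ E2 co := by
    intro t ht a ha
    have h1 := cm_mem_F0_of_Db ht ha
    refine ⟨h1.1, h1.2.1, ?_, h1.2.2.1, h1.2.2.2⟩
    rw [a3_cm_Db ht.1 ha.1 ht.2 ha.2, hcr, hcr, add_zero]
  have hDN : Db co ≤ normalizer (X : Set G) := fun t ht =>
    mem_normalizer_of_cm fun x hx => hE (hDE t ht x (hXD hx))
  have hsq : ∀ f : F, ∃ g : F, g ^ 2 = f := by
    have := charPF C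
    intro f
    exact (bijective_frobenius F 2).2 f
  have hsj : ∀ a ∈ omegaZ X, a ∉ E2 co → ∀ z ∈ E2 co, ∃ t ∈ Db co, cm t a = z := by
    intro a ha haE z hz
    have haJ := hVJ ha
    -- reduction to coordinates
    have hred : ∀ t ∈ Db co, C.T (cx co a).a1 (cx co t).a3 + C.T (C.sh (cx co a).a1) (cx co t).a5 +
        C.T (cx co t).a1 (cx co a).a3 = (cx co z).a2 →
        C.T (cx co a).a1 (C.sh (cx co t).a5) + C.T (cx co a).a3 (cx co t).a5 = (cx co z).a4 → cm t a = z := by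
      intro t ht h2 h4
      have h1 := hDE t ht a (JJ_le_Db haJ)
      rw [← a2_cm_JJ ht.1 haJ.1 ht.2 haJ.2.2 haJ.2.1 h1.2.2.1] at h2
      rw [← a4_cm_JJ ht.1 haJ.1 ht.2 haJ.2.2 haJ.2.1] at h4
      apply cx_inj (co := co) h1.1 hz.1
      exact Tup.ext (h1.2.1.trans hz.2.1.symm) h2 (h1.2.2.1.trans hz.2.2.1.symm) h4
        (h1.2.2.2.1.trans hz.2.2.2.1.symm) (h1.2.2.2.2.trans hz.2.2.2.2.symm)
    by_cases h1 : (cx co a).a1 = 0
    · have h3 : (cx co a).a3 ≠ 0 := fun h3 => haE ⟨haJ.1, h1, h3, haJ.2.1, haJ.2.2⟩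
      obtain ⟨s, hs⟩ := C.exists_T_eq h3 (cx co z).a4
      obtain ⟨t, ht⟩ := C.exists_T_eq h3 (cx co z).a2
      obtain ⟨g, hg, hgc⟩ := exists_cx (co := co) ⟨t, 0, 0, 0, s, 0⟩
      refine ⟨g, ⟨hg, by rw [hgc]⟩, hred g ⟨hg, by rw [hgc]⟩ ?_ ?_⟩
      · rw [h1, hgc, C.T_zero_left, C.sh_zero, C.T_zero_left, zero_add, zero_add, C.T_comm, ht]
      · rw [h1, hgc, C.T_zero_left, zero_add, hs]
    · have h3 : (cx co a).a3 = 0 := by
        by_contra h3
        exact hT _ _ h1 h3 (hq2 a ha)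
      obtain ⟨σ, hσ⟩ := hsq ((cx co z).a4 / C.T (cx co a).a1 1)
      obtain ⟨κ, hκ⟩ := C.exists_T_eq h1 ((cx co z).a2 - C.T (C.sh (cx co a).a1) (σ • (1 : K)))
      obtain ⟨g, hg, hgc⟩ := exists_cx (co := co) ⟨0, 0, κ, 0, σ • (1 : K), 0⟩
      refine ⟨g, ⟨hg, by rw [hgc]⟩, hred g ⟨hg, by rw [hgc]⟩ ?_ ?_⟩
      · rw [h3, hgc, C.T_zero_right, add_zero, hκ, sub_add_cancel]
      · rw [h3, hgc, C.T_zero_left, add_zero, C.sh_smul, C.sh_one, C.T_smul_right, hσ,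
          div_mul_cancel₀ _ (hT _ _ h1 one_ne_zero)]
  obtain ⟨-, -, -, s5⟩ := omegaZ_se h hrel Db_le hDN (Z1 := E2 co) (C1 := E2 co)
    (fun a => ⟨fun ha => ⟨hEV ha, fun t ht => cm_Db_E2 ht ha⟩,
      fun ha => mem_E2_of_JJ (hVJ ha.1) (fun t ht => ha.2 t (JJ_le_Db ht))⟩) le_rfl
    (fun t ht a ha => hDE t ht a (hVD ha)) hsj
    ⟨v0, hv0, fun hz => hv0F (E2_le_F0 hz)⟩ hx hxH
  -- `|V| ≤ |K| |E2|`
  have hV3 : ∀ v ∈ omegaZ X, (cx co v).a3 = 0 := by
    intro v hv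
    have h03 : (cx co v0).a3 = 0 := by
      by_contra h3
      exact hT _ _ hv01 h3 (hq2 v0 hv0)
    by_contra h3
    have h1 : (cx co v).a1 = 0 := by
      by_contra h1
      exact hT _ _ h1 h3 (hq2 v hv)
    have e1 := a1_mul (co := co) hv0P (hXP hv.1)
    have e3 := a3_mul (co := co) hv0P (hXP hv.1)
    have e2 := hq2 _ (mul_mem hv0 hv)
    rw [(hVD hv0).2, h03, h1, zero_smul, C.cr_zero_left, add_zero, add_zero, zero_add] at e3
    rw [h1, add_zero] at e1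
    rw [e1, e3] at e2
    exact hT _ _ hv01 h3 e2
  have hc1 : Nat.card (omegaZ X) ≤ Nat.card K * Nat.card (E2 co) := by
    have h1 := card_le_image (A := omegaZ X) (Z := E2 co) (fun v => (cx co v).a1) (by
      intro g hg k hk he
      have hgk : g⁻¹ * k ∈ omegaZ X := mul_mem (inv_mem hg) hk
      refine ⟨hXP hgk.1, ?_, hV3 _ hgk, hV5 _ hgk, (hVD hgk).2⟩
      have h4 := a1_mul (co := co) (hXP hg.1) (hXP hgk.1)
      rw [mul_inv_cancel_left, ← he] at h4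
      exact left_eq_add.1 h4)
    refine h1.trans (Nat.mul_le_mul_right _ ?_)
    calc _ ≤ Nat.card (Set.univ : Set K) := Nat.card_mono (Set.toFinite _) (Set.subset_univ _)
      _ = Nat.card K := Nat.card_univ
  have hc2 : Nat.card (F × F) * Nat.card (⊥ : Subgroup G) ≤ Nat.card (E2 co) := by
    refine card_image_le (B := E2 co) (Z := (⊥ : Subgroup G)) bot_le (fun g => ((cx co g).a2, (cx co g).a4)) ?_ ?_
    · intro g _ z hz
      rw [mem_bot.1 hz, mul_one]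
    · rintro ⟨f, g⟩
      obtain ⟨y, hy, hyc⟩ := exists_cx (co := co) ⟨0, f, 0, g, 0, 0⟩
      exact ⟨y, ⟨hy, by rw [hyc], by rw [hyc], by rw [hyc], by rw [hyc]⟩, by rw [hyc]⟩
  rw [Nat.card_prod, Subgroup.card_bot, mul_one] at hc2
  have hEpos : 0 < Nat.card (E2 co) := Nat.card_pos
  have hFone : 1 < Nat.card F := Finite.one_lt_card
  have e1 : Nat.card (E2 co) ≤ Nat.card K := by
    have := s5.trans hc1
    exact Nat.le_of_mul_le_mul_right this hEpos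
  have e2 := hc2.trans (e1.trans hKF)
  nlinarith

/-- twisted coordinates -/
def twist (co : Coord C P) (c : P) : Coord C P where
  e := (MulAut.conj c).toEquiv.trans co.e
  map_mul g k := by
    change co.e (MulAut.conj c (g * k)) = _
    rw [map_mul, co.map_mul]
    rfl

omit [Finite G] in
theorem cx_twist (co : Coord C P) {c g : G} (hc : c ∈ P) (hg : g ∈ P) :
    cx (twist co ⟨c, hc⟩) g = cx co (c * g * c⁻¹) := by
  rw [cx_eq hg, cx_eq (mul_mem (mul_mem hc hg) (inv_mem hc))]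
  rfl

/-- **Step 2.** -/
theorem F0_le_X (hP : IsPGroup 2 P) (h : IsEss 2 P X H) (co : Coord C P)
    (hline : ∀ t s : K, t ≠ 0 → C.cr t s = 0 → ∃ f : F, s = f • t) (hK : 2 < Nat.card K) : F0 co ≤ X := by
  by_contra hF
  obtain ⟨f0, hf0, hf0X⟩ := SetLike.not_le_iff_exists.1 hF
  have hXP : X ≤ P := h.lt.le
  have hE := E2_le_X hP h co
  by_cases hV : omegaZ X ≤ F0 co
  · exact step2a hP h hE hf0 hf0X hV
  obtain ⟨v0, hv0, hv0F⟩ := SetLike.not_le_iff_exists.1 hV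
  have hVD := omegaZ_le_Db h co hE
  rcases exists_slope hline hVD (fun v hv => hv.2.2) with h1 | ⟨β, hβ⟩
  · exact step2c hP h hE hline hK hv0 hv0F h1
  by_cases hall : ∀ v ∈ omegaZ X, (cx co v).a1 = 0
  · exact step2c hP h hE hline hK hv0 hv0F hall
  push Not at hall
  obtain ⟨v1, hv1, ht1⟩ := hall
  obtain ⟨c, hc, hcc⟩ := exists_cx (co := co) ⟨0, 0, 0, 0, 0, β⟩
  have hmul : ∀ v ∈ omegaZ X, c * v * c⁻¹ = cm c v * v := fun v _ => by unfold cm; group
  refine step2d hP h (E2_le_X hP h (twist co ⟨c, hc⟩)) hline hv1 (co := twist co ⟨c, hc⟩) ?_ ?_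
  · rw [cx_twist co hc (hXP hv1.1), hmul v1 hv1, a1_mul (cm_mem hc (hXP hv1.1)) (hXP hv1.1), a1_cm hc (hXP hv1.1),
      zero_add]
    exact ht1
  · intro v hv
    have hvP := hXP hv.1
    rw [cx_twist co hc hvP, hmul v hv, a5_mul (cm_mem hc hvP) hvP, a5_cm hc hvP, a6_cm hc hvP, (hVD hv).2, hcc,
      hβ v hv, zero_smul, zero_smul, add_zero, add_zero, C.add_selfK]

end Cfsg.Agent.HexEss.Step2
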