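import Mathlib
import Cfsg.Agent.HexEss.Tools

/-!
# Essential subgroups containing `RR = P'` are `Da` or `Db`
-/

set_option autoImplicit false

namespace Cfsg.Agent.HexEss.Step4

open Cfsg.Agent.HexRec Subgroup Cfsg.Agent.Lib.EssBridge Cfsg.Agent.HexEss

variable {F K : Type*} [Field F] [Field K] [Algebra F K] {C : Cubic F K}
variable {G : Type*} [Group G] [Finite G] {P : Sylow 2 G} {co : Coord C (P : Subgroup G)}

omit [Finite G] in
/-- the trivial subgroup is normalized by everything -/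
theorem le_normalizer_bot (A : Subgroup G) : A ≤ normalizer ((⊥ : Subgroup G) : Set G) :=
  le_normalizer_of fun n _ x hx => by
    rw [mem_bot] at hx ⊢; rw [hx]; group

variable {D : Subgroup G}

variable (hE : Lib.EssDefs.Ess 2 (P : Subgroup G) D) (hR : RR co ≤ D)

include hE hR

theorem le_P : D ≤ P := by
  obtain ⟨H, h⟩ := hE
  exact h.lt.le

theorem le_N : (P : Subgroup G) ≤ normalizer (D : Set G) := by
  refine le_normalizer_of fun n hn x hx => ?_
  rw [conj_eq_cm_mul]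
  exact mul_mem (hR (cm_mem_RR hn (le_P hE hR hx))) hx

/-- the chain lemma in the present situation -/
theorem mem_of_stab' {x : G} (hx : x ∈ (P : Subgroup G)) (hs : Stab (normalizer (D : Set G)) x D) : x ∈ D :=
  mem_of_stab hE hs hx (le_N hE hR hx)

/-- The case `D ≤ Db`. -/
theorem eq_Db (hD : D ≤ Db co) (hC : Reg C) : D = Db co := by
  have hN := le_N hE hR
  set N := normalizer (D : Set G) with hNdef
  have hND : N ≤ normalizer (D : Set G) := le_rfl
  have hDN : D ≤ N := le_normalizer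
  apply le_antisymm hD
  -- `E2` is the centre
  have hcen : cenMod D D ⊥ (le_normalizer_bot D) = E2 co := by
    ext g
    rw [mem_cenMod]
    constructor
    · rintro ⟨hg, hgc⟩
      have hgP : g ∈ (P : Subgroup G) := le_P hE hR hg
      have h0 : g ∈ F0 co := mem_F0_of_cm_eq_one hgP (fun x hx => by
        have := hgc x (hR (F0_le_RR hx)); rwa [mem_bot] at this)
      refine ⟨hgP, h0.2.1, ?_, h0.2.2.1, h0.2.2.2⟩
      apply C.T_nondeg
      intro s
      obtain ⟨x, hx, hxc⟩ := exists_cx (co := co) ⟨0, 0, 0, 0, s, 0⟩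
      have hx' : x ∈ RR co := ⟨hx, by rw [hxc], by rw [hxc]⟩
      have h1 := hgc x (hR hx')
      rw [mem_bot] at h1
      have h2 := a4_cm_Da_Da (co := co) hgP hx h0.2.1 hx'.2.1
      rw [h1, cx_one, hxc, h0.2.2.1, h0.2.2.2] at h2
      simpa [C.T_zero_left, C.T_zero_right] using h2.symm
    · intro hg
      refine ⟨hR (E2_le_RR hg), fun d hd => ?_⟩
      rw [mem_bot]
      exact cm_eq_one.2 (cm_eq_one.1 (cm_Db_E2 (hD hd) hg)).symm
  have hNE : N ≤ normalizer ((E2 co : Subgroup G) : Set G) := by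
    rw [← hcen]; exact le_normalizer_cenMod hND hND (le_normalizer_bot N)
  by_cases hRD : D ≤ RR co
  · -- `D = RR`: then `Da ≤ D`, impossible
    exfalso
    have hDR : D = RR co := le_antisymm hRD hR
    have hZ : N ≤ normalizer ((Z co : Subgroup G) : Set G) := by
      have hZ' : Subgroup.closure {z : G | ∃ g ∈ D, ∃ h ∈ D, cm g h = z} = Z co := by
        apply le_antisymm
        · rw [closure_le]
          rintro _ ⟨g, hg, h, hh, rfl⟩
          exact cm_mem_Z_of_Da (RR_le_Da (hRD hg)) (RR_le_Da (hRD hh))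
        · intro z hz
          apply Subgroup.subset_closure
          obtain ⟨k, hk⟩ := C.exists_T_eq (one_ne_zero (α := K)) (cx co z).a4
          obtain ⟨x, hx, hxc⟩ := exists_cx (co := co) ⟨0, 0, 0, 0, 1, 0⟩
          obtain ⟨y, hy, hyc⟩ := exists_cx (co := co) ⟨0, 0, k, 0, 0, 0⟩
          have hx' : x ∈ RR co := ⟨hx, by rw [hxc], by rw [hxc]⟩
          have hy' : y ∈ RR co := ⟨hy, by rw [hyc], by rw [hyc]⟩
          refine ⟨x, hR hx', y, hR hy', ?_⟩
          have h1 := cm_mem_Z_of_Da (RR_le_Da hx') (RR_le_Da hy')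
          apply cx_inj (co := co) h1.1 hz.1
          refine Tup.ext ?_ ?_ ?_ ?_ ?_ ?_
          · rw [h1.2.1, hz.2.1]
          · rw [h1.2.2.1, hz.2.2.1]
          · rw [h1.2.2.2.1, hz.2.2.2.1]
          · rw [a4_cm_Da_Da hx hy hx'.2.1 hy'.2.1, hxc, hyc]
            simpa [C.T_zero_left, C.T_zero_right] using hk
          · rw [h1.2.2.2.2.1, hz.2.2.2.2.1]
          · rw [h1.2.2.2.2.2, hz.2.2.2.2.2]
      rw [← hZ']
      refine le_normalizer_closure ?_
      rintro n hn _ ⟨g, hg, h, hh, rfl⟩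
      exact ⟨n * g * n⁻¹, conj_mem_of_le hND hn hg, n * h * n⁻¹, conj_mem_of_le hND hn hh,
        (conj_cm n g h).symm⟩
    have hDa : Da co ≤ D := by
      intro x hx
      refine mem_of_stab' hE hR hx.1 ?_
      refine Stab.step (B := Z co) (Z_le_RR.trans hR) hND (fun e he => ?_) ?_
      · exact cm_mem_Z_of_Da hx (RR_le_Da (hRD he))
      · refine Stab.step (B := ⊥) bot_le hZ (fun e he => ?_) Stab.bot
        rw [mem_bot]
        exact cm_Z hx.1 he
    obtain ⟨x, hx, hxc⟩ := exists_cx (co := co) ⟨0, 0, 0, 0, 0, 1⟩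
    have hx' : x ∈ RR co := hRD (hDa ⟨hx, by rw [hxc]⟩)
    have := hx'.2.2
    rw [hxc] at this
    exact one_ne_zero this
  · obtain ⟨d₀, hd₀, hd₀R⟩ := SetLike.not_le_iff_exists.1 hRD
    have hd₀P : d₀ ∈ (P : Subgroup G) := le_P hE hR hd₀
    have ht₀ : (cx co d₀).a1 ≠ 0 := fun h => hd₀R ⟨hd₀P, h, (hD hd₀).2⟩
    have hDE : D ≤ normalizer ((E2 co : Subgroup G) : Set G) := hDN.trans hNE
    set P' := cenMod D D (E2 co) hDE with hP'
    have hNP' : N ≤ normalizer (P' : Set G) := le_normalizer_cenMod hND hND hNE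
    set Q : Subgroup G := Subgroup.closure {z : G | ∃ g ∈ D, ∃ h ∈ D, cm g h = z} ⊔ E2 co with hQ
    have hNQ : N ≤ normalizer (Q : Set G) := by
      refine le_normalizer_sup (le_normalizer_closure ?_) hNE
      rintro n hn _ ⟨g, hg, h, hh, rfl⟩
      exact ⟨n * g * n⁻¹, conj_mem_of_le hND hn hg, n * h * n⁻¹, conj_mem_of_le hND hn hh,
        (conj_cm n g h).symm⟩
    have hQF : Q ≤ F0 co := by
      refine sup_le ?_ E2_le_F0
      rw [closure_le]
      rintro _ ⟨g, hg, h, hh, rfl⟩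
      exact cm_mem_F0_of_Db (hD hg) (hD hh)
    have hF0P' : F0 co ≤ P' := by
      intro f hf
      exact ⟨hR (F0_le_RR hf), fun d hd => cm_inv_swap_mem (cm_mem_E2 (le_P hE hR hd) hf)⟩
    intro x hx
    refine mem_of_stab' hE hR hx.1 ?_
    refine Stab.step (B := P') cenMod_le hND (fun e he => hF0P' (cm_mem_F0_of_Db hx (hD he))) ?_
    refine Stab.step (B := Q) (hQF.trans hF0P') hNP' (fun g hg => ?_) ?_
    · -- `[Db, P'] ≤ Q`
      change cm x g ∈ Q
      have hgP : g ∈ (P : Subgroup G) := le_P hE hR hg.1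
      have h6 : (cx co g).a6 = 0 := (hD hg.1).2
      -- `cr t_g s = 0` for all `s`
      have h1 : ∀ s, C.cr (cx co g).a1 s = 0 := by
        intro s
        obtain ⟨y, hy, hyc⟩ := exists_cx (co := co) ⟨0, 0, 0, 0, s, 0⟩
        have hy' : y ∈ RR co := ⟨hy, by rw [hyc], by rw [hyc]⟩
        have h2 := (hg.2 y (hR hy')).2.2.1
        rw [a3_cm_Db hgP hy h6 hy'.2.2, hyc] at h2
        simpa [C.cr_zero_left] using h2
      have h2 : C.cr (cx co d₀).a1 (cx co g).a5 = 0 := by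
        have h3 := (hg.2 d₀ hd₀).2.2.1
        rw [a3_cm_Db hgP hd₀P h6 (hD hd₀).2, h1, zero_add] at h3
        exact h3
      obtain ⟨f, hf⟩ := exists_smul_of_cr_eq_zero hC ht₀ h2
      obtain ⟨y, hy, hyc⟩ := exists_cx (co := co) ⟨0, 0, 0, 0, f • (cx co x).a1, 0⟩
      have hy' : y ∈ RR co := ⟨hy, by rw [hyc], by rw [hyc]⟩
      have hd : cm d₀ y ∈ Q := (le_sup_left : _ ≤ Q) (Subgroup.subset_closure ⟨d₀, hd₀, y, hR hy', rfl⟩)
      have h4 := cm_mem_F0_of_Db hx (hD hg.1)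
      have h5 := cm_mem_F0_of_Db (hD hd₀) (RR_le_Db hy')
      have h7 : cm x g * (cm d₀ y)⁻¹ ∈ E2 co := by
        have h8 : cm x g * (cm d₀ y)⁻¹ ∈ F0 co := mul_mem h4 (inv_mem h5)
        have h9 : (cx co (cm x g)).a3 = (cx co (cm d₀ y)).a3 := by
          rw [a3_cm_Db hx.1 hgP hx.2 h6, a3_cm_Db hd₀P hy (hD hd₀).2 hy'.2.2, hyc, h1, hf, add_zero,
            cr_smul_right, cr_smul_right, C.cr_zero_left, add_zero, C.cr_comm]
        have h10 : (cm d₀ y)⁻¹ = cm d₀ y := inv_eq_of_mul_eq_one_left (sq_F0 h5)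
        refine ⟨h8.1, h8.2.1, ?_, h8.2.2.1, h8.2.2.2⟩
        rw [h10, a3_mul h4.1 h5.1, h9, h4.2.2.2, h5.2.1, C.cr_zero_left, zero_smul, C.add_selfK]
        simp
      have e : cm x g = (cm x g * (cm d₀ y)⁻¹) * cm d₀ y := by group
      rw [e]
      exact mul_mem ((le_sup_right : _ ≤ Q) h7) hd
    refine Stab.step (B := E2 co) le_sup_right hNQ (fun e he => cm_mem_E2 hx.1 (hQF he)) ?_
    refine Stab.step (B := ⊥) bot_le hNE (fun e he => ?_) Stab.bot
    rw [mem_bot]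
    exact cm_Db_E2 hx he

/-- elements with `a6 ≠ 0` in `D`: the centre of `D` is `Z` -/
theorem cen_eq_Z {d₀ : G} (hd₀ : d₀ ∈ D) (h6 : (cx co d₀).a6 ≠ 0) :
    cenMod D D ⊥ (le_normalizer_bot D) = Z co := by
  ext g
  rw [mem_cenMod]
  constructor
  · rintro ⟨hg, hgc⟩
    have hgP : g ∈ (P : Subgroup G) := le_P hE hR hg
    have hd₀P : d₀ ∈ (P : Subgroup G) := le_P hE hR hd₀
    have h0 : g ∈ F0 co := mem_F0_of_cm_eq_one hgP (fun x hx => by
      have := hgc x (hR (F0_le_RR hx)); rwa [mem_bot] at this)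
    have h3 : (cx co g).a3 = 0 := by
      apply C.T_nondeg
      intro s
      obtain ⟨x, hx, hxc⟩ := exists_cx (co := co) ⟨0, 0, 0, 0, s, 0⟩
      have hx' : x ∈ RR co := ⟨hx, by rw [hxc], by rw [hxc]⟩
      have h1 := hgc x (hR hx')
      rw [mem_bot] at h1
      have h2 := a4_cm_Da_Da (co := co) hgP hx h0.2.1 hx'.2.1
      rw [h1, cx_one, hxc, h0.2.2.1, h0.2.2.2] at h2
      simpa [C.T_zero_left, C.T_zero_right] using h2.symm
    refine ⟨hgP, h0.2.1, ?_, h3, h0.2.2.1, h0.2.2.2⟩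
    have h1 := hgc d₀ hd₀
    rw [mem_bot, cm_eq_one] at h1
    have h1' := cm_eq_one.2 h1.symm
    have h2 := a4_cm_F0 (co := co) hd₀P hgP h0.2.1 h0.2.2.1 h0.2.2.2
    rw [h1', cx_one, h3, C.T_zero_right, add_zero] at h2
    exact (mul_eq_zero.1 h2.symm).resolve_left h6
  · intro hg
    refine ⟨hR (Z_le_RR hg), fun d hd => ?_⟩
    rw [mem_bot]
    exact cm_eq_one.2 (cm_eq_one.1 (cm_Z (le_P hE hR hd) hg)).symm

/-- The case `D ≤ Da`. -/
theorem eq_Da (hD : D ≤ Da co) {d₀ : G} (hd₀ : d₀ ∈ D) (h6 : (cx co d₀).a6 ≠ 0) : D = Da co := by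
  have hNZ : normalizer (D : Set G) ≤ normalizer ((Z co : Subgroup G) : Set G) := by
    rw [← cen_eq_Z hE hR hd₀ h6]
    exact le_normalizer_cenMod le_rfl le_rfl (le_normalizer_bot _)
  refine le_antisymm hD fun x hx => mem_of_stab' hE hR hx.1 ?_
  refine Stab.step (B := Z co) (Z_le_RR.trans hR) le_rfl (fun e he => cm_mem_Z_of_Da hx (hD he)) ?_
  refine Stab.step (B := ⊥) bot_le hNZ (fun e he => ?_) Stab.bot
  rw [mem_bot]
  exact cm_Z hx.1 he

omit [Finite G] hE hR in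
theorem a1_inv {g : G} (hg : g ∈ (P : Subgroup G)) : (cx co g⁻¹).a1 = (cx co g).a1 := by
  have h := a1_mul (co := co) hg (inv_mem hg)
  rw [mul_inv_cancel, cx_one] at h
  exact (C.eq_of_add_eq_zeroK h.symm).symm

omit [Finite G] hE hR in
theorem a6_inv {g : G} (hg : g ∈ (P : Subgroup G)) : (cx co g⁻¹).a6 = (cx co g).a6 := by
  have h := a6_mul (co := co) hg (inv_mem hg)
  rw [mul_inv_cancel, cx_one] at h
  exact (C.eq_of_add_eq_zero h.symm).symm

omit hE hR [Finite G] in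
theorem cm_mul_right (g h k : G) : cm g (h * k) = cm g h * (h * cm g k * h⁻¹) := by unfold cm; group

omit hE hR in
/-- If `F0 ≤ D ≤ P`, `D` is contained neither in `Da` nor in `Db`, and `N(D)` normalizes `Z`, then `N(D)`
normalizes `D ∩ Da`. -/
theorem le_normalizer_inf_Da (hC : Reg C) (hDP : D ≤ P) (hF : F0 co ≤ D)
    (hNZ : normalizer (D : Set G) ≤ normalizer ((Z co : Subgroup G) : Set G)) {d₀ d₁ : G} (hd₀ : d₀ ∈ D)
    (h6 : (cx co d₀).a6 ≠ 0) (hd₁ : d₁ ∈ D) (h1 : (cx co d₁).a1 ≠ 0) :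
    normalizer (D : Set G) ≤ normalizer ((D ⊓ Da co : Subgroup G) : Set G) := by
  set N := normalizer (D : Set G) with hN
  have hDN : D ≤ N := le_normalizer
  have hPZ : (P : Subgroup G) ≤ normalizer ((Z co : Subgroup G) : Set G) := by
    refine le_normalizer_of fun n hn z hz => ?_
    rw [conj_eq_cm_mul, cm_Z hn hz, one_mul]
    exact hz
  have hd₀P := hDP hd₀
  have hd₁P := hDP hd₁
  set V2 : Subgroup G := cenMod D D (Z co) (hDN.trans hNZ) with hV2
  have hNV2 : N ≤ normalizer (V2 : Set G) := le_normalizer_cenMod le_rfl le_rfl hNZ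
  -- elements commuting with `D` modulo `F0`
  have key : ∀ g ∈ (P : Subgroup G), (∀ d ∈ D, (cx co (cm g d)).a5 = 0) → (cx co g).a1 = 0 → g ∈ RR co := by
    intro g hg hgd hg1
    refine ⟨hg, hg1, ?_⟩
    have h2 := hgd d₁ hd₁
    rw [a5_cm hg hd₁P, hg1, smul_zero, add_zero] at h2
    exact (smul_eq_zero.1 h2).resolve_right h1
  have key' : ∀ g ∈ (P : Subgroup G), (∀ d ∈ D, (cx co (cm g d)).a5 = 0) → (cx co g).a6 = 0 → g ∈ RR co := by
    intro g hg hgd hg6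
    refine ⟨hg, ?_, hg6⟩
    have h2 := hgd d₀ hd₀
    rw [a5_cm hg hd₀P, hg6, zero_smul, zero_add] at h2
    exact (smul_eq_zero.1 h2).resolve_left h6
  have hV2R : V2 ≤ RR co := by
    intro g hg
    have hgP : g ∈ (P : Subgroup G) := hDP hg.1
    exact key g hgP (fun d hd => (hg.2 d hd).2.2.2.2.1) (mem_F0_of_comm hgP fun x hx => hg.2 x (hF hx))
  have hE2V2 : E2 co ≤ V2 := fun e he =>
    ⟨hF (E2_le_F0 he), fun d hd => cm_inv_swap_mem (cm_mem_Z (hDP hd) he)⟩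
  by_cases hα : V2 ≤ F0 co
  · -- `M = {g ∈ D | [g, V3] ≤ Z}`
    set V3 : Subgroup G := Subgroup.closure {g : G | g ∈ D ∧ (∀ d ∈ D, cm g d ∈ V2) ∧ g * g = 1} with hV3
    have hNV3 : N ≤ normalizer (V3 : Set G) := by
      refine le_normalizer_closure ?_
      rintro n hn x ⟨hx, hx2, hxx⟩
      refine ⟨conj_mem_of_le le_rfl hn hx, fun d hd => ?_, ?_⟩
      · have h2 := conj_mem_of_le hNV2 hn (hx2 _ (conj_mem_of_le (K := D) le_rfl (inv_mem hn) hd))
        rw [conj_cm] at h2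
        have e : n * (n⁻¹ * d * n⁻¹⁻¹) * n⁻¹ = d := by group
        rwa [e] at h2
      · have e : n * x * n⁻¹ * (n * x * n⁻¹) = n * (x * x) * n⁻¹ := by group
        rw [e, hxx]; group
    have hF0V3 : F0 co ≤ V3 := fun f hf => Subgroup.subset_closure
      ⟨hF hf, fun d hd => hE2V2 (cm_inv_swap_mem (cm_mem_E2 (hDP hd) hf)), sq_F0 hf⟩
    have hV3R : V3 ≤ RR co := by
      rw [hV3, closure_le]
      rintro g ⟨hg, hgd, hgg⟩
      have hgP : g ∈ (P : Subgroup G) := hDP hg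
      have h5 : ∀ d ∈ D, (cx co (cm g d)).a5 = 0 := fun d hd => (hα (hgd d hd)).2.2.1
      have h2 := a5_sq (co := co) hgP
      rw [hgg, cx_one] at h2
      rcases smul_eq_zero.1 h2.symm with h3 | h3
      · exact key' g hgP h5 h3
      · exact key g hgP h5 h3
    have hM : cenMod D V3 (Z co) (hDN.trans hNZ) = D ⊓ Da co := by
      ext g
      rw [mem_cenMod, mem_inf]
      constructor
      · rintro ⟨hg, hgv⟩
        exact ⟨hg, hDP hg, mem_F0_of_comm (hDP hg) fun x hx => hgv x (hF0V3 hx)⟩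
      · rintro ⟨hg, hga⟩
        exact ⟨hg, fun v hv => cm_mem_Z_of_Da hga (RR_le_Da (hV3R hv))⟩
    rw [← hM]
    exact le_normalizer_cenMod le_rfl hNV3 hNZ
  · obtain ⟨g₀, hg₀, hg₀F⟩ := SetLike.not_le_iff_exists.1 hα
    have hg₀R := hV2R hg₀
    have hs₀ : (cx co g₀).a5 ≠ 0 := fun h => hg₀F ⟨hg₀R.1, hg₀R.2.1, h, hg₀R.2.2⟩
    -- `a1` takes at most one nonzero value on `D`
    have hval : ∀ d ∈ D, (cx co d).a1 ≠ 0 →
        (cx co d).a1 = (C.T (cx co g₀).a5 (cx co g₀).a3 / C.N (cx co g₀).a5) • (cx co g₀).a5 := by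
      intro d hd hd1
      have hdP := hDP hd
      have h2 := cm_inv_swap_mem (hg₀.2 d hd)
      have h3 := h2.2.2.2.1
      have h4 := h2.2.2.1
      rw [a3_cm_R hdP hg₀R.1 hg₀R.2.1 hg₀R.2.2, C.cr_comm] at h3
      obtain ⟨f, hf⟩ := exists_smul_of_cr_eq_zero hC hs₀ h3
      rw [a2_cm_R hdP hg₀R.1 hg₀R.2.1 hg₀R.2.2, hf, C.T_smul_left, C.sh_smul, C.T_smul_left, C.T_sh_self] at h4
      have hf0 : f ≠ 0 := by
        rintro rfl
        rw [zero_smul] at hf
        exact hd1 hf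
      have hN0 := C.N_ne_zero hs₀
      have h5 : f * (C.T (cx co g₀).a5 (cx co g₀).a3 + f * C.N (cx co g₀).a5) = 0 := by
        rw [← h4]; ring
      have h7 := C.eq_of_add_eq_zero ((mul_eq_zero.1 h5).resolve_left hf0)
      rw [hf, h7, mul_div_assoc, div_self hN0, mul_one]
    have hval' : ∀ d ∈ D, (cx co d).a1 ≠ 0 → (cx co d).a1 = (cx co d₁).a1 := fun d hd hd1 => by
      rw [hval d hd hd1, hval d₁ hd₁ h1]
    by_contra hcon
    -- `n m n⁻¹ ∉ Da`
    obtain ⟨n, hn, m, hm, hy⟩ : ∃ n ∈ N, ∃ m ∈ D ⊓ Da co, n * m * n⁻¹ ∉ D ⊓ Da co := by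
      by_contra hc
      push Not at hc
      exact hcon (le_normalizer_of hc)
    have hyD : n * m * n⁻¹ ∈ D := conj_mem_of_le le_rfl hn hm.1
    have hnD : ∀ x ∈ D, n * x * n⁻¹ ∈ D := fun x hx => conj_mem_of_le le_rfl hn hx
    have notM : ∀ x ∈ D, x ∉ D ⊓ Da co → (cx co x).a1 = (cx co d₁).a1 := by
      intro x hx hxM
      exact hval' x hx fun h => hxM ⟨hx, hDP hx, h⟩
    have hy1 := notM _ hyD hy
    -- Claim A
    have claimA : ∀ w ∈ D ⊓ Da co, n * w * n⁻¹ ∈ D ⊓ Da co → w ∈ V2 := by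
      intro w hw hw'
      have h2 : n * w * n⁻¹ ∈ V2 := by
        refine ⟨hw'.1, fun d hd => ?_⟩
        by_cases hdM : d ∈ D ⊓ Da co
        · exact cm_mem_Z_of_Da hw'.2 hdM.2
        · have hd1 := notM d hd hdM
          have h3 : (n * m * n⁻¹)⁻¹ * d ∈ D ⊓ Da co := by
            have h4 : (n * m * n⁻¹)⁻¹ * d ∈ D := mul_mem (inv_mem hyD) hd
            refine ⟨h4, mem_Da.2 ⟨hDP h4, ?_⟩⟩
            rw [a1_mul (inv_mem (hDP hyD)) (hDP hd), a1_inv (hDP hyD), hy1, hd1, C.add_selfK]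
          have e : d = (n * m * n⁻¹) * ((n * m * n⁻¹)⁻¹ * d) := by group
          rw [e, cm_mul_right]
          refine mul_mem ?_ (conj_mem_of_le hPZ (hDP hyD) (cm_mem_Z_of_Da hw'.2 h3.2))
          rw [← conj_cm]
          exact conj_mem_of_le hNZ hn (cm_mem_Z_of_Da hw.2 hm.2)
      have h3 := conj_mem_of_le hNV2 (inv_mem hn) h2
      have e : n⁻¹ * (n * w * n⁻¹) * n⁻¹⁻¹ = w := by group
      rwa [e] at h3
    -- an element of `F0` outside `V2`
    obtain ⟨k, hk⟩ := C.exists_T_eq h1 1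
    obtain ⟨f, hf, hfc⟩ := exists_cx (co := co) ⟨0, 0, k, 0, 0, 0⟩
    have hf' : f ∈ F0 co := ⟨hf, by rw [hfc], by rw [hfc], by rw [hfc]⟩
    have hfM : f ∈ D ⊓ Da co := ⟨hF hf', F0_le_Da hf'⟩
    have hfV : f ∉ V2 := by
      intro h2
      have h3 := (cm_inv_swap_mem (h2.2 d₁ hd₁)).2.2.1
      rw [a2_cm_F0 hd₁P hf hf'.2.1 hf'.2.2.1 hf'.2.2.2, hfc, hk] at h3
      exact one_ne_zero h3
    have hgM : n * f * n⁻¹ ∉ D ⊓ Da co := fun h => hfV (claimA f hfM h)
    have hgD : n * f * n⁻¹ ∈ D := hnD f hfM.1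
    have hg1 := notM _ hgD hgM
    -- `M ≤ RR`
    have hMR : ∀ x ∈ D ⊓ Da co, x ∈ RR co := by
      intro x hx
      by_cases hxM : n * x * n⁻¹ ∈ D ⊓ Da co
      · exact hV2R (claimA x hx hxM)
      · have hx1 := notM _ (hnD x hx.1) hxM
        have h2 : x * f⁻¹ ∈ V2 := by
          refine claimA _ (mul_mem hx (inv_mem hfM)) ?_
          have e : n * (x * f⁻¹) * n⁻¹ = (n * x * n⁻¹) * (n * f * n⁻¹)⁻¹ := by group
          have h3 : (n * x * n⁻¹) * (n * f * n⁻¹)⁻¹ ∈ D := mul_mem (hnD x hx.1) (inv_mem hgD)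
          rw [e]
          refine ⟨h3, mem_Da.2 ⟨hDP h3, ?_⟩⟩
          rw [a1_mul (hDP (hnD x hx.1)) (inv_mem (hDP hgD)), a1_inv (hDP hgD), hx1, hg1, C.add_selfK]
        have h4 : x = (x * f⁻¹) * f := by group
        rw [h4]
        exact mul_mem (hV2R h2) (F0_le_RR hf')
    have hd₀M : d₀ ∉ D ⊓ Da co := fun h => h6 (hMR d₀ h).2.2
    have hd₀1 := notM d₀ hd₀ hd₀M
    have h2 : (n * f * n⁻¹) * d₀⁻¹ ∈ D ⊓ Da co := by
      have h3 : (n * f * n⁻¹) * d₀⁻¹ ∈ D := mul_mem hgD (inv_mem hd₀)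
      refine ⟨h3, mem_Da.2 ⟨hDP h3, ?_⟩⟩
      rw [a1_mul (hDP hgD) (inv_mem hd₀P), a1_inv hd₀P, hg1, hd₀1, C.add_selfK]
    have h3 := (hMR _ h2).2.2
    rw [a6_mul (hDP hgD) (inv_mem hd₀P), a6_inv hd₀P] at h3
    have h4 := C.eq_of_add_eq_zero h3
    have h5 := a5_sq (co := co) (hDP hgD)
    have e : n * f * n⁻¹ * (n * f * n⁻¹) = n * (f * f) * n⁻¹ := by group
    rw [e, sq_F0 hf', h4, hg1] at h5
    have e2 : n * 1 * n⁻¹ = 1 := by group
    rw [e2, cx_one] at h5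
    rcases smul_eq_zero.1 h5.symm with h7 | h7
    · exact h6 h7
    · exact h1 h7

/-- `D` is contained in `Da` or in `Db`. -/
theorem false_of_neither (hC : Reg C) {d₀ d₁ : G} (hd₀ : d₀ ∈ D) (h6 : (cx co d₀).a6 ≠ 0) (hd₁ : d₁ ∈ D)
    (h1 : (cx co d₁).a1 ≠ 0) : False := by
  have hDP := le_P hE hR
  have hF : F0 co ≤ D := F0_le_RR.trans hR
  set N := normalizer (D : Set G) with hN
  have hDN : D ≤ N := le_normalizer
  have hd₀P := hDP hd₀
  have hd₁P := hDP hd₁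
  have hNZ : N ≤ normalizer ((Z co : Subgroup G) : Set G) := by
    rw [← cen_eq_Z hE hR hd₀ h6]
    exact le_normalizer_cenMod le_rfl le_rfl (le_normalizer_bot _)
  have hNM : N ≤ normalizer ((D ⊓ Da co : Subgroup G) : Set G) :=
    le_normalizer_inf_Da hC hDP hF hNZ hd₀ h6 hd₁ h1
  have hDa : Da co ≤ D := by
    intro x hx
    refine mem_of_stab' hE hR hx.1 ?_
    refine Stab.step (B := D ⊓ Da co) inf_le_left le_rfl (fun e he => ?_) ?_
    · have h2 : cm x e ∈ RR co := cm_mem_RR hx.1 (hDP he)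
      exact ⟨hR h2, RR_le_Da h2⟩
    refine Stab.step (B := Z co) (le_inf (Z_le_RR.trans hR) Z_le_Da) hNM
      (fun e he => cm_mem_Z_of_Da hx he.2) ?_
    refine Stab.step (B := ⊥) bot_le hNZ (fun e he => ?_) Stab.bot
    rw [mem_bot]
    exact cm_Z hx.1 he
  have hNDa : N ≤ normalizer ((Da co : Subgroup G) : Set G) := by
    have h2 : D ⊓ Da co = Da co := inf_eq_right.2 hDa
    rw [← h2]; exact hNM
  -- the basic formula
  have form : ∀ v ∈ Da co, ∀ d ∈ D, (cx co (cm v (d * v * d⁻¹))).a4 =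
      (cx co v).a6 ^ 2 * C.N (cx co d).a1 := by
    intro v hv d hd
    have := charPF C
    have hdP := hDP hd
    have hc : cm d v ∈ (P : Subgroup G) := cm_mem hdP hv.1
    have hcR := cm_mem_RR (co := co) hdP hv.1
    have hvv := mul_mem hc hv.1
    have h2 : (cx co (cm d v * v)).a1 = 0 := by rw [a1_mul hc hv.1, hcR.2.1, hv.2, add_zero]
    rw [conj_eq_cm_mul, a4_cm_Da_Da hv.1 hvv hv.2 h2, a6_mul hc hv.1, a5_mul hc hv.1, a3_mul hc hv.1,
      a2_mul hc hv.1, hcR.2.2, hv.2, a2_cm_Da hdP hv.1 hv.2, a3_cm_Da hdP hv.1 hv.2,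
      a5_cm_Da hdP hv.1 hv.2]
    simp only [C.sh_zero, C.N_zero, C.T_zero_left, C.cr_zero_left, smul_zero, mul_zero, add_zero, zero_add,
      C.T_add_right, C.T_smul_right, T_cr_self_right]
    rw [C.T_comm (cx co v).a5 (C.sh (cx co d).a1), C.T_comm (cx co v).a3 (cx co d).a1,
      C.T_comm (cx co v).a5 (cx co v).a3]
    grind
  have hRR : {v : G | v ∈ Da co ∧ ∀ d ∈ D, cm v (d * v * d⁻¹) = 1} = (RR co : Set G) := by
    ext v
    constructor
    · rintro ⟨hv, hvd⟩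
      refine ⟨hv.1, hv.2, ?_⟩
      have h2 := form v hv d₁ hd₁
      rw [hvd d₁ hd₁, cx_one] at h2
      have h3 := (mul_eq_zero.1 h2.symm).resolve_right (C.N_ne_zero h1)
      exact pow_eq_zero_iff two_ne_zero |>.1 h3
    · intro hv
      refine ⟨RR_le_Da hv, fun d hd => ?_⟩
      have h2 : d * v * d⁻¹ ∈ Da co := by
        rw [conj_eq_cm_mul]
        exact mul_mem (RR_le_Da (cm_mem_RR (hDP hd) hv.1)) (RR_le_Da hv)
      have h3 := cm_mem_Z_of_Da (RR_le_Da hv) h2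
      refine eq_one_of_cx (co := co) h3.1 h3.2.1 h3.2.2.1 h3.2.2.2.1 ?_ h3.2.2.2.2.1 h3.2.2.2.2.2
      rw [form v (RR_le_Da hv) d hd, hv.2.2]
      simp
  have hNR : N ≤ normalizer ((RR co : Subgroup G) : Set G) := by
    refine le_normalizer_of fun n hn v hv => ?_
    have hv' : v ∈ {v : G | v ∈ Da co ∧ ∀ d ∈ D, cm v (d * v * d⁻¹) = 1} := by rw [hRR]; exact hv
    have : n * v * n⁻¹ ∈ {v : G | v ∈ Da co ∧ ∀ d ∈ D, cm v (d * v * d⁻¹) = 1} := by
      refine ⟨conj_mem_of_le hNDa hn hv'.1, fun d hd => ?_⟩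
      have h2 := hv'.2 _ (conj_mem_of_le (K := D) le_rfl (inv_mem hn) hd)
      have h3 := conj_cm n v ((n⁻¹ * d * n⁻¹⁻¹) * v * (n⁻¹ * d * n⁻¹⁻¹)⁻¹)
      rw [h2] at h3
      have e : n * ((n⁻¹ * d * n⁻¹⁻¹) * v * (n⁻¹ * d * n⁻¹⁻¹)⁻¹) * n⁻¹ = d * (n * v * n⁻¹) * d⁻¹ := by group
      rw [e] at h3
      rw [← h3]; group
    rw [hRR] at this
    exact this
  have hNE : N ≤ normalizer ((E2 co : Subgroup G) : Set G) := by
    have h2 : cenMod (RR co) (RR co) ⊥ (le_normalizer_bot _) = E2 co := by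
      ext g
      rw [mem_cenMod]
      constructor
      · rintro ⟨hg, hgc⟩
        have h0 : g ∈ F0 co := mem_F0_of_cm_eq_one hg.1 (fun x hx => by
          have := hgc x (F0_le_RR hx); rwa [mem_bot] at this)
        refine ⟨hg.1, h0.2.1, ?_, h0.2.2.1, h0.2.2.2⟩
        apply C.T_nondeg
        intro s
        obtain ⟨x, hx, hxc⟩ := exists_cx (co := co) ⟨0, 0, 0, 0, s, 0⟩
        have hx' : x ∈ RR co := ⟨hx, by rw [hxc], by rw [hxc]⟩
        have h1 := hgc x hx'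
        rw [mem_bot] at h1
        have h2 := a4_cm_Da_Da (co := co) hg.1 hx h0.2.1 hx'.2.1
        rw [h1, cx_one, hxc, h0.2.2.1, h0.2.2.2] at h2
        simpa [C.T_zero_left, C.T_zero_right] using h2.symm
      · intro hg
        refine ⟨E2_le_RR hg, fun d hd => ?_⟩
        rw [mem_bot]
        exact cm_eq_one.2 (cm_eq_one.1 (cm_Db_E2 (RR_le_Db hd) hg)).symm
    rw [← h2]
    exact le_normalizer_cenMod hNR hNR (le_normalizer_bot _)
  -- the chain for `P`
  have hDE : RR co ≤ normalizer ((E2 co : Subgroup G) : Set G) := (hR.trans hDN).trans hNE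
  set C0 := cenMod (RR co) D (E2 co) hDE with hC0
  have hNC0 : N ≤ normalizer (C0 : Set G) := le_normalizer_cenMod hNR le_rfl hNE
  set Q : Subgroup G := Subgroup.closure {z : G | ∃ g ∈ D, ∃ h ∈ RR co, cm g h = z} ⊔ E2 co with hQ
  have hNQ : N ≤ normalizer (Q : Set G) := by
    refine le_normalizer_sup (le_normalizer_closure ?_) hNE
    rintro n hn _ ⟨g, hg, h, hh, rfl⟩
    exact ⟨n * g * n⁻¹, conj_mem_of_le le_rfl hn hg, n * h * n⁻¹, conj_mem_of_le hNR hn hh,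
      (conj_cm n g h).symm⟩
  have hQF : Q ≤ F0 co := by
    refine sup_le ?_ E2_le_F0
    rw [closure_le]
    rintro _ ⟨g, hg, h, hh, rfl⟩
    exact cm_mem_F0 (hDP hg) hh
  have hF0C0 : F0 co ≤ C0 := by
    intro f hf
    exact ⟨F0_le_RR hf, fun d hd => cm_inv_swap_mem (cm_mem_E2 (hDP hd) hf)⟩
  have hPD : (P : Subgroup G) ≤ D := by
    intro x hx
    refine mem_of_stab' hE hR hx ?_
    refine Stab.step (B := RR co) hR le_rfl (fun e he => cm_mem_RR hx (hDP he)) ?_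
    refine Stab.step (B := C0) cenMod_le hNR (fun e he => hF0C0 (cm_mem_F0 hx he)) ?_
    refine Stab.step (B := Q) (hQF.trans hF0C0) hNC0 (fun g hg => ?_) ?_
    · change cm x g ∈ Q
      have hgR := hg.1
      have h2 : C.cr (cx co d₁).a1 (cx co g).a5 = 0 := by
        have h3 := (cm_inv_swap_mem (hg.2 d₁ hd₁)).2.2.1
        rwa [a3_cm_R hd₁P hgR.1 hgR.2.1 hgR.2.2] at h3
      obtain ⟨f, hf⟩ := exists_smul_of_cr_eq_zero hC h1 h2
      obtain ⟨y, hy, hyc⟩ := exists_cx (co := co) ⟨0, 0, 0, 0, f • (cx co x).a1, 0⟩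
      have hy' : y ∈ RR co := ⟨hy, by rw [hyc], by rw [hyc]⟩
      have hd : cm d₁ y ∈ Q := (le_sup_left : _ ≤ Q) (Subgroup.subset_closure ⟨d₁, hd₁, y, hy', rfl⟩)
      have h4 := cm_mem_F0 hx hgR
      have h5 := cm_mem_F0 hd₁P hy'
      have h7 : cm x g * (cm d₁ y)⁻¹ ∈ E2 co := by
        have h8 : cm x g * (cm d₁ y)⁻¹ ∈ F0 co := mul_mem h4 (inv_mem h5)
        have h9 : (cx co (cm x g)).a3 = (cx co (cm d₁ y)).a3 := by
          rw [a3_cm_R hx hgR.1 hgR.2.1 hgR.2.2, a3_cm_R hd₁P hy hy'.2.1 hy'.2.2, hyc, hf,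
            cr_smul_right, cr_smul_right, C.cr_comm]
        have h10 : (cm d₁ y)⁻¹ = cm d₁ y := inv_eq_of_mul_eq_one_left (sq_F0 h5)
        refine ⟨h8.1, h8.2.1, ?_, h8.2.2.1, h8.2.2.2⟩
        rw [h10, a3_mul h4.1 h5.1, h9, h4.2.2.2, h5.2.1, C.cr_zero_left, zero_smul, C.add_selfK]
        simp
      have e : cm x g = (cm x g * (cm d₁ y)⁻¹) * cm d₁ y := by group
      rw [e]
      exact mul_mem ((le_sup_right : _ ≤ Q) h7) hd
    refine Stab.step (B := E2 co) le_sup_right hNQ (fun e he => cm_mem_E2 hx (hQF he)) ?_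
    refine Stab.step (B := Z co) Z_le_E2 hNE (fun e he => cm_mem_Z hx he) ?_
    refine Stab.step (B := ⊥) bot_le hNZ (fun e he => ?_) Stab.bot
    rw [mem_bot]
    exact cm_Z hx he
  obtain ⟨H, h⟩ := hE
  exact absurd hPD (not_le_of_gt h.lt)

/-- **Step 4**: an essential subgroup containing `RR = P'` is `Da` or `Db`. -/
theorem eq_Da_or_eq_Db (hC : Reg C) : D = Da co ∨ D = Db co := by
  have hDP := le_P hE hR
  by_cases hb : D ≤ Db co
  · exact Or.inr (eq_Db hE hR hb hC)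
  · obtain ⟨d₀, hd₀, hd₀b⟩ := SetLike.not_le_iff_exists.1 hb
    have h6 : (cx co d₀).a6 ≠ 0 := fun h => hd₀b ⟨hDP hd₀, h⟩
    by_cases ha : D ≤ Da co
    · exact Or.inl (eq_Da hE hR ha hd₀ h6)
    · obtain ⟨d₁, hd₁, hd₁a⟩ := SetLike.not_le_iff_exists.1 ha
      have h1 : (cx co d₁).a1 ≠ 0 := fun h => hd₁a ⟨hDP hd₁, h⟩
      exact (false_of_neither hE hR hC hd₀ h6 hd₁ h1).elim

end Cfsg.Agent.HexEss.Step4
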