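import Mathlib
import Cfsg.Agent.HexEss.Count
import Cfsg.Agent.HexEss.Step4
import Cfsg.Agent.Hex.SE

/-!
# Essential subgroups containing `F0` and not contained in `Db` contain `RR`
-/

set_option autoImplicit false

namespace Cfsg.Agent.HexEss.Step3

open Cfsg.Agent.HexRec Subgroup Cfsg.Agent.Lib.EssBridge Cfsg.Agent.HexEss Cfsg.Agent.Lib.EssDefs
open Cfsg.Agent.Hex.SE

/-! ### Chains for (RED) -/

section chain

variable {G : Type*} [Group G]

/-- a chain as in (RED) -/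
inductive RStab (C : Subgroup G) (b : G) : Subgroup G → Prop
  | bot : RStab C b ⊥
  | step {A B : Subgroup G} : B ≤ A → (∀ n ∈ C, ∀ d ∈ A, n * d * n⁻¹ ∈ A) →
      ((∀ d ∈ A, cm b d ∈ B) ∨ ∀ n ∈ C, ∀ d ∈ A, cm n d ∈ B) → RStab C b B → RStab C b A

theorem RStab.exists_chain {C : Subgroup G} {b : G} {A : Subgroup G} (h : RStab C b A) :
    ∃ (c : ℕ → Subgroup G) (n : ℕ), c 0 = A ∧ c n = ⊥ ∧ (∀ i, c (i + 1) ≤ c i) ∧
      (∀ n ∈ C, ∀ i, ∀ d ∈ c i, n * d * n⁻¹ ∈ c i) ∧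
      ∀ i, (∀ d ∈ c i, b * d * b⁻¹ * d⁻¹ ∈ c (i + 1)) ∨ ∀ n ∈ C, ∀ d ∈ c i, n * d * n⁻¹ * d⁻¹ ∈ c (i + 1) := by
  induction h with
  | bot =>
    refine ⟨fun _ => ⊥, 0, rfl, rfl, fun _ => le_rfl, fun n _ i d hd => ?_, fun i => Or.inl fun e he => ?_⟩
    · rw [mem_bot] at hd ⊢; rw [hd]; simp
    · rw [mem_bot] at he; rw [he]; simp
  | @step A B hBA hN hx _ ih =>
    obtain ⟨c, n, h0, hn, hle, hc, hs⟩ := ih
    refine ⟨fun i => Nat.casesOn i A c, n + 1, rfl, hn, ?_, ?_, ?_⟩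
    · intro i
      cases i with
      | zero => exact h0.le.trans hBA
      | succ i => exact hle i
    · intro n hn i
      cases i with
      | zero => exact hN n hn
      | succ i => exact hc n hn i
    · intro i
      cases i with
      | zero =>
        rcases hx with hx | hx
        · left
          intro e he
          change b * e * b⁻¹ * e⁻¹ ∈ c 0
          rw [h0]
          exact hx e he
        · right
          intro n hn e he
          change n * e * n⁻¹ * e⁻¹ ∈ c 0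
          rw [h0]
          exact hx n hn e he
      | succ i => exact hs i

theorem relSE' [Finite G] {P X H A A0 : Subgroup G} (hP : IsPGroup 2 P) (h : IsEss 2 P X H) (hs : Sec X A A0)
    {b : G} (hbP : b ∈ P) (hbN : b ∈ normalizer (X : Set G)) (hbb : b * b ∈ K0 X) (hb : b ∉ Cs hs)
    (hst : RStab (Cs hs) b X) : RelSE H (Cs hs) X := by
  obtain ⟨c, n, h0, hn, hle, hc, hx⟩ := hst.exists_chain
  exact relSE hP h hs hbP hbN hbb hb c h0 hn hle hc hx

theorem card_mul_relIndex' [Finite G] {A B : Subgroup G} (h : A ≤ B) : Nat.card A * A.relIndex B = Nat.card B := by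
  have := card_mul_index (A.subgroupOf B)
  rwa [Nat.card_congr (subgroupOfEquivOfLe h).toEquiv] at this

/-- `|M|² ≤ |M ∩ M^x| |D|` -/
theorem card_sq_le [Finite G] {M D : Subgroup G} (hM : M ≤ D) {x : G} (hx : x ∈ normalizer (D : Set G)) :
    Nat.card M * Nat.card M ≤ Nat.card (M ⊓ M.map (MulAut.conj x).toMonoidHom : Subgroup G) * Nat.card D := by
  set M' := M.map (MulAut.conj x).toMonoidHom with hM'
  have h1 : M' ≤ D := by
    rintro _ ⟨m, hm, rfl⟩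
    exact conj_mem_of_le (K := D) le_rfl hx (hM hm)
  have h2 : M'.relIndex M ≤ M'.relIndex D := by
    exact relIndex_le_of_le_right hM (index_ne_zero_of_finite (H := M'.subgroupOf D))
  have h3 : Nat.card M' = Nat.card M := Cfsg.Agent.Lib.GoldschmidtFusion.card_map_conj M x
  have h4 := card_mul_relIndex' (inf_le_left : M ⊓ M' ≤ M)
  rw [inf_relIndex_left] at h4
  have h5 := card_mul_relIndex' h1
  rw [h3] at h5
  calc Nat.card M * Nat.card M = (Nat.card (M ⊓ M' : Subgroup G) * M'.relIndex M) * Nat.card M := by rw [h4]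
    _ ≤ (Nat.card (M ⊓ M' : Subgroup G) * M'.relIndex D) * Nat.card M :=
      Nat.mul_le_mul_right _ (Nat.mul_le_mul_left _ h2)
    _ = Nat.card (M ⊓ M' : Subgroup G) * Nat.card D := by rw [← h5]; ring

end chain

/-! ### The setting of step 3 -/

section step3

variable {F K : Type*} [Field F] [Field K] [Algebra F K] {C : Cubic F K}
variable {G : Type*} [Group G] [Finite G] {P : Sylow 2 G} {co : Coord C (P : Subgroup G)}
variable {D H : Subgroup G} (hE : IsEss 2 (P : Subgroup G) D H) (hF : F0 co ≤ D)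

include hE hF

theorem V_le_F0 : omegaZ D ≤ F0 co := by
  intro v hv
  refine mem_F0_of_cm_eq_one (hE.lt.le hv.1) fun x hx => ?_
  rw [cm_eq_one]
  exact (mem_centralizer_iff.1 hv.2.1 x (hF hx)).symm

theorem Z_le_V : Z co ≤ omegaZ D := by
  intro z hz
  refine ⟨hF (Z_le_F0 hz), mem_centralizer_iff.2 fun x hx => ?_, sq_F0 (Z_le_F0 hz)⟩
  exact cm_eq_one.1 (cm_Z (hE.lt.le hx) hz)

theorem RR_le_N : RR co ≤ normalizer (D : Set G) := by
  intro r hr
  exact mem_normalizer_of_cm fun d hd => hF (cm_inv_swap_mem (cm_mem_F0 (hE.lt.le hd) hr))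

theorem sq_RR_mem {b : G} (hb : b ∈ RR co) : b * b ∈ D := by
  refine hF (Z_le_F0 ?_)
  refine ⟨mul_mem hb.1 hb.1, a1_sq hb.1, a2_sq_Da hb.1 hb.2.1, a3_sq_Da hb.1 hb.2.1, ?_, a6_sq hb.1⟩
  rw [a5_sq hb.1, hb.2.1, smul_zero]

theorem mem_Z_of_V {g₀ : G} (hg₀ : g₀ ∈ D) (h6 : (cx co g₀).a6 ≠ 0) {v : G} (hv : v ∈ omegaZ D)
    (h3 : (cx co v).a3 = 0) : v ∈ Z co := by
  have hvF := V_le_F0 hE hF hv
  have h1 : cm g₀ v = 1 := cm_eq_one.2 (mem_centralizer_iff.1 hv.2.1 g₀ hg₀)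
  have h2 := a4_cm_F0 (co := co) (hE.lt.le hg₀) hvF.1 hvF.2.1 hvF.2.2.1 hvF.2.2.2
  rw [h1, cx_one, h3, C.T_zero_right, add_zero] at h2
  exact ⟨hvF.1, hvF.2.1, (mul_eq_zero.1 h2.symm).resolve_left h6, h3, hvF.2.2.1, hvF.2.2.2⟩

/-- If `D` is not contained in `Db` and does not contain `RR`, then `V = Ω₁(Z(D))` is not contained in `Z`. -/
theorem exists_V_of_not_le (hC : Reg C) (hR : ¬ RR co ≤ D) {g₀ : G} (hg₀ : g₀ ∈ D)
    (h6 : (cx co g₀).a6 ≠ 0) : ∃ v ∈ omegaZ D, (cx co v).a3 ≠ 0 := by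
  by_contra hcon
  push Not at hcon
  have hVZ : omegaZ D = Z co :=
    le_antisymm (fun v hv => mem_Z_of_V hE hF hg₀ h6 hv (hcon v hv)) (Z_le_V hE hF)
  have hDP : D ≤ P := hE.lt.le
  have hNZ : normalizer (D : Set G) ≤ normalizer ((Z co : Subgroup G) : Set G) := by
    rw [← hVZ]
    exact le_normalizer_of fun n hn v hv => omegaZ_conj hn hv
  have hess : Lib.EssDefs.Ess 2 (P : Subgroup G) D := ⟨H, hE⟩
  apply hR
  by_cases hDa : D ≤ Da co
  · have h1 : Da co ≤ D := by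
      intro x hx
      refine mem_of_stab hess ?_ hx.1 ?_
      · refine Stab.step (B := Z co) (Z_le_F0.trans hF) le_rfl (fun e he => cm_mem_Z_of_Da hx (hDa he)) ?_
        refine Stab.step (B := ⊥) bot_le hNZ (fun e he => ?_) Stab.bot
        rw [mem_bot]
        exact cm_Z hx.1 he
      · exact mem_normalizer_of_cm fun d hd => hF (Z_le_F0 (cm_mem_Z_of_Da hx (hDa hd)))
    exact RR_le_Da.trans h1
  · obtain ⟨d₁, hd₁, hd₁a⟩ := SetLike.not_le_iff_exists.1 hDa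
    have h1 : (cx co d₁).a1 ≠ 0 := fun h => hd₁a ⟨hDP hd₁, h⟩
    have hNM := Step4.le_normalizer_inf_Da hC hDP hF hNZ hg₀ h6 hd₁ h1
    intro x hx
    refine mem_of_stab hess ?_ hx.1 (RR_le_N hE hF hx)
    refine Stab.step (B := D ⊓ Da co) inf_le_left le_rfl (fun e he => ?_) ?_
    · have h2 : cm x e ∈ F0 co := cm_inv_swap_mem (cm_mem_F0 (hDP he) hx)
      exact ⟨hF h2, F0_le_Da h2⟩
    refine Stab.step (B := Z co) (le_inf (Z_le_F0.trans hF) Z_le_Da) hNM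
      (fun e he => cm_mem_Z_of_Da (RR_le_Da hx) he.2) ?_
    refine Stab.step (B := ⊥) bot_le hNZ (fun e he => ?_) Stab.bot
    rw [mem_bot]
    exact cm_Z hx.1 he

/-- Data used in the case where `V = Ω₁(Z(D))` contains `v₀` with `a3 v₀ ≠ 0`. -/
theorem exists_b {v₀ : G} (hv₀ : v₀ ∈ omegaZ D) (h3 : (cx co v₀).a3 ≠ 0) :
    ∃ b ∈ RR co, b ∈ normalizer (D : Set G) ∧ b * b ∈ K0 D ∧ b * v₀ ≠ v₀ * b := by
  obtain ⟨s, hs⟩ := C.exists_T_eq h3 1
  obtain ⟨b, hb, hbc⟩ := exists_cx (co := co) ⟨0, 0, 0, 0, s, 0⟩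
  have hb' : b ∈ RR co := ⟨hb, by rw [hbc], by rw [hbc]⟩
  refine ⟨b, hb', RR_le_N hE hF hb', (le_sup_left : D ≤ K0 D) (sq_RR_mem hE hF hb'), fun h => ?_⟩
  have hvF := V_le_F0 hE hF hv₀
  have h2 := a4_cm_F0 (co := co) hb hvF.1 hvF.2.1 hvF.2.2.1 hvF.2.2.2
  rw [cm_eq_one.2 h, cx_one, hbc, zero_mul, zero_add, C.T_comm, hs] at h2
  exact zero_ne_one h2

/-- `D = C_P(V)` -/
theorem inf_centralizer {v₀ : G} (hv₀ : v₀ ∈ omegaZ D) (h3 : (cx co v₀).a3 ≠ 0) :
    (P : Subgroup G) ⊓ centralizer (omegaZ D : Set G) = D := by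
  obtain ⟨b, hb, hbN, hbb, hbv⟩ := exists_b hE hF hv₀ h3
  exact centralizer_omegaZ P.isPGroup' hE hb.1 hbN hbb hv₀ hbv

theorem mem_Cs_iff {v₀ : G} (hv₀ : v₀ ∈ omegaZ D) (h3 : (cx co v₀).a3 ≠ 0) {g : G} (hg : g ∈ (P : Subgroup G)) :
    g ∈ Cs (sec_omegaZ D) ↔ g ∈ D := by
  obtain ⟨b, hb, hbN, hbb, hbv⟩ := exists_b hE hF hv₀ h3
  constructor
  · intro h
    refine mem_of_mem_Cs P.isPGroup' hE (sec_omegaZ D) hb.1 hbN hbb ?_ hg h
    intro h'
    have := h'.2 v₀ hv₀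
    rw [mem_bot] at this
    exact hbv (cm_eq_one.1 this)
  · intro h
    exact K0_le_Cs _ ((le_sup_left : D ≤ K0 D) h)

/-- `Da` normalizes `D` if `V ≤ F0`. -/
theorem Da_le_N {v₀ : G} (hv₀ : v₀ ∈ omegaZ D) (h3 : (cx co v₀).a3 ≠ 0) :
    Da co ≤ normalizer (D : Set G) := by
  refine le_normalizer_of fun x hx d hd => ?_
  have hCP := inf_centralizer hE hF hv₀ h3
  have hDP : D ≤ P := hE.lt.le
  have hxP : x ∈ (P : Subgroup G) := hx.1
  rw [← hCP]
  refine mem_inf.2 ⟨mul_mem (mul_mem hxP (hDP hd)) (inv_mem hxP), mem_centralizer_iff.2 fun v hv => ?_⟩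
  have hv' : v ∈ omegaZ D := hv
  have h1 : x⁻¹ * v * x⁻¹⁻¹ ∈ omegaZ D := by
    rw [conj_eq_cm_mul]
    have hxi : x⁻¹ ∈ Da co := (Da co).inv_mem hx
    exact mul_mem (Z_le_V hE hF (cm_mem_Z_of_Da hxi (F0_le_Da (V_le_F0 hE hF hv')))) hv'
  have h2 := mem_centralizer_iff.1 h1.2.1 d hd
  calc v * (x * d * x⁻¹) = x * ((x⁻¹ * v * x⁻¹⁻¹) * d) * x⁻¹ := by group
    _ = x * (d * (x⁻¹ * v * x⁻¹⁻¹)) * x⁻¹ := by rw [h2]
    _ = x * d * x⁻¹ * v := by group

omit hE hF [Finite G] in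
/-- elements of `Cs` centralize `V` -/
theorem conj_eq_of_mem_Cs {n v : G} (hn : n ∈ Cs (sec_omegaZ D)) (hv : v ∈ omegaZ D) : n * v * n⁻¹ = v := by
  have := hn.2 v hv
  rw [mem_bot] at this
  exact mul_inv_eq_one.1 this

/-- (RED) in case 3b. -/
theorem relSE_3b {v₀ : G} (hv₀ : v₀ ∈ omegaZ D) (h3 : (cx co v₀).a3 ≠ 0) {g₀ : G} (hg₀ : g₀ ∈ D)
    (h6 : (cx co g₀).a6 ≠ 0) : RelSE H (Cs (sec_omegaZ D)) D := by
  obtain ⟨b, hb, hbN, hbb, hbv⟩ := exists_b hE hF hv₀ h3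
  have hDP : D ≤ P := hE.lt.le
  have hVF := V_le_F0 hE hF
  have hCsN : Cs (sec_omegaZ D) ≤ normalizer (D : Set G) := fun _ h => h.1
  have hCsV : ∀ {n v : G}, n ∈ Cs (sec_omegaZ D) → v ∈ omegaZ D → n * v * n⁻¹ = v := fun hn hv =>
    conj_eq_of_mem_Cs hn hv
  have hbC : b ∉ Cs (sec_omegaZ D) := fun h => hbv (mul_inv_eq_iff_eq_mul.1 (hCsV h hv₀))
  refine relSE' P.isPGroup' hE (sec_omegaZ D) hb.1 hbN hbb hbC ?_
  by_cases hDa : D ≤ Da co
  · refine RStab.step (B := omegaZ D) (fun _ h => h.1) (fun n hn d hd => conj_mem_of_le le_rfl (hCsN hn) hd)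
      (Or.inl fun d hd => Z_le_V hE hF (cm_mem_Z_of_Da (RR_le_Da hb) (hDa hd))) ?_
    refine RStab.step (B := ⊥) bot_le (fun n hn d hd => ?_) (Or.inr fun n hn d hd => ?_) RStab.bot
    · rw [hCsV hn hd]; exact hd
    · rw [mem_bot]
      exact mul_inv_eq_one.2 (hCsV hn hd)
  · obtain ⟨d₁, hd₁, hd₁a⟩ := SetLike.not_le_iff_exists.1 hDa
    have h1 : (cx co d₁).a1 ≠ 0 := fun h => hd₁a ⟨hDP hd₁, h⟩
    have hZn : ∀ n ∈ Cs (sec_omegaZ D), ∀ z ∈ Z co, n * z * n⁻¹ = z := fun n hn z hz =>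
      hCsV hn (Z_le_V hE hF hz)
    have hconj : ∀ n ∈ Cs (sec_omegaZ D), ∀ d ∈ D, n * d * n⁻¹ ∈ D := fun n hn d hd =>
      conj_mem_of_le le_rfl (hCsN hn) hd
    -- (1) `E2^n ≤ RR`
    have c1 : ∀ n ∈ Cs (sec_omegaZ D), ∀ e ∈ E2 co, n * e * n⁻¹ ∈ RR co := by
      intro n hn e he
      have he1 : n * e * n⁻¹ ∈ D := hconj n hn e (hF (E2_le_F0 he))
      have he1P := hDP he1
      have hcz : ∀ d ∈ D, cm (n * e * n⁻¹) d ∈ Z co := by
        intro d hd
        have h2 : n⁻¹ * d * n⁻¹⁻¹ ∈ D := hconj _ (inv_mem hn) d hd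
        have h3 := cm_inv_swap_mem (cm_mem_Z (co := co) (hDP h2) he)
        have h4 := conj_cm n e (n⁻¹ * d * n⁻¹⁻¹)
        have e1 : n * (n⁻¹ * d * n⁻¹⁻¹) * n⁻¹ = d := by group
        rw [e1, hZn n hn _ h3] at h4
        rw [← h4]
        exact h3
      have h5 : (cx co (n * e * n⁻¹)).a1 = 0 := mem_F0_of_comm he1P fun x hx => hcz x (hF hx)
      refine ⟨he1P, h5, ?_⟩
      have h7 := (hcz d₁ hd₁).2.2.2.2.1
      rw [a5_cm he1P (hDP hd₁), h5, smul_zero, add_zero] at h7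
      exact (smul_eq_zero.1 h7).resolve_right h1
    -- (2) `F0^n ≤ Da`
    have c2 : ∀ n ∈ Cs (sec_omegaZ D), ∀ f ∈ F0 co, n * f * n⁻¹ ∈ Da co := by
      intro n hn f hf
      have hf1 : n * f * n⁻¹ ∈ D := hconj n hn f (hF hf)
      have hf1P := hDP hf1
      refine ⟨hf1P, ?_⟩
      by_contra ht
      -- commutators of `f₁` lie in `E2^n`
      have hcE : ∀ d ∈ D, ∃ e ∈ E2 co, cm (n * f * n⁻¹) d = n * e * n⁻¹ := by
        intro d hd
        have h2 : n⁻¹ * d * n⁻¹⁻¹ ∈ D := hconj _ (inv_mem hn) d hd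
        refine ⟨cm f (n⁻¹ * d * n⁻¹⁻¹), cm_inv_swap_mem (cm_mem_E2 (hDP h2) hf), ?_⟩
        rw [conj_cm]
        congr 1
        group
      -- `E2 ≤ E2^n`
      have hle : E2 co ≤ (E2 co).map (MulAut.conj n).toMonoidHom := by
        intro e he
        obtain ⟨k, hk⟩ := C.exists_T_eq ht (cx co e).a2
        obtain ⟨y, hy, hyc⟩ := exists_cx (co := co) ⟨0, 0, k, 0, 0, 0⟩
        have hy' : y ∈ F0 co := ⟨hy, by rw [hyc], by rw [hyc], by rw [hyc]⟩
        obtain ⟨e', he', hee'⟩ := hcE y (hF hy')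
        have h7 : cm (n * f * n⁻¹) y ∈ E2 co := cm_mem_E2 hf1P hy'
        have h8 : e * (cm (n * f * n⁻¹) y)⁻¹ ∈ Z co := by
          have h9 : (cm (n * f * n⁻¹) y)⁻¹ = cm (n * f * n⁻¹) y :=
            inv_eq_of_mul_eq_one_left (sq_F0 (E2_le_F0 h7))
          have h10 : e * (cm (n * f * n⁻¹) y)⁻¹ ∈ E2 co := mul_mem he (inv_mem h7)
          refine ⟨h10.1, h10.2.1, ?_, h10.2.2.1, h10.2.2.2.1, h10.2.2.2.2⟩
          rw [h9, a2_mul he.1 h7.1, h7.2.1, he.2.2.2.2, a2_cm_F0 hf1P hy hy'.2.1 hy'.2.2.1 hy'.2.2.2, hyc, hk,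
            C.N_zero, C.sh_zero, C.T_zero_left, C.T_zero_left, C.add_self]
          simp
        have e1 : e = (n * (e * (cm (n * f * n⁻¹) y)⁻¹) * n⁻¹) * (n * e' * n⁻¹) := by
          rw [hZn n hn _ h8, ← hee']; group
        rw [e1]
        exact mul_mem ⟨_, Z_le_E2 h8, rfl⟩ ⟨e', he', rfl⟩
      have heq : E2 co = (E2 co).map (MulAut.conj n).toMonoidHom :=
        Subgroup.eq_of_le_of_card_ge hle
          (Cfsg.Agent.Lib.GoldschmidtFusion.card_map_conj _ n).le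
      have h66 : (cx co (n * f * n⁻¹)).a6 = 0 := by
        have h7 := a5_sq (co := co) hf1P
        have e : n * f * n⁻¹ * (n * f * n⁻¹) = n * (f * f) * n⁻¹ := by group
        rw [e, sq_F0 hf] at h7
        have e2 : n * 1 * n⁻¹ = 1 := by group
        rw [e2, cx_one] at h7
        exact (smul_eq_zero.1 h7.symm).resolve_right ht
      obtain ⟨e', he', hee'⟩ := hcE g₀ hg₀
      have h7 : cm (n * f * n⁻¹) g₀ ∈ E2 co := by
        rw [heq, hee']
        exact ⟨e', he', rfl⟩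
      have h8 := h7.2.2.2.1
      rw [a5_cm hf1P (hDP hg₀), h66, zero_smul, zero_add] at h8
      rcases smul_eq_zero.1 h8 with h9 | h9
      · exact h6 h9
      · exact ht h9
    set W : Subgroup G := Subgroup.closure {w : G | ∃ n ∈ Cs (sec_omegaZ D), ∃ f ∈ F0 co, n * f * n⁻¹ = w} with hW
    have hWD : W ≤ D := by
      rw [hW, closure_le]
      rintro _ ⟨n, hn, f, hf, rfl⟩
      exact hconj n hn f (hF hf)
    have hWDa : W ≤ Da co := by
      rw [hW, closure_le]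
      rintro _ ⟨n, hn, f, hf, rfl⟩
      exact c2 n hn f hf
    have hFW : F0 co ≤ W := fun f hf => Subgroup.subset_closure ⟨1, one_mem _, f, hf, by group⟩
    have hCW : Cs (sec_omegaZ D) ≤ normalizer (W : Set G) := by
      refine le_normalizer_closure ?_
      rintro m hm _ ⟨n, hn, f, hf, rfl⟩
      exact ⟨m * n, mul_mem hm hn, f, hf, by group⟩
    refine RStab.step (B := W) hWD hconj (Or.inl fun d hd => hFW (cm_inv_swap_mem (cm_mem_F0 (hDP hd) hb))) ?_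
    refine RStab.step (B := Z co) (Z_le_F0.trans hFW) (fun n hn d hd => conj_mem_of_le hCW hn hd)
      (Or.inl fun d hd => cm_mem_Z_of_Da (RR_le_Da hb) (hWDa hd)) ?_
    refine RStab.step (B := ⊥) bot_le (fun n hn d hd => ?_) (Or.inr fun n hn d hd => ?_) RStab.bot
    · rw [hZn n hn d hd]; exact hd
    · rw [mem_bot]
      exact mul_inv_eq_one.2 (hZn n hn d hd)

/-- **Step 3b**: `D ≤ Db`. -/
theorem le_Db [Finite F] [Finite K] (hC : Reg C) (hR : ¬ RR co ≤ D) : D ≤ Db co := by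
  by_contra hDb
  obtain ⟨g₀, hg₀, hg₀b⟩ := SetLike.not_le_iff_exists.1 hDb
  have hDP : D ≤ P := hE.lt.le
  have h6 : (cx co g₀).a6 ≠ 0 := fun h => hg₀b ⟨hDP hg₀, h⟩
  obtain ⟨v₀, hv₀, h3⟩ := exists_V_of_not_le hE hF hC hR hg₀ h6
  have hrel := relSE_3b hE hF hv₀ h3 hg₀ h6
  obtain ⟨x, hx, hxH⟩ := hrel.1
  have hVF := V_le_F0 hE hF
  have hZV := Z_le_V hE hF
  have hDaN := Da_le_N hE hF hv₀ h3
  have hCs : ∀ {g : G}, g ∈ (P : Subgroup G) → (g ∈ Cs (sec_omegaZ D) ↔ g ∈ D) := fun hg =>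
    mem_Cs_iff hE hF hv₀ h3 hg
  -- commutators of `x5 s` with elements of `F0`
  have hx5 : ∀ (s : K), ∃ t ∈ Da co, ∀ a ∈ F0 co, (cx co (cm t a)).a4 = C.T s (cx co a).a3 := by
    intro s
    obtain ⟨t, ht, htc⟩ := exists_cx (co := co) ⟨0, 0, 0, 0, s, 0⟩
    refine ⟨t, ⟨ht, by rw [htc]⟩, fun a ha => ?_⟩
    rw [a4_cm_F0 ht ha.1 ha.2.1 ha.2.2.1 ha.2.2.2, htc, zero_mul, zero_add]
  obtain ⟨-, s2, -, s4, -⟩ := sec_se (T := Da co) (Z1 := Z co) (C1 := Z co) hE (sec_omegaZ D) hrel Da_le hDaN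
    bot_le (fun a => by
      constructor
      · intro ha
        refine ⟨hZV ha, fun t ht => ?_⟩
        rw [mem_bot]
        exact cm_Z ht.1 ha
      · rintro ⟨ha, hat⟩
        apply mem_Z_of_V hE hF hg₀ h6 ha
        apply C.T_nondeg
        intro s
        obtain ⟨t, ht, ht'⟩ := hx5 s
        have h1 := hat t ht
        rw [mem_bot] at h1
        have h2 := ht' a (hVF ha)
        unfold cm at h2
        rw [h1, cx_one, C.T_comm] at h2
        exact h2.symm) le_rfl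
    (fun t ht a ha => cm_mem_Z_of_Da ht (F0_le_Da (hVF ha)))
    (fun a ha haZ z hz => by
      have h3a : (cx co a).a3 ≠ 0 := fun h => haZ (mem_Z_of_V hE hF hg₀ h6 ha h)
      obtain ⟨s, hs⟩ := C.exists_T_eq h3a (cx co z).a4
      obtain ⟨t, ht, ht'⟩ := hx5 s
      refine ⟨t, ht, ?_⟩
      rw [mem_bot, mul_inv_eq_one]
      have h1 := cm_mem_Z_of_Da ht (F0_le_Da (hVF ha))
      apply cx_inj (co := co) h1.1 hz.1
      refine Tup.ext ?_ ?_ ?_ ?_ ?_ ?_
      · exact h1.2.1.trans hz.2.1.symm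
      · exact h1.2.2.1.trans hz.2.2.1.symm
      · exact h1.2.2.2.1.trans hz.2.2.2.1.symm
      · have := ht' a (hVF ha)
        rw [C.T_comm, hs] at this
        exact this
      · exact h1.2.2.2.2.1.trans hz.2.2.2.2.1.symm
      · exact h1.2.2.2.2.2.trans hz.2.2.2.2.2.symm)
    ⟨v₀, hv₀, fun h => h3 h.2.2.2.1⟩ hx hxH
  -- `M = D ∩ Da`
  set M : Subgroup G := D ⊓ Da co with hM
  have hMeq : Da co ⊓ Cs (sec_omegaZ D) = M := by
    ext g
    constructor
    · rintro ⟨h1, h2⟩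
      exact mem_inf.2 ⟨(hCs h1.1).1 h2, h1⟩
    · rintro ⟨h1, h2⟩
      exact mem_inf.2 ⟨h2, (hCs (hDP h1)).2 h1⟩
  rw [hMeq, relIndex_bot_left, card_Z] at s4
  have hMDa : Nat.card M * Nat.card F = Nat.card F * (Nat.card F * Nat.card K * Nat.card K * Nat.card F) := by
    rw [← card_Da (co := co), ← s4]
    exact card_mul_relIndex' inf_le_right
  -- `A = M ∩ M^x` is abelian
  set A : Subgroup G := M ⊓ M.map (MulAut.conj x).toMonoidHom with hA
  have hAab : ∀ a ∈ A, ∀ b ∈ A, a * b = b * a := by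
    rintro a ⟨ha, a', ha', haa⟩ b ⟨hb, b', hb', hbb⟩
    have haa' : x * a' * x⁻¹ = a := haa
    have hbb' : x * b' * x⁻¹ = b := hbb
    have h1 : cm a' b' ∈ Z co := cm_mem_Z_of_Da ha'.2 hb'.2
    have h2 : x * cm a' b' * x⁻¹ = cm a b := by rw [conj_cm, haa', hbb']
    have h4 := s2 _ h1 (by rw [h2]; exact cm_mem_Z_of_Da ha.2 hb.2)
    rw [mem_bot] at h4
    rw [← cm_eq_one, ← h2, h4]
    group
  have hAcard := card_le_of_abelian (co := co) (A := A) (fun a ha => ha.1.2) hAab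
  have hsq := card_sq_le (inf_le_left : M ≤ D) hx
  -- `|D : M| ≤ |k^⊥|`
  have hDM : Nat.card D ≤ Nat.card M * Nat.card {κ : K // C.T (cx co v₀).a3 κ = 0} := by
    let τ : D →* Multiplicative K := MonoidHom.mk' (fun d => Multiplicative.ofAdd (cx co (d : G)).a1) (by
      intro a b
      have := a1_mul (co := co) (hDP a.2) (hDP b.2)
      change Multiplicative.ofAdd (cx co ((a : G) * b)).a1 = _
      rw [this]; rfl)
    have h1 : τ.ker = M.subgroupOf D := by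
      ext d
      rw [MonoidHom.mem_ker, mem_subgroupOf]
      constructor
      · intro h
        exact mem_inf.2 ⟨d.2, hDP d.2, h⟩
      · intro h
        exact h.2.2
    have h2 : Nat.card D = Nat.card M * Nat.card τ.range := by
      rw [← index_ker, h1]
      exact (card_mul_relIndex' (inf_le_left : M ≤ D)).symm
    rw [h2]
    apply Nat.mul_le_mul_left
    have h4 : ∀ y : τ.range, C.T (cx co v₀).a3 (Multiplicative.toAdd y.1) = 0 := by
      rintro ⟨_, d, rfl⟩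
      change C.T (cx co v₀).a3 (cx co (d : G)).a1 = 0
      have hvF := hVF hv₀
      have h5 : cm (d : G) v₀ = 1 := cm_eq_one.2 (mem_centralizer_iff.1 hv₀.2.1 d d.2)
      have h6 := a2_cm_F0 (co := co) (hDP d.2) hvF.1 hvF.2.1 hvF.2.2.1 hvF.2.2.2
      rw [h5, cx_one, C.T_comm] at h6
      exact h6.symm
    exact Nat.card_le_card_of_injective (fun y : τ.range => (⟨Multiplicative.toAdd y.1, h4 y⟩ :
      {κ : K // C.T (cx co v₀).a3 κ = 0})) (fun a b hab => by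
        apply Subtype.ext
        have := congrArg Subtype.val hab
        exact this)
  have hr := card_T_ker (C := C) h3
  -- numerical contradiction
  have hq : 1 < Nat.card F := Finite.one_lt_card
  have hQ : 0 < Nat.card K := Nat.card_pos
  have hm : 0 < Nat.card M := Nat.card_pos
  set q := Nat.card F
  set Q := Nat.card K
  set m := Nat.card M
  set a := Nat.card A
  set r := Nat.card {κ : K // C.T (cx co v₀).a3 κ = 0}
  have e1 : m * m ≤ a * (m * r) := hsq.trans (Nat.mul_le_mul_left _ hDM)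
  have e2 : m ≤ a * r := by
    have h7 : m * m ≤ m * (a * r) := by
      calc m * m ≤ a * (m * r) := e1
        _ = m * (a * r) := by ring
    exact Nat.le_of_mul_le_mul_left h7 hm
  have e3 : m * q ≤ (q ^ 2 * Q) * Q := by
    calc m * q ≤ (a * r) * q := Nat.mul_le_mul_right _ e2
      _ = a * (r * q) := by ring
      _ = a * Q := by rw [hr]
      _ ≤ (q ^ 2 * Q) * Q := Nat.mul_le_mul_right _ hAcard
  rw [hMDa] at e3
  have e4 : q * (q * Q * Q * q) = (q ^ 2 * Q * Q) * q := by ring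
  rw [e4] at e3
  have hpos : 0 < q ^ 2 * Q * Q := by positivity
  have h7 : q ^ 2 * Q * Q * q ≤ q ^ 2 * Q * Q * 1 := by rw [mul_one]; exact e3
  have h8 : q ≤ 1 := Nat.le_of_mul_le_mul_left h7 hpos
  omega

end step3

end Cfsg.Agent.HexEss.Step3
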