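import Mathlib
import Cfsg.Agent.HexEss.Step3b

/-!
# Essential subgroups `D` with `F0 ≤ D ≤ Db` contain `RR`
-/

set_option autoImplicit false

namespace Cfsg.Agent.HexEss.Step3

open Cfsg.Agent.HexRec Subgroup Cfsg.Agent.Lib.EssBridge Cfsg.Agent.HexEss Cfsg.Agent.Lib.EssDefs
open Cfsg.Agent.Hex.SE

section step3a

variable {F K : Type*} [Field F] [Field K] [Algebra F K] {C : Cubic F K}
variable {G : Type*} [Group G] [Finite G] {P : Sylow 2 G} {co : Coord C (P : Subgroup G)}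
variable {D H : Subgroup G} (hE : IsEss 2 (P : Subgroup G) D H) (hF : F0 co ≤ D) (hDb : D ≤ Db co)

include hE hF hDb

theorem E2_le_V : E2 co ≤ omegaZ D := by
  intro e he
  refine ⟨hF (E2_le_F0 he), mem_centralizer_iff.2 fun x hx => ?_, sq_F0 (E2_le_F0 he)⟩
  exact cm_eq_one.1 (cm_Db_E2 (hDb hx) he)

theorem Db_le_N : Db co ≤ normalizer (D : Set G) := fun _ hx =>
  mem_normalizer_of_cm fun _ hd => hF (cm_mem_F0_of_Db hx (hDb hd))

/-- coordinates of `D = C_P(V)` -/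
theorem mem_D_iff {v₀ : G} (hv₀ : v₀ ∈ omegaZ D) (h3 : (cx co v₀).a3 ≠ 0) {g : G} (hg : g ∈ Db co) :
    g ∈ D ↔ ∀ v ∈ omegaZ D, C.T (cx co g).a1 (cx co v).a3 = 0 ∧ C.T (cx co g).a5 (cx co v).a3 = 0 := by
  have hVF := V_le_F0 hE hF
  constructor
  · intro h v hv
    have h1 : cm g v = 1 := cm_eq_one.2 (mem_centralizer_iff.1 hv.2.1 g h)
    have hvF := hVF hv
    have h2 := a2_cm_F0 (co := co) hg.1 hvF.1 hvF.2.1 hvF.2.2.1 hvF.2.2.2
    have h4 := a4_cm_F0 (co := co) hg.1 hvF.1 hvF.2.1 hvF.2.2.1 hvF.2.2.2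
    rw [h1, cx_one] at h2 h4
    rw [hg.2, zero_mul, zero_add] at h4
    exact ⟨h2.symm, h4.symm⟩
  · intro h
    rw [← inf_centralizer hE hF hv₀ h3]
    refine mem_inf.2 ⟨hg.1, mem_centralizer_iff.2 fun v hv => ?_⟩
    have hv' : v ∈ omegaZ D := hv
    have hvF := hVF hv'
    obtain ⟨h1, h2⟩ := h v hv'
    have hcm := cm_mem_E2 (co := co) hg.1 hvF
    have h5 : cm g v = 1 := by
      refine eq_one_of_cx (co := co) hcm.1 hcm.2.1 ?_ hcm.2.2.1 ?_ hcm.2.2.2.1 hcm.2.2.2.2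
      · rw [a2_cm_F0 hg.1 hvF.1 hvF.2.1 hvF.2.2.1 hvF.2.2.2, h1]
      · rw [a4_cm_F0 hg.1 hvF.1 hvF.2.1 hvF.2.2.1 hvF.2.2.2, hg.2, zero_mul, zero_add, h2]
    exact (cm_eq_one.1 h5).symm

/-- In step 3a, `V = E2`. -/
theorem V_eq_E2 [Finite F] [Finite K] : omegaZ D = E2 co := by
  refine le_antisymm ?_ (E2_le_V hE hF hDb)
  by_contra hcon
  obtain ⟨v₀, hv₀, hv₀E⟩ := SetLike.not_le_iff_exists.1 hcon
  have hVF := V_le_F0 hE hF
  have hEV := E2_le_V hE hF hDb
  have hDP : D ≤ P := hE.lt.le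
  have h3 : (cx co v₀).a3 ≠ 0 := fun h => hv₀E ⟨(hVF hv₀).1, (hVF hv₀).2.1, h, (hVF hv₀).2.2⟩
  have hmem := fun {g : G} (hg : g ∈ Db co) => mem_D_iff hE hF hDb hv₀ h3 hg
  have hDbN := Db_le_N hE hF hDb
  have hCs : ∀ {g : G}, g ∈ (P : Subgroup G) → (g ∈ Cs (sec_omegaZ D) ↔ g ∈ D) := fun hg =>
    mem_Cs_iff hE hF hv₀ h3 hg
  have hCsV : ∀ {n v : G}, n ∈ Cs (sec_omegaZ D) → v ∈ omegaZ D → n * v * n⁻¹ = v := fun hn hv =>
    conj_eq_of_mem_Cs hn hv
  have hCsN : Cs (sec_omegaZ D) ≤ normalizer (D : Set G) := fun _ h => h.1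
  have hCsE : Cs (sec_omegaZ D) ≤ normalizer ((E2 co : Subgroup G) : Set G) :=
    le_normalizer_of fun n hn e he => by rw [hCsV hn (hEV he)]; exact he
  have hDE : D ≤ normalizer ((E2 co : Subgroup G) : Set G) :=
    le_normalizer_of fun n hn e he => by
      rw [conj_eq_cm_mul, cm_Db_E2 (hDb hn) he, one_mul]; exact he
  obtain ⟨b, hb, hbN, hbb, hbv⟩ := exists_b hE hF hv₀ h3
  have hbC : b ∉ Cs (sec_omegaZ D) := fun h => hbv (mul_inv_eq_iff_eq_mul.1 (hCsV h hv₀))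
  -- (RED)
  have hrel : RelSE H (Cs (sec_omegaZ D)) D := by
    refine relSE' P.isPGroup' hE (sec_omegaZ D) hb.1 hbN hbb hbC ?_
    have hF0Y : F0 co ≤ cenMod D D (E2 co) hDE := fun f hf =>
      ⟨hF hf, fun d hd => cm_inv_swap_mem (cm_mem_E2 (hDP hd) hf)⟩
    refine RStab.step (B := cenMod D D (E2 co) hDE) cenMod_le
      (fun n hn d hd => conj_mem_of_le (K := D) le_rfl (hCsN hn) hd)
      (Or.inl fun d hd => hF0Y (cm_inv_swap_mem (cm_mem_F0 (hDP hd) hb))) ?_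
    refine RStab.step (B := omegaZ D) (hVF.trans hF0Y)
      (fun n hn d hd => conj_mem_of_le (le_normalizer_cenMod hCsN hCsN hCsE) hn hd)
      (Or.inl fun g hg => ?_) ?_
    · -- `[Y, b] ≤ V`
      have hgDb := hDb hg.1
      have hf : cm b g ∈ F0 co := cm_inv_swap_mem (cm_mem_F0 hgDb.1 hb)
      have ha3 : (cx co (cm b g)).a3 = C.cr (cx co g).a1 (cx co b).a5 := by
        rw [a3_cm_Db hb.1 hgDb.1 hb.2.2 hgDb.2, hb.2.1, C.cr_zero_left, zero_add]
      -- `x5 u ∈ D` for `u` a coordinate of `D`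
      have hu : ∀ u : K, (∀ v ∈ omegaZ D, C.T u (cx co v).a3 = 0) → C.cr (cx co g).a1 u = 0 := by
        intro u hu
        obtain ⟨y, hy, hyc⟩ := exists_cx (co := co) ⟨0, 0, 0, 0, u, 0⟩
        have hy' : y ∈ Db co := ⟨hy, by rw [hyc]⟩
        have hyD : y ∈ D := (hmem hy').2 fun v hv => by
          rw [hyc]; exact ⟨C.T_zero_left _, hu v hv⟩
        have h1 := (hg.2 y hyD).2.2.1
        rw [a3_cm_Db hgDb.1 hy hgDb.2 hy'.2, hyc, C.cr_zero_left, add_zero] at h1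
        exact h1
      refine ⟨hF hf, mem_centralizer_iff.2 fun d hd => ?_, sq_F0 hf⟩
      have hdDb := hDb hd
      have hd' := (hmem hdDb).1 hd
      have hcm := cm_mem_E2 (co := co) hdDb.1 hf
      have h5 : cm d (cm b g) = 1 := by
        refine eq_one_of_cx (co := co) hcm.1 hcm.2.1 ?_ hcm.2.2.1 ?_ hcm.2.2.2.1 hcm.2.2.2.2
        · rw [a2_cm_F0 hdDb.1 hf.1 hf.2.1 hf.2.2.1 hf.2.2.2, ha3, ← C.T_cr, C.cr_comm,
            hu _ (fun v hv => (hd' v hv).1), C.T_zero_left]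
        · rw [a4_cm_F0 hdDb.1 hf.1 hf.2.1 hf.2.2.1 hf.2.2.2, hdDb.2, zero_mul, zero_add, ha3, ← C.T_cr, C.cr_comm,
            hu _ (fun v hv => (hd' v hv).2), C.T_zero_left]
      exact cm_eq_one.1 h5
    · refine RStab.step (B := ⊥) bot_le (fun n hn d hd => ?_) (Or.inr fun n hn d hd => ?_) RStab.bot
      · rw [hCsV hn hd]; exact hd
      · rw [mem_bot]
        exact mul_inv_eq_one.2 (hCsV hn hd)
  obtain ⟨x, hx, hxH⟩ := hrel.1
  -- (SE)
  have hel : ∀ (t s : K), ∃ y ∈ Db co, ∀ a ∈ F0 co, (cx co (cm y a)).a2 = C.T t (cx co a).a3 ∧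
      (cx co (cm y a)).a4 = C.T s (cx co a).a3 := by
    intro t s
    obtain ⟨y, hy, hyc⟩ := exists_cx (co := co) ⟨t, 0, 0, 0, s, 0⟩
    refine ⟨y, ⟨hy, by rw [hyc]⟩, fun a ha => ⟨?_, ?_⟩⟩
    · rw [a2_cm_F0 hy ha.1 ha.2.1 ha.2.2.1 ha.2.2.2, hyc]
    · rw [a4_cm_F0 hy ha.1 ha.2.1 ha.2.2.1 ha.2.2.2, hyc, zero_mul, zero_add]
  obtain ⟨-, -, -, s4, s5⟩ := sec_se (T := Db co) (Z1 := E2 co) (C1 := E2 co) hE (sec_omegaZ D) hrel Db_le hDbN
    bot_le (fun a => by
      constructor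
      · intro ha
        refine ⟨hEV ha, fun t ht => ?_⟩
        rw [mem_bot]
        exact cm_Db_E2 ht ha
      · rintro ⟨ha, hat⟩
        have haF := hVF ha
        refine ⟨haF.1, haF.2.1, ?_, haF.2.2⟩
        apply C.T_nondeg
        intro s
        obtain ⟨t, ht, ht'⟩ := hel 0 s
        have h1 := hat t ht
        rw [mem_bot] at h1
        have h2 := (ht' a haF).2
        unfold cm at h2
        rw [h1, cx_one, C.T_comm] at h2
        exact h2.symm) le_rfl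
    (fun t ht a ha => cm_mem_E2 ht.1 (hVF ha))
    (fun a ha haE z hz => by
      have haF := hVF ha
      have h3a : (cx co a).a3 ≠ 0 := fun h => haE ⟨haF.1, haF.2.1, h, haF.2.2⟩
      obtain ⟨t, ht⟩ := C.exists_T_eq h3a (cx co z).a2
      obtain ⟨s, hs⟩ := C.exists_T_eq h3a (cx co z).a4
      obtain ⟨y, hy, hy'⟩ := hel t s
      refine ⟨y, hy, ?_⟩
      rw [mem_bot, mul_inv_eq_one]
      have h1 := cm_mem_E2 (co := co) hy.1 haF
      obtain ⟨h2, h4⟩ := hy' a haF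
      rw [C.T_comm, ht] at h2
      rw [C.T_comm, hs] at h4
      apply cx_inj (co := co) h1.1 hz.1
      refine Tup.ext ?_ ?_ ?_ ?_ ?_ ?_
      · exact h1.2.1.trans hz.2.1.symm
      · exact h2
      · exact h1.2.2.1.trans hz.2.2.1.symm
      · exact h4
      · exact h1.2.2.2.1.trans hz.2.2.2.1.symm
      · exact h1.2.2.2.2.trans hz.2.2.2.2.symm)
    ⟨v₀, hv₀, fun h => h3 h.2.2.1⟩ hx hxH
  have hDeq : Db co ⊓ Cs (sec_omegaZ D) = D := by
    ext g
    constructor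
    · rintro ⟨h1, h2⟩
      exact (hCs h1.1).1 h2
    · intro h1
      exact mem_inf.2 ⟨hDb h1, (hCs (hDP h1)).2 h1⟩
  rw [hDeq, relIndex_bot_left, card_E2] at s4
  rw [relIndex_bot_left, relIndex_bot_left, card_E2] at s5
  have e1 := card_mul_relIndex' hDb
  rw [s4, card_Db] at e1
  -- the span of the `a3`-coordinates of `V` and its orthogonal space
  set U : Submodule F K := Submodule.span F ((fun v : G => (cx co v).a3) '' (omegaZ D : Set G)) with hU
  set U0 := (TB C).orthogonal U with hU0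
  have hcard := card_mul_card_orthogonal (TB C) (TB_nondegenerate C) U
  have hmemU0 : ∀ u : K, (∀ v ∈ omegaZ D, C.T u (cx co v).a3 = 0) → u ∈ U0 := by
    intro u hu
    rw [hU0, LinearMap.BilinForm.mem_orthogonal_iff]
    intro w hw
    change C.T w u = 0
    induction hw using Submodule.span_induction with
    | mem w hw =>
      obtain ⟨v, hv, rfl⟩ := hw
      rw [C.T_comm]; exact hu v hv
    | zero => exact C.T_zero_left _
    | add a b _ _ ha hb => rw [C.T_add_left, ha, hb, add_zero]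
    | smul f a _ ha => rw [C.T_smul_left, ha, mul_zero]
  have hDcard : Nat.card D ≤ Nat.card U0 * Nat.card U0 * (Nat.card F ^ 2 * Nat.card K) := by
    rw [pow_two, ← Nat.card_prod, ← Nat.card_prod, ← Nat.card_prod, ← Nat.card_prod]
    have hc : ∀ d : D, (cx co (d : G)).a1 ∈ U0 ∧ (cx co (d : G)).a5 ∈ U0 := fun d =>
      ⟨hmemU0 _ fun v hv => ((hmem (hDb d.2)).1 d.2 v hv).1, hmemU0 _ fun v hv => ((hmem (hDb d.2)).1 d.2 v hv).2⟩
    refine Nat.card_le_card_of_injective (fun d : D =>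
      (((⟨_, (hc d).1⟩ : U0), (⟨_, (hc d).2⟩ : U0)), (((cx co (d : G)).a2, (cx co (d : G)).a4), (cx co (d : G)).a3))) ?_
    intro a b hab
    simp only [Prod.mk.injEq, Subtype.mk.injEq] at hab
    obtain ⟨⟨e1, e5⟩, ⟨⟨e2, e4⟩, e3⟩⟩ := hab
    apply Subtype.ext
    apply cx_inj (co := co) (hDP a.2) (hDP b.2)
    exact Tup.ext e1 e2 e3 e4 e5 (by rw [(hDb a.2).2, (hDb b.2).2])
  have hVcard : Nat.card (omegaZ D) ≤ Nat.card U * Nat.card F ^ 2 := by
    rw [pow_two, ← Nat.card_prod, ← Nat.card_prod]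
    refine Nat.card_le_card_of_injective (fun d : omegaZ D =>
      ((⟨(cx co (d : G)).a3, Submodule.subset_span ⟨d, d.2, rfl⟩⟩ : U), ((cx co (d : G)).a2, (cx co (d : G)).a4))) ?_
    intro a b hab
    simp only [Prod.mk.injEq, Subtype.mk.injEq] at hab
    obtain ⟨e3, ⟨e2, e4⟩⟩ := hab
    have haF := hVF a.2
    have hbF := hVF b.2
    apply Subtype.ext
    apply cx_inj (co := co) haF.1 hbF.1
    exact Tup.ext (haF.2.1.trans hbF.2.1.symm) e2 e3 e4 (haF.2.2.1.trans hbF.2.2.1.symm)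
      (haF.2.2.2.trans hbF.2.2.2.symm)
  -- numerical contradiction
  have hq : 1 < Nat.card F := Finite.one_lt_card
  have hQ : 0 < Nat.card K := Nat.card_pos
  have hu0 : 0 < Nat.card U0 := Nat.card_pos
  have hq2 : 0 < Nat.card F ^ 2 := by positivity
  set q := Nat.card F
  set Q := Nat.card K
  set u := Nat.card U
  set u0 := Nat.card U0
  have f1 : q ^ 2 ≤ u := by
    have : q ^ 2 * q ^ 2 ≤ q ^ 2 * u := by
      calc q ^ 2 * q ^ 2 ≤ Nat.card (omegaZ D) := s5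
        _ ≤ u * q ^ 2 := hVcard
        _ = q ^ 2 * u := mul_comm _ _
    exact Nat.le_of_mul_le_mul_left this hq2
  have f2 : Q * Q ≤ (u0 * q) * (u0 * q) := by
    have h1 : (q ^ 2 * Q) * (Q * Q) ≤ (q ^ 2 * Q) * ((u0 * q) * (u0 * q)) := by
      calc (q ^ 2 * Q) * (Q * Q) = Q * Q * (q ^ 2 * Q) := by ring
        _ = Nat.card D * q ^ 2 := e1.symm
        _ ≤ (u0 * u0 * (q ^ 2 * Q)) * q ^ 2 := Nat.mul_le_mul_right _ hDcard
        _ = (q ^ 2 * Q) * ((u0 * q) * (u0 * q)) := by ring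
    exact Nat.le_of_mul_le_mul_left h1 (by positivity)
  have f3 : Q ≤ u0 * q := Nat.mul_self_le_mul_self_iff.1 f2
  have f4 : q * (q * u0) ≤ 1 * (q * u0) := by
    calc q * (q * u0) = q ^ 2 * u0 := by ring
      _ ≤ u * u0 := Nat.mul_le_mul_right _ f1
      _ = Q := hcard
      _ ≤ u0 * q := f3
      _ = 1 * (q * u0) := by ring
  have f5 : q ≤ 1 := Nat.le_of_mul_le_mul_right f4 (by positivity)
  omega

theorem N_le_NE2 [Finite F] [Finite K] : normalizer (D : Set G) ≤ normalizer ((E2 co : Subgroup G) : Set G) := by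
  rw [← V_eq_E2 hE hF hDb]
  exact le_normalizer_of fun n hn v hv => omegaZ_conj hn hv

/-- If `N(D)` normalizes `F0` then `Db ≤ D`. -/
theorem Db_le_of [Finite F] [Finite K]
    (hN : normalizer (D : Set G) ≤ normalizer ((F0 co : Subgroup G) : Set G)) : Db co ≤ D := by
  intro x hx
  refine mem_of_stab ⟨H, hE⟩ ?_ hx.1 (Db_le_N hE hF hDb hx)
  refine Stab.step (B := F0 co) hF le_rfl (fun e he => cm_mem_F0_of_Db hx (hDb he)) ?_
  refine Stab.step (B := E2 co) E2_le_F0 hN (fun e he => cm_mem_E2 hx.1 he) ?_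
  refine Stab.step (B := ⊥) bot_le (N_le_NE2 hE hF hDb) (fun e he => ?_) Stab.bot
  rw [mem_bot]
  exact cm_Db_E2 hx he

/-- The case `t × s = 0` for all `t, s`. -/
theorem Db_le_of_cr_eq_zero [Finite F] [Finite K] (hcr : ∀ a b : K, C.cr a b = 0) : Db co ≤ D := by
  intro x hx
  refine mem_of_stab ⟨H, hE⟩ ?_ hx.1 (Db_le_N hE hF hDb hx)
  refine Stab.step (B := E2 co) (E2_le_F0.trans hF) le_rfl (fun e he => ?_) ?_
  · have h1 := cm_mem_F0_of_Db hx (hDb he)
    refine ⟨h1.1, h1.2.1, ?_, h1.2.2⟩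
    change (cx co (cm x e)).a3 = 0
    rw [a3_cm_Db hx.1 (hDb he).1 hx.2 (hDb he).2, hcr, hcr, add_zero]
  · refine Stab.step (B := ⊥) bot_le (N_le_NE2 hE hF hDb) (fun e he => ?_) Stab.bot
    rw [mem_bot]
    exact cm_Db_E2 hx he

/-- The elements of `D` commuting with `D` modulo `E2` whose square is in `E2`. -/
def Y1 (D E : Subgroup G) (hDE : D ≤ normalizer (E : Set G)) : Subgroup G where
  carrier := {g | g ∈ D ∧ (∀ d ∈ D, cm g d ∈ E) ∧ g * g ∈ E}
  one_mem' := ⟨one_mem _, fun d _ => by unfold cm; simp [one_mem], by simp [one_mem]⟩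
  mul_mem' := by
    rintro g h ⟨hg, hgd, hgg⟩ ⟨hh, hhd, hhh⟩
    have h1 : g * h ∈ cenMod D D E hDE := mul_mem (show g ∈ cenMod D D E hDE from ⟨hg, hgd⟩) ⟨hh, hhd⟩
    refine ⟨h1.1, h1.2, ?_⟩
    have e : g * h * (g * h) = (g * cm h g * g⁻¹) * (g * g) * (h * h) := by unfold cm; group
    rw [e]
    exact mul_mem (mul_mem (conj_mem_of_le hDE hg (hhd g hg)) hgg) hhh
  inv_mem' := by
    rintro g ⟨hg, hgd, hgg⟩
    have h1 : g⁻¹ ∈ cenMod D D E hDE := inv_mem (show g ∈ cenMod D D E hDE from ⟨hg, hgd⟩)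
    refine ⟨h1.1, h1.2, ?_⟩
    rw [← mul_inv_rev]
    exact inv_mem hgg

omit hE hF hDb in
omit [Finite G] in
theorem le_normalizer_Y1 {N D E : Subgroup G} {hDE : D ≤ normalizer (E : Set G)}
    (hD : N ≤ normalizer (D : Set G)) (hE : N ≤ normalizer (E : Set G)) :
    N ≤ normalizer ((Y1 D E hDE : Subgroup G) : Set G) := by
  refine le_normalizer_of fun n hn x hx => ?_
  have h1 : n * x * n⁻¹ ∈ cenMod D D E hDE :=
    conj_mem_of_le (le_normalizer_cenMod hD hD hE) hn ⟨hx.1, hx.2.1⟩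
  refine ⟨h1.1, h1.2, ?_⟩
  have e : n * x * n⁻¹ * (n * x * n⁻¹) = n * (x * x) * n⁻¹ := by group
  rw [e]
  exact conj_mem_of_le hE hn hx.2.2

omit hE hF hDb in
/-- A pair with `t × s = 0` has a direction. -/
theorem exists_dir (hC : Reg C) {t s : K} (hts : t ≠ 0 ∨ s ≠ 0) (h : C.cr t s = 0) :
    ∃ (k : K) (α β : F), k ≠ 0 ∧ (α ≠ 0 ∨ β ≠ 0) ∧ t = α • k ∧ s = β • k := by
  by_cases ht : t = 0
  · exact ⟨s, 0, 1, hts.resolve_left fun h => h ht, Or.inr one_ne_zero, by rw [ht, zero_smul], by rw [one_smul]⟩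
  · obtain ⟨f, hf⟩ := exists_smul_of_cr_eq_zero hC ht h
    exact ⟨t, 1, f, ht, Or.inl one_ne_zero, by rw [one_smul], hf⟩

/-- The case `|F|² < |K|`. -/
theorem RR_le_of_card_lt [Finite F] [Finite K] (hC : Reg C) (hFK : Nat.card F ^ 2 < Nat.card K) : RR co ≤ D := by
  by_contra hR
  have hDP : D ≤ P := hE.lt.le
  have hFK1 : Nat.card F < Nat.card K := by
    have : 1 < Nat.card F := Finite.one_lt_card
    nlinarith
  set N := normalizer (D : Set G) with hN
  have hDN : D ≤ N := le_normalizer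
  have hNE : N ≤ normalizer ((E2 co : Subgroup G) : Set G) := N_le_NE2 hE hF hDb
  have hDbN := Db_le_N hE hF hDb
  have hDE : D ≤ normalizer ((E2 co : Subgroup G) : Set G) := hDN.trans hNE
  have hNF : ¬ N ≤ normalizer ((F0 co : Subgroup G) : Set G) := fun h =>
    hR (RR_le_Db.trans (Db_le_of hE hF hDb h))
  have hVE := V_eq_E2 hE hF hDb
  set Y : Subgroup G := Y1 D (E2 co) hDE with hY
  have hNY : N ≤ normalizer (Y : Set G) := le_normalizer_Y1 le_rfl hNE
  have hYD : Y ≤ D := fun _ h => h.1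
  have hF0Y : F0 co ≤ Y := fun f hf =>
    ⟨hF hf, fun d hd => cm_inv_swap_mem (cm_mem_E2 (hDP hd) hf), by
      have := sq_F0 (co := co) hf
      rw [this]; exact one_mem _⟩
  -- `K`-component of a commutator in `Db`
  have ha3 : ∀ g ∈ Db co, ∀ h ∈ Db co, (cx co (cm g h)).a3 =
      C.cr (cx co g).a1 (cx co h).a5 + C.cr (cx co h).a1 (cx co g).a5 := fun g hg h hh =>
    a3_cm_Db hg.1 hh.1 hg.2 hh.2
  have hE2 : ∀ g ∈ Db co, ∀ h ∈ Db co, (cm g h ∈ E2 co ↔ (cx co (cm g h)).a3 = 0) := by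
    intro g hg h hh
    have h1 := cm_mem_F0_of_Db hg hh
    exact ⟨fun h => h.2.2.1, fun h => ⟨h1.1, h1.2.1, h, h1.2.2⟩⟩
  by_cases hYF : Y ≤ F0 co
  · have heq : Y = F0 co := le_antisymm hYF hF0Y
    exact hNF (heq ▸ hNY)
  obtain ⟨y₀, hy₀, hy₀F⟩ := SetLike.not_le_iff_exists.1 hYF
  have hy₀D := hYD hy₀
  have hy₀Db := hDb hy₀D
  have hsq : ∀ y ∈ Y, C.cr (cx co y).a1 (cx co y).a5 = 0 := by
    intro y hy
    rw [← a3_sq_Db (co := co) (hDb (hYD hy)).1 (hDb (hYD hy)).2]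
    exact hy.2.2.2.2.1
  obtain ⟨k₀, α, β, hk₀, hαβ, ht₀, hs₀⟩ := exists_dir hC (t := (cx co y₀).a1) (s := (cx co y₀).a5) (by
    by_contra hcon
    push Not at hcon
    exact hy₀F ⟨hy₀Db.1, hcon.1, hcon.2, hy₀Db.2⟩) (hsq y₀ hy₀)
  -- the transversal component
  let lam : G → K := fun g => α • (cx co g).a5 + β • (cx co g).a1
  -- commutators with an element of direction `(α, β)`
  have hcr : ∀ y ∈ Db co, ∀ k : K, (cx co y).a1 = α • k → (cx co y).a5 = β • k → ∀ g ∈ Db co,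
      (cx co (cm g y)).a3 = C.cr k (lam g) := by
    intro y hy k h1 h5 g hg
    rw [ha3 g hg y hy, h1, h5, cr_smul_right, cr_smul_left]
    simp only [lam]
    rw [C.cr_add_right, cr_smul_right, cr_smul_right, C.cr_comm (cx co g).a1 k]
    ring
  -- elements with given transversal component
  have hlam : ∀ w : K, ∃ b ∈ Db co, lam b = w := by
    intro w
    rcases hαβ with h | h
    · obtain ⟨b, hb, hbc⟩ := exists_cx (co := co) ⟨0, 0, 0, 0, α⁻¹ • w, 0⟩
      refine ⟨b, ⟨hb, by rw [hbc]⟩, ?_⟩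
      simp only [lam]
      rw [hbc, smul_zero, add_zero, smul_smul, mul_inv_cancel₀ h, one_smul]
    · obtain ⟨b, hb, hbc⟩ := exists_cx (co := co) ⟨β⁻¹ • w, 0, 0, 0, 0, 0⟩
      refine ⟨b, ⟨hb, by rw [hbc]⟩, ?_⟩
      simp only [lam]
      rw [hbc, smul_zero, zero_add, smul_smul, mul_inv_cancel₀ h, one_smul]
  -- elements without transversal component
  have hdir : ∀ g : G, lam g = 0 → ∃ k : K, (cx co g).a1 = α • k ∧ (cx co g).a5 = β • k := by
    intro g hg
    have h1 : α • (cx co g).a5 = β • (cx co g).a1 := C.eq_of_add_eq_zeroK hg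
    rcases hαβ with h | h
    · refine ⟨α⁻¹ • (cx co g).a1, ?_, ?_⟩
      · rw [smul_smul, mul_inv_cancel₀ h, one_smul]
      · rw [smul_smul, mul_comm, ← smul_smul, ← h1, smul_smul, inv_mul_cancel₀ h, one_smul]
    · refine ⟨β⁻¹ • (cx co g).a5, ?_, ?_⟩
      · rw [smul_smul, mul_comm, ← smul_smul, h1, smul_smul, inv_mul_cancel₀ h, one_smul]
      · rw [smul_smul, mul_inv_cancel₀ h, one_smul]
  have hsec : Sec D Y (E2 co) :=
    { le := E2_le_F0.trans hF0Y
      leX := hYD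
      inv := fun n hn a ha => conj_mem_of_le hNY hn ha
      inv0 := fun n hn a ha => conj_mem_of_le hNE hn ha
      sq := fun a ha => ha.2.2
      cen := fun x hx a ha => cm_inv_swap_mem (ha.2.1 x hx) }
  obtain ⟨w₀, hw₀⟩ := exists_cr_ne_zero hC hFK1 hk₀
  obtain ⟨b, hb, hbw⟩ := hlam w₀
  have hbN := hDbN hb
  have hsqDb : ∀ g ∈ Db co, g * g ∈ D := by
    intro g hg
    apply hF
    refine ⟨mul_mem hg.1 hg.1, a1_sq hg.1, ?_, a6_sq hg.1⟩
    rw [a5_sq hg.1, hg.2, zero_smul]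
  have hbb : b * b ∈ K0 D := (le_sup_left : D ≤ K0 D) (hsqDb b hb)
  have hbC : b ∉ Cs hsec := by
    intro h
    have h1 : cm b y₀ ∈ E2 co := h.2 y₀ hy₀
    rw [hE2 b hb y₀ hy₀Db, hcr y₀ hy₀Db k₀ ht₀ hs₀ b hb, hbw] at h1
    exact hw₀ h1
  have hCs : ∀ {g : G}, g ∈ (P : Subgroup G) → (g ∈ Cs hsec ↔ g ∈ D) := fun hg =>
    ⟨fun h => mem_of_mem_Cs P.isPGroup' hE hsec hb.1 hbN hbb hbC hg h,
      fun h => K0_le_Cs _ ((le_sup_left : D ≤ K0 D) h)⟩
  have hrel : RelSE H (Cs hsec) D := by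
    refine relSE' P.isPGroup' hE hsec hb.1 hbN hbb hbC ?_
    have hCsN : Cs hsec ≤ N := fun _ h => h.1
    refine RStab.step (B := Y) hYD (fun n hn d hd => conj_mem_of_le (K := D) le_rfl (hCsN hn) hd)
      (Or.inl fun d hd => hF0Y (cm_mem_F0_of_Db hb (hDb hd))) ?_
    refine RStab.step (B := E2 co) (E2_le_F0.trans hF0Y) (fun n hn d hd => conj_mem_of_le hNY (hCsN hn) hd)
      (Or.inr fun n hn d hd => hn.2 d hd) ?_
    refine RStab.step (B := ⊥) bot_le (fun n hn d hd => conj_mem_of_le hNE (hCsN hn) hd)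
      (Or.inl fun d hd => ?_) RStab.bot
    rw [mem_bot]
    exact cm_Db_E2 hb hd
  -- the coordinates of `D` span `K`
  have hspan : ∀ κ : K, (∀ d ∈ D, C.T (cx co d).a1 κ = 0 ∧ C.T (cx co d).a5 κ = 0) → κ = 0 := by
    intro κ hκ
    obtain ⟨y, hy, hyc⟩ := exists_cx (co := co) ⟨0, 0, κ, 0, 0, 0⟩
    have hy' : y ∈ F0 co := ⟨hy, by rw [hyc], by rw [hyc], by rw [hyc]⟩
    have hyV : y ∈ omegaZ D := by
      refine ⟨hF hy', mem_centralizer_iff.2 fun d hd => ?_, sq_F0 hy'⟩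
      have hcm := cm_mem_E2 (co := co) (hDP hd) hy'
      have h5 : cm d y = 1 := by
        refine eq_one_of_cx (co := co) hcm.1 hcm.2.1 ?_ hcm.2.2.1 ?_ hcm.2.2.2.1 hcm.2.2.2.2
        · rw [a2_cm_F0 (hDP hd) hy hy'.2.1 hy'.2.2.1 hy'.2.2.2, hyc, (hκ d hd).1]
        · rw [a4_cm_F0 (hDP hd) hy hy'.2.1 hy'.2.2.1 hy'.2.2.2, hyc, (hDb hd).2, zero_mul, zero_add,
            (hκ d hd).2]
      exact cm_eq_one.1 h5
    rw [hVE] at hyV
    have := hyV.2.2.1
    rwa [hyc] at this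
  -- `λ(D) ⊆ F k` for all `k` occurring in `Y`
  have hlamD : ∀ d ∈ D, C.cr k₀ (lam d) = 0 := by
    intro d hd
    rw [← hcr y₀ hy₀Db k₀ ht₀ hs₀ d (hDb hd)]
    exact (cm_inv_swap_mem (hy₀.2.1 d hd)).2.2.1
  -- one direction
  have hlamY : ∀ y ∈ Y, lam y = 0 := by
    intro y hy
    by_contra hne
    have hyD := hYD hy
    obtain ⟨f, hf⟩ := exists_smul_of_cr_eq_zero hC hk₀ (hlamD y hyD)
    obtain ⟨k, a, c, hk, -, hta, hsc⟩ := exists_dir hC (t := (cx co y).a1) (s := (cx co y).a5) (by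
      by_contra hcon
      push Not at hcon
      apply hne
      simp only [lam]
      rw [hcon.1, hcon.2, smul_zero, smul_zero, add_zero]) (hsq y hy)
    have hdet : lam y = (α * c + β * a) • k := by
      simp only [lam]
      rw [hta, hsc, add_smul, mul_smul, mul_smul]
    have hdet0 : α * c + β * a ≠ 0 := by
      intro h0
      rw [h0, zero_smul] at hdet
      exact hne hdet
    -- `k = e • k₀`
    have hkk : k = ((α * c + β * a)⁻¹ * f) • k₀ := by
      rw [mul_smul, ← hf, hdet, smul_smul, inv_mul_cancel₀ hdet0, one_smul]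
    set e := (α * c + β * a)⁻¹ * f with he
    have he0 : e ≠ 0 := by
      rintro h0
      rw [h0, zero_smul] at hkk
      exact hk hkk
    -- both components of elements of `D` are multiples of `k₀`
    have hcomp : ∀ d ∈ D, C.cr k₀ (cx co d).a1 = 0 ∧ C.cr k₀ (cx co d).a5 = 0 := by
      intro d hd
      have h1 := hlamD d hd
      simp only [lam] at h1
      rw [C.cr_add_right, cr_smul_right, cr_smul_right] at h1
      have h2 : (cx co (cm d y)).a3 = 0 := (cm_inv_swap_mem (hy.2.1 d hd)).2.2.1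
      rw [ha3 d (hDb hd) y (hDb hyD), hta, hsc, hkk, smul_smul, smul_smul, cr_smul_right, cr_smul_left,
        C.cr_comm (cx co d).a1 k₀] at h2
      set A := C.cr k₀ (cx co d).a1
      set B := C.cr k₀ (cx co d).a5
      have h3 : c • A + a • B = 0 := by
        have : e • (c • A + a • B) = 0 := by
          rw [← h2, smul_add, smul_smul, smul_smul, mul_comm e c, mul_comm e a]
        exact (smul_eq_zero.1 this).resolve_left he0
      have h4 : (α * c + β * a) • A = 0 := by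
        have e1 : (α * c + β * a) • A = α • (c • A + a • B) + a • (α • B + β • A) := by
          rw [smul_add, smul_add, smul_smul, smul_smul, smul_smul, smul_smul, add_smul, mul_comm a α, mul_comm a β]
          have := C.add_selfK ((α * a) • B)
          linear_combination -this
        rw [e1, h3, h1, smul_zero, smul_zero, add_zero]
      have h5 : (α * c + β * a) • B = 0 := by
        have e1 : (α * c + β * a) • B = β • (c • A + a • B) + c • (α • B + β • A) := by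
          rw [smul_add, smul_add, smul_smul, smul_smul, smul_smul, smul_smul, add_smul, mul_comm c α, mul_comm c β]
          have := C.add_selfK ((β * c) • A)
          linear_combination -this
        rw [e1, h3, h1, smul_zero, smul_zero, add_zero]
      exact ⟨(smul_eq_zero.1 h4).resolve_left hdet0, (smul_eq_zero.1 h5).resolve_left hdet0⟩
    obtain ⟨κ, hκ, hκk⟩ := exists_T_eq_zero (C := C) hFK1 k₀
    apply hκ
    apply hspan
    intro d hd
    obtain ⟨h1, h5⟩ := hcomp d hd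
    obtain ⟨f1, hf1⟩ := exists_smul_of_cr_eq_zero hC hk₀ h1
    obtain ⟨f5, hf5⟩ := exists_smul_of_cr_eq_zero hC hk₀ h5
    rw [hf1, hf5, C.T_smul_left, C.T_smul_left, C.T_comm k₀, hκk, mul_zero, mul_zero]
    exact ⟨rfl, rfl⟩
  by_cases hA : ∀ y ∈ Y, ∀ k : K, (cx co y).a1 = α • k → (cx co y).a5 = β • k → ∃ f : F, k = f • k₀
  · -- Sub-case A
    obtain ⟨x, hx, hxH⟩ := hrel.1
    let Z1 : Subgroup G := mkSub co (fun a => a.a1 = 0 ∧ a.a5 = 0 ∧ a.a6 = 0 ∧ C.T k₀ a.a3 = 0)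
      ⟨rfl, rfl, rfl, C.T_zero_right _⟩ (by
        rintro a b ⟨a1, a5, a6, a3⟩ ⟨b1, b5, b6, b3⟩
        simp [Cubic.mul, a1, a5, a6, b1, b5, b6, C.cr_zero_left, C.T_add_right, a3, b3])
    have hZ1F : Z1 ≤ F0 co := fun _ h => ⟨h.1, h.2.1, h.2.2.1, h.2.2.2.1⟩
    have hEZ1 : E2 co ≤ Z1 := fun _ h => ⟨h.1, h.2.1, h.2.2.2.1, h.2.2.2.2, by
      change C.T k₀ (cx co _).a3 = 0
      rw [h.2.2.1, C.T_zero_right]⟩
    have hY : ∀ y ∈ Y, ∃ f : F, (cx co y).a1 = α • (f • k₀) ∧ (cx co y).a5 = β • (f • k₀) := by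
      intro y hy
      obtain ⟨k, h1, h5⟩ := hdir y (hlamY y hy)
      obtain ⟨f, rfl⟩ := hA y hy k h1 h5
      exact ⟨f, h1, h5⟩
    obtain ⟨-, -, -, -, s5⟩ := sec_se (T := Db co) (Z1 := Z1) (C1 := F0 co) hE hsec hrel Db_le hDbN
      hEZ1 (fun a => by
        constructor
        · intro ha
          exact ⟨hF0Y ha, fun t ht => cm_mem_E2 ht.1 ha⟩
        · rintro ⟨ha, hat⟩
          obtain ⟨k, h1, h5⟩ := hdir a (hlamY a ha)
          have haDb := hDb (hYD ha)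
          by_cases hk : k = 0
          · exact ⟨haDb.1, by rw [h1, hk, smul_zero], by rw [h5, hk, smul_zero], haDb.2⟩
          · exfalso
            obtain ⟨w, hw⟩ := exists_cr_ne_zero hC hFK1 hk
            obtain ⟨t, ht, htw⟩ := hlam w
            have h2 : cm t a ∈ E2 co := hat t ht
            rw [hE2 t ht a haDb, hcr a haDb k h1 h5 t ht, htw] at h2
            exact hw h2) hZ1F
      (fun t ht a ha => by
        obtain ⟨f, h1, h5⟩ := hY a ha
        have haDb := hDb (hYD ha)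
        have h2 := cm_mem_F0_of_Db ht haDb
        refine ⟨h2.1, h2.2.1, h2.2.2.1, h2.2.2.2, ?_⟩
        change C.T k₀ (cx co (cm t a)).a3 = 0
        rw [hcr a haDb _ h1 h5 t ht, cr_smul_left, C.T_smul_right, T_cr_self_left, mul_zero])
      (fun a ha haF z hz => by
        obtain ⟨f, h1, h5⟩ := hY a ha
        have haDb := hDb (hYD ha)
        have hf : f ≠ 0 := by
          rintro rfl
          rw [zero_smul, smul_zero] at h1 h5
          exact haF ⟨haDb.1, h1, h5, haDb.2⟩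
        obtain ⟨u, hu⟩ := exists_cr_eq hC hk₀ (u := (cx co z).a3) hz.2.2.2.2
        obtain ⟨t, ht, htw⟩ := hlam (f⁻¹ • u)
        refine ⟨t, ht, ?_⟩
        have hzF := hZ1F hz
        have h2 := cm_mem_F0_of_Db ht haDb
        have h3 : z⁻¹ = z := inv_eq_of_mul_eq_one_left (sq_F0 hzF)
        have h4 : cm t a * z⁻¹ ∈ F0 co := mul_mem h2 (inv_mem hzF)
        refine ⟨h4.1, h4.2.1, ?_, h4.2.2⟩
        change (cx co (cm t a * z⁻¹)).a3 = 0
        rw [h3, a3_mul h2.1 hzF.1, h2.2.2.2, hzF.2.1, zero_smul, C.cr_zero_left, hcr a haDb _ h1 h5 t ht, htw,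
          cr_smul_left, cr_smul_right, smul_smul, mul_inv_cancel₀ hf, one_smul, hu, C.add_selfK]
        simp)
      ⟨y₀, hy₀, hy₀F⟩ hx hxH
    -- cardinalities
    have e1 := card_mul_relIndex' hEZ1
    have e2 := card_mul_relIndex' (E2_le_F0 (co := co))
    have e3 := card_mul_relIndex' (E2_le_F0.trans hF0Y)
    have hZ1card : Nat.card Z1 = Nat.card F ^ 2 * Nat.card {κ : K // C.T k₀ κ = 0} := by
      rw [pow_two, ← Nat.card_prod, ← Nat.card_prod]
      refine Nat.card_congr ((mkSubEquiv co _ _ _).trans ?_)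
      exact
        { toFun := fun a => ((a.1.a2, a.1.a4), ⟨a.1.a3, a.2.2.2.2⟩)
          invFun := fun f => ⟨⟨0, f.1.1, f.2.1, f.1.2, 0, 0⟩, rfl, rfl, rfl, f.2.2⟩
          left_inv := by
            rintro ⟨⟨a1, a2, a3, a4, a5, a6⟩, h⟩
            simp only at h
            obtain ⟨rfl, rfl, rfl, h⟩ := h
            rfl
          right_inv := fun _ => rfl }
    have hYcard : Nat.card Y ≤ Nat.card F * (Nat.card F ^ 2 * Nat.card K) := by
      rw [pow_two, ← Nat.card_prod, ← Nat.card_prod, ← Nat.card_prod]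
      choose f hf1 hf5 using fun y : Y => hY y y.2
      refine Nat.card_le_card_of_injective (fun y : Y =>
        (f y, (((cx co (y : G)).a2, (cx co (y : G)).a4), (cx co (y : G)).a3))) ?_
      intro a b hab
      simp only [Prod.mk.injEq] at hab
      obtain ⟨e0, ⟨e2, e4⟩, e3⟩ := hab
      have haDb := hDb (hYD a.2)
      have hbDb := hDb (hYD b.2)
      apply Subtype.ext
      apply cx_inj (co := co) haDb.1 hbDb.1
      exact Tup.ext (by rw [hf1 a, hf1 b, e0]) e2 e3 e4 (by rw [hf5 a, hf5 b, e0]) (haDb.2.trans hbDb.2.symm)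
    rw [card_E2, hZ1card] at e1
    rw [card_E2, card_F0] at e2
    rw [card_E2] at e3
    have hr := card_T_ker (C := C) hk₀
    have hq : 1 < Nat.card F := Finite.one_lt_card
    have hQ : 0 < Nat.card K := Nat.card_pos
    have hq2 : 0 < Nat.card F ^ 2 := by positivity
    have e1' := Nat.eq_of_mul_eq_mul_left hq2 e1
    have e2' := Nat.eq_of_mul_eq_mul_left hq2 e2
    rw [e1', e2'] at s5
    set q := Nat.card F
    set Q := Nat.card K
    set r := Nat.card {κ : K // C.T k₀ κ = 0}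
    have e4 : r * Q ≤ q * Q := by
      have h1 : q ^ 2 * (r * Q) ≤ q ^ 2 * (q * Q) := by
        calc q ^ 2 * (r * Q) ≤ q ^ 2 * (E2 co).relIndex Y := Nat.mul_le_mul_left _ s5
          _ = Nat.card Y := e3
          _ ≤ q * (q ^ 2 * Q) := hYcard
          _ = q ^ 2 * (q * Q) := by ring
      exact Nat.le_of_mul_le_mul_left h1 hq2
    have e5 : r ≤ q := Nat.le_of_mul_le_mul_right e4 hQ
    have e6 : Q ≤ q ^ 2 := by
      rw [← hr, pow_two]
      exact Nat.mul_le_mul_right _ e5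
    omega
  · -- Sub-case B
    push Not at hA
    obtain ⟨y₁, hy₁, k₁, ht₁, hs₁, hk₁⟩ := hA
    have hlamD0 : ∀ d ∈ D, lam d = 0 := by
      intro d hd
      obtain ⟨f, hf⟩ := exists_smul_of_cr_eq_zero hC hk₀ (hlamD d hd)
      by_contra hne
      have hf0 : f ≠ 0 := by
        rintro rfl
        rw [zero_smul] at hf
        exact hne hf
      have h1 : C.cr k₁ (lam d) = 0 := by
        rw [← hcr y₁ (hDb (hYD hy₁)) k₁ ht₁ hs₁ d (hDb hd)]
        exact (cm_inv_swap_mem (hy₁.2.1 d hd)).2.2.1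
      rw [hf, cr_smul_right] at h1
      have h2 := (smul_eq_zero.1 h1).resolve_left hf0
      rw [C.cr_comm] at h2
      obtain ⟨f', hf'⟩ := exists_smul_of_cr_eq_zero hC hk₀ h2
      exact hk₁ f' hf'
    have hD_iff : ∀ g ∈ Db co, (g ∈ D ↔ lam g = 0) := by
      intro g hg
      refine ⟨hlamD0 g, fun h => ?_⟩
      rw [← hCs hg.1]
      refine ⟨hDbN hg, fun y hy => ?_⟩
      obtain ⟨k, h1, h5⟩ := hdir y (hlamY y hy)
      have hyDb := hDb (hYD hy)
      change cm g y ∈ E2 co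
      rw [hE2 g hg y hyDb, hcr y hyDb k h1 h5 g hg, h, C.cr_zero_right]
    have hα : α ≠ 0 := by
      intro h0
      apply hR
      intro r hr
      rw [hD_iff r (RR_le_Db hr)]
      simp only [lam]
      rw [h0, hr.2.1, zero_smul, smul_zero, add_zero]
    have hYD' : D ≤ Y := by
      intro d hd
      obtain ⟨k, h1, h5⟩ := hdir d (hlamD0 d hd)
      have hdDb := hDb hd
      refine ⟨hd, fun d' hd' => ?_, ?_⟩
      · refine cm_inv_swap_mem ?_
        rw [hE2 d' (hDb hd') d hdDb, hcr d hdDb k h1 h5 d' (hDb hd'), hlamD0 d' hd', C.cr_zero_right]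
      · have h2 : d * d ∈ F0 co := by
          refine ⟨mul_mem hdDb.1 hdDb.1, a1_sq hdDb.1, ?_, a6_sq hdDb.1⟩
          rw [a5_sq hdDb.1, hdDb.2, zero_smul]
        refine ⟨h2.1, h2.2.1, ?_, h2.2.2⟩
        change (cx co (d * d)).a3 = 0
        rw [a3_sq_Db hdDb.1 hdDb.2, h1, h5, cr_smul_left, cr_smul_right, C.cr_self, smul_zero, smul_zero]
    -- an element of `N` outside `H ⊔ Cs` not normalizing `F0`
    obtain ⟨x, hx, hxH, f, hf, hxf⟩ : ∃ x ∈ N, x ∉ H ⊔ Cs hsec ∧ ∃ f ∈ F0 co, x * f * x⁻¹ ∉ F0 co := by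
      by_contra hcon
      push Not at hcon
      apply hNF
      -- elements outside `H ⊔ Cs` normalize `F0`
      have h1 : ∀ x ∈ N, x ∉ H ⊔ Cs hsec → x ∈ normalizer ((F0 co : Subgroup G) : Set G) := by
        intro x hx hxH
        rw [Cfsg.Agent.Lib.GoldschmidtFusion.mem_normalizer_iff_map_conj]
        apply Cfsg.Agent.Lib.GoldschmidtFusion.map_conj_le_of_le_normalizer
        rintro _ ⟨f, hf, rfl⟩
        exact hcon x hx hxH f hf
      obtain ⟨x, hx, hxH⟩ := hrel.1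
      intro n hn
      by_cases hnH : n ∈ H ⊔ Cs hsec
      · have h2 : x * n ∉ H ⊔ Cs hsec := by
          intro h3
          apply hxH
          have := mul_mem h3 (inv_mem hnH)
          simpa using this
        have h3 := mul_mem (inv_mem (h1 x hx hxH)) (h1 _ (mul_mem hx hn) h2)
        simpa using h3
      · exact h1 n hn hnH
    set v := x * f * x⁻¹ with hv
    have hvD : v ∈ D := conj_mem_of_le (K := D) le_rfl hx (hF hf)
    have hvDb := hDb hvD
    obtain ⟨kv, hv1, hv5⟩ := hdir v (hlamD0 v hvD)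
    have hkv : kv ≠ 0 := by
      rintro rfl
      apply hxf
      exact ⟨hvDb.1, by rw [hv1, smul_zero], by rw [hv5, smul_zero], hvDb.2⟩
    -- `x5 s ∉ D` for `s ≠ 0`
    have hx5 : ∀ s : K, s ≠ 0 → ∃ t ∈ RR co, (cx co t).a5 = s ∧ t ∉ D := by
      intro s hs
      obtain ⟨t, ht, htc⟩ := exists_cx (co := co) ⟨0, 0, 0, 0, s, 0⟩
      have ht' : t ∈ RR co := ⟨ht, by rw [htc], by rw [htc]⟩
      refine ⟨t, ht', by rw [htc], fun h => ?_⟩
      have h1 := hlamD0 t h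
      simp only [lam] at h1
      rw [htc, smul_zero, add_zero] at h1
      rcases smul_eq_zero.1 h1 with h2 | h2
      · exact hα h2
      · exact hs h2
    -- `f ≡ [t', w]`
    obtain ⟨s', hs', hs'f⟩ := exists_T_eq_zero (C := C) hFK1 (cx co f).a3
    obtain ⟨u, hu⟩ := exists_cr_eq hC hs' hs'f
    obtain ⟨t', ht', ht'5, ht'D⟩ := hx5 s' hs'
    obtain ⟨w, hw, hwc⟩ := exists_cx (co := co) ⟨u, 0, 0, 0, (α⁻¹ * β) • u, 0⟩
    have hwDb : w ∈ Db co := ⟨hw, by rw [hwc]⟩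
    have hwD : w ∈ D := by
      rw [hD_iff w hwDb]
      simp only [lam]
      rw [hwc, smul_smul, ← mul_assoc, mul_inv_cancel₀ hα, one_mul, C.add_selfK]
    have hcmw : cm t' w * f⁻¹ ∈ E2 co := by
      have h1 := cm_mem_F0_of_Db (RR_le_Db ht') hwDb
      have h2 : f⁻¹ = f := inv_eq_of_mul_eq_one_left (sq_F0 hf)
      have h3 : cm t' w * f⁻¹ ∈ F0 co := mul_mem h1 (inv_mem hf)
      refine ⟨h3.1, h3.2.1, ?_, h3.2.2⟩
      change (cx co (cm t' w * f⁻¹)).a3 = 0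
      rw [h2, a3_mul h1.1 hf.1, h1.2.2.2, hf.2.1, zero_smul, C.cr_zero_left, ha3 t' (RR_le_Db ht') w hwDb,
        ht'.2.1, ht'5, hwc, C.cr_zero_left, C.cr_comm u s', hu, zero_add, C.add_selfK]
      simp
    obtain ⟨t, ht, ht5, htD⟩ := hx5 kv hkv
    have htP : t ∈ (P : Subgroup G) := ht.1
    have ht'P : t' ∈ (P : Subgroup G) := ht'.1
    obtain ⟨w', hw', hfin⟩ := sec_gp hE hsec hrel hx hxH htP (hDbN (RR_le_Db ht))
      ((hCs (mul_mem htP htP)).2 (hsqDb t (RR_le_Db ht))) (fun h => htD ((hCs htP).1 h))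
      ht'P (hDbN (RR_le_Db ht'))
      ((hCs (mul_mem ht'P ht'P)).2 (hsqDb t' (RR_le_Db ht'))) (fun h => ht'D ((hCs ht'P).1 h))
      (v := v) (w := x * w * x⁻¹) (hYD' hvD) (hYD' (conj_mem_of_le (K := D) le_rfl hx hwD)) (by
        have h1 := conj_mem_of_le hNE hx hcmw
        have e : x * (cm t' w * f⁻¹) * x⁻¹ =
            x * t' * x⁻¹ * (x * w * x⁻¹) * (x * t' * x⁻¹)⁻¹ * (x * w * x⁻¹)⁻¹ * v⁻¹ := by
          rw [hv]; unfold cm; group
        rwa [e] at h1) (by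
        change cm t v ∈ E2 co
        rw [hE2 t (RR_le_Db ht) v hvDb, hcr v hvDb kv hv1 hv5 t (RR_le_Db ht)]
        simp only [lam]
        rw [ht5, ht.2.1, smul_zero, add_zero, cr_smul_right, C.cr_self, smul_zero])
    have h1 : cm t w' * v⁻¹ ∈ E2 co := hfin
    have h2 : cm t w' ∈ F0 co := cm_mem_F0_of_Db (RR_le_Db ht) (hDb (hYD hw'))
    have h3 : v ∈ F0 co := by
      have e : v = (cm t w' * v⁻¹)⁻¹ * cm t w' := by group
      rw [e]
      exact mul_mem (inv_mem (E2_le_F0 h1)) h2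
    exact hxf h3

/-- **Step 3a**: if `F0 ≤ D ≤ Db` then `RR ≤ D`. -/
theorem RR_le_of_le_Db [Finite F] [Finite K] (hC : Reg C)
    (hdeg : (∀ a b : K, C.cr a b = 0) ∨ Nat.card F ^ 2 < Nat.card K) : RR co ≤ D := by
  rcases hdeg with hcr | hFK
  · exact RR_le_Db.trans (Db_le_of_cr_eq_zero hE hF hDb hcr)
  · exact RR_le_of_card_lt hE hF hDb hC hFK

omit hDb in
/-- **Step 3**: an essential subgroup containing `F0` contains `RR`. -/
theorem RR_le_of_F0_le [Finite F] [Finite K] (hC : Reg C)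
    (hdeg : (∀ a b : K, C.cr a b = 0) ∨ Nat.card F ^ 2 < Nat.card K) : RR co ≤ D := by
  by_contra hR
  exact hR (RR_le_of_le_Db hE hF (le_Db hE hF hC hR) hC hdeg)

omit hDb in
/-- **Steps 3 and 4**: an essential subgroup containing `F0` is `Da` or `Db`. -/
theorem eq_Da_or_eq_Db [Finite F] [Finite K] (hC : Reg C)
    (hdeg : (∀ a b : K, C.cr a b = 0) ∨ Nat.card F ^ 2 < Nat.card K) : D = Da co ∨ D = Db co :=
  Step4.eq_Da_or_eq_Db ⟨H, hE⟩ (RR_le_of_F0_le hE hF hC hdeg) hC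

end step3a

/-! ### Regularity of the cubic data of a pair -/

theorem reg_cubic {F K : Type*} [Field F] [Field K] [Algebra F K] {φ : K ≃ₐ[F] K}
    (h : Cfsg.Agent.Hex.Defs.CubicPair φ) : Reg (Cfsg.Agent.HexRec.OfPair.cubic h) := by
  intro b
  rw [OfPair.cubic_cr, OfPair.cubic_tr, Cfsg.Agent.Hex.Defs.algebraMap_tr h]
  unfold Cfsg.Agent.Hex.Defs.cr
  rw [map_one, map_one]
  have := h.two
  linear_combination (-b) * this

end Cfsg.Agent.HexEss.Step3
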