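import Mathlib
import Cfsg.Agent.HexEss.Step2
import Cfsg.Agent.HexEss.Step3a
import Cfsg.Agent.HexGlob.Spec

/-!
# The essential subgroups of a Sylow 2-subgroup of type `G₂(2^r)` or `³D₄(2^r)`

`eq_Da_or_eq_Db`: they are `Da` and `Db` (`|K| > 2`).  `gen_of_conj`: fusion is generated by `N(P)`, `N(Da)`, `N(Db)`.
-/

set_option autoImplicit false

namespace Cfsg.Agent.HexEss.Final

open Cfsg.Agent.HexRec Subgroup Cfsg.Agent.HexEss Cfsg.Agent.Lib.EssDefs Cfsg.Agent.HexGlob
open Cfsg.Agent.Lib.GoldschmidtFusion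

universe u v

variable {F K : Type v} [Field F] [Field K] [Algebra F K] {C : Cubic F K}

/-- `t × s = 0` if `K = F`. -/
theorem cr_eq_zero_of_surjective (hC : Reg C) (h : Function.Surjective (algebraMap F K)) (a b : K) :
    C.cr a b = 0 := by
  have h1 : ∀ b : K, C.cr 1 b = 0 := by
    intro b
    obtain ⟨f, rfl⟩ := h b
    rw [hC, Algebra.algebraMap_eq_smul_one f, map_smul, C.tr_one, smul_eq_mul, mul_one,
      Algebra.algebraMap_eq_smul_one, C.add_selfK]
  by_cases ha : a = 0
  · rw [ha, C.cr_zero_left]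
  · have h2 := C.cr_mul a 1 (a⁻¹ * b)
    rw [mul_one, mul_inv_cancel_left₀ ha, h1, mul_zero] at h2
    exact h2

section

variable {G : Type u} [Group G] [Finite G] {P : Sylow 2 G} (co : Coord C (P : Subgroup G))

/-- **The essential subgroups of `P` are `Da` and `Db`.** -/
theorem eq_Da_or_eq_Db (hC : Reg C) (hK : 2 < Nat.card K)
    (hdeg : (∀ a b : K, C.cr a b = 0) ∨ Nat.card F ^ 2 < Nat.card K) {D : Subgroup G}
    (hD : Ess 2 (P : Subgroup G) D) : D = Da co ∨ D = Db co := by
  obtain ⟨H, hE⟩ := hD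
  have := Abel.finite_F co
  have := Abel.finite_K co
  exact Step3.eq_Da_or_eq_Db hE (Step2.F0_le_X P.isPGroup' hE co
    (fun t s ht hts => exists_smul_of_cr_eq_zero hC ht hts) hK) hC hdeg

/-- **Fusion in `P` is generated by `N(P)`, `N(Da)` and `N(Db)`.** -/
theorem gen_of_conj (hC : Reg C) (hK : 2 < Nat.card K)
    (hdeg : (∀ a b : K, C.cr a b = 0) ∨ Nat.card F ^ 2 < Nat.card K)
    {A : Subgroup G} (hA : A ≤ P) {g : G} (hg : A.map (MulAut.conj g).toMonoidHom ≤ P) :
    Gen (P : Subgroup G) (fun X => X = P ∨ X = Da co ∨ X = Db co) A g :=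
  Cfsg.Agent.Lib.EssBridge.gen_of_conj P _ (Or.inl rfl)
    (fun _ hX => Or.inr (eq_Da_or_eq_Db co hC hK hdeg hX)) hA hg

end

/-- the classification of essential subgroups in the form of `HexGlob.Spec` -/
theorem hEss (h : Dat C) : HEss.{u, v} C := by
  intro X _ _ S co D hD
  have := Abel.finite_F co
  have := Abel.finite_K co
  have h4 := h.q4
  rcases h.deg with hs | h3
  · refine eq_Da_or_eq_Db co h.reg ?_ (Or.inl (cr_eq_zero_of_surjective h.reg hs)) hD
    have := Nat.card_le_card_of_injective _ (algebraMap F K).injective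
    omega
  · have hfin : FiniteDimensional F K := inferInstance
    have hcard : Nat.card K = Nat.card F ^ 3 := by
      rw [Module.natCard_eq_pow_finrank (K := F) (V := K), h3]
    refine eq_Da_or_eq_Db co h.reg ?_ (Or.inr ?_) hD
    · rw [hcard]
      calc 2 < Nat.card F ^ 1 := by rw [pow_one]; omega
        _ ≤ Nat.card F ^ 3 := Nat.pow_le_pow_right (by omega) (by norm_num)
    · rw [hcard]
      exact Nat.pow_lt_pow_right (by omega) (by norm_num)

end Cfsg.Agent.HexEss.Final
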