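import Cfsg.Agent.HexEss.Common

/-!
# Essential subgroups of a hexagonal 2-group contain `E2 = Z_2(P)`
-/

set_option autoImplicit false

namespace Cfsg.Agent.HexEss.Step1

open Cfsg.Agent.HexRec Subgroup Cfsg.Agent.HexEss Cfsg.Agent.Hex.SE Cfsg.Agent.Lib.EssDefs
open Cfsg.Agent.HexEss.Common Cfsg.Agent.HexEss.Abel

universe u

variable {F K : Type*} [Field F] [Field K] [Algebra F K] {C : Cubic F K}
variable {G : Type u} [Group G] [Finite G] {P X H : Subgroup G} {co : Coord C P}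

theorem exists_Z_ne_one (co : Coord C P) : ∃ z ∈ Z co, z ≠ 1 := by
  obtain ⟨z, hz, hzc⟩ := exists_cx (co := co) ⟨0, 0, 0, 1, 0, 0⟩
  refine ⟨z, ⟨hz, by rw [hzc], by rw [hzc], by rw [hzc], by rw [hzc], by rw [hzc]⟩, ?_⟩
  rintro rfl
  rw [cx_one] at hzc
  exact zero_ne_one (congrArg Tup.a4 hzc)

/-- (Step 1 for subgroups of `Da`) if `X ≤ Da`, some element of `Ω₁(Z(X))` is not in `Z`, and (RED) holds: contradiction -/
theorem false_of_le_Da (h : IsEss 2 P X H) (co : Coord C P) (hXDa : X ≤ Da co)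
    (hCX : P ⊓ centralizer (omegaZ X : Set G) = X) (hrel : RelSE H (Cs (sec_omegaZ X)) X) {v0 : G}
    (hv0 : v0 ∈ omegaZ X) (hv0Z : v0 ∉ Z co) : False := by
  have hVDa : omegaZ X ≤ Da co := fun v hv => hXDa hv.1
  have hDaN : Da co ≤ normalizer (X : Set G) := fun t ht =>
    mem_normalizer_of_cm fun x hx => Z_le_X h (cm_mem_Z_of_Da ht (hXDa hx))
  obtain ⟨x, hx, hxH⟩ := hrel.1
  obtain ⟨-, s2, s3, -⟩ := omegaZ_se h hrel Da_le hDaN (Z1 := Z co) (C1 := Z co)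
    (fun a => ⟨fun ha => ⟨Z_le_omegaZ h ha, fun t ht => cm_Z ht.1 ha⟩,
      fun ha => mem_Z_of_Da (hVDa ha.1) ha.2⟩) le_rfl
    (fun t ht a ha => cm_mem_Z_of_Da ht (hVDa ha)) (fun a ha haZ z hz => exists_cm_Da (hVDa ha) haZ hz)
    ⟨v0, hv0, hv0Z⟩ hx hxH
  have hab : ∀ g ∈ X, ∀ k ∈ X, cm g k = 1 := by
    intro g hg k hk
    apply s2 _ (cm_mem_Z_of_Da (hXDa hg) (hXDa hk))
    rw [cm_conj]
    exact cm_mem_Z_of_Da (hXDa ((mem_normalizer_iff.1 hx g).1 hg)) (hXDa ((mem_normalizer_iff.1 hx k).1 hk))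
  obtain ⟨z, hz, hz1⟩ := exists_Z_ne_one co
  have hv1 : x * z * x⁻¹ ∈ Da co := hVDa (omegaZ_conj hx (Z_le_omegaZ h hz))
  obtain ⟨g, hg, k, hk, hg1, hk1, hgk⟩ := exists_nc_Da hv1
  have key : ∀ t ∈ Da co, cm t (x * z * x⁻¹) = 1 → t ∈ X := by
    intro t ht ht1
    have h1 := s3 z hz hz1 t ht ht1
    have h2 : t ∈ P ⊓ centralizer (omegaZ X : Set G) :=
      ⟨ht.1, mem_centralizer_iff.2 fun v hv => (cm_eq_one.1 (h1 v hv)).symm⟩
    rwa [hCX] at h2
  exact hgk (hab g (key g hg hg1) k (key k hk hk1))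

/-- **Step 1.** -/
theorem E2_le_X (hP : IsPGroup 2 P) (h : IsEss 2 P X H) (co : Coord C P) : E2 co ≤ X := by
  by_contra hE
  obtain ⟨e0, he0, he0X⟩ := SetLike.not_le_iff_exists.1 hE
  have hXP : X ≤ P := h.lt.le
  -- some element of `Ω₁(Z(X))` is not in `Db`
  have hVDb : ¬ omegaZ X ≤ Db co := by
    intro hV
    apply he0X
    apply mem_of_chain2 hP h (V := omegaZ X) (fun _ hv => hv.1) (fun n hn v hv => omegaZ_conj hn hv) he0.1
    · intro x hx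
      rw [cm_swap]
      exact inv_mem (Z_le_omegaZ h (cm_mem_Z (hXP hx) he0))
    · intro v hv
      rw [cm_swap, cm_Db_E2 (hV hv) he0, inv_one]
  obtain ⟨v0, hv0, hv0D⟩ := SetLike.not_le_iff_exists.1 hVDb
  have hv0P : v0 ∈ P := hXP hv0.1
  have h6 : (cx co v0).a6 ≠ 0 := fun h6 => hv0D ⟨hv0P, h6⟩
  have h1 : (cx co v0).a1 = 0 := by
    have h2 := a5_sq (co := co) hv0P
    rw [hv0.2.2, cx_one] at h2
    exact (smul_eq_zero.1 h2.symm).resolve_left h6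
  have hXDa : X ≤ Da co := by
    intro g hg
    refine ⟨hXP hg, ?_⟩
    have h2 := a5_cm_Da (co := co) (hXP hg) hv0P h1
    rw [cm_omegaZ hv0 hg, cx_one] at h2
    exact (smul_eq_zero.1 h2.symm).resolve_left h6
  -- an element of `E2` not commuting with `v0`
  obtain ⟨e1, he1P, he1c⟩ := exists_cx (co := co) ⟨0, 1, 0, 0, 0, 0⟩
  have he1 : e1 ∈ E2 co := ⟨he1P, by rw [he1c], by rw [he1c], by rw [he1c], by rw [he1c]⟩
  have hcm : cm e1 v0 ≠ 1 := by
    rw [cm_swap]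
    intro h2
    rw [inv_eq_one] at h2
    have h3 := a4_cm_F0 (co := co) hv0P he1P he1.2.1 he1.2.2.2.1 he1.2.2.2.2
    rw [h2, cx_one, he1c] at h3
    simp only [mul_one, C.T_zero_right, add_zero] at h3
    exact h6 h3.symm
  have he1X : ∀ x ∈ X, cm e1 x ∈ omegaZ X := by
    intro x hx
    rw [cm_swap]
    exact inv_mem (Z_le_omegaZ h (cm_mem_Z (hXP hx) he1))
  have he1sq : e1 * e1 = 1 := sq_F0 (E2_le_F0 he1)
  have hrel := relSE2 hP h he1P (by rw [he1sq]; exact one_mem X) hv0 hcm he1X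
  have hCX := centralizer_omegaZ hP h he1P (mem_normalizer_of_cm fun x hx => (he1X x hx).1)
    (by rw [he1sq]; exact one_mem _) hv0 (fun hh => hcm (cm_eq_one.2 hh))
  exact false_of_le_Da h co hXDa hCX hrel hv0 (fun hz => hv0D (Z_le_Db hz))

end Cfsg.Agent.HexEss.Step1
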